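import Groth.Agent.Lib.Segre.Normalization
import Groth.Prelude.Def_GrQuot
import Mathlib.RingTheory.HopkinsLevitzki
import Mathlib.RingTheory.KrullDimension.Module

/-!
# Graded modules over standard graded algebras
-/

universe u

open DirectSum

namespace GrothLib.Segre

section General

variable {R M τ σ : Type*} [CommRing R] [AddCommGroup M] [Module R M] [SetLike σ R] [AddSubgroupClass σ R]
  [SetLike τ M] [AddSubgroupClass τ M] (𝒜 : ℤ → σ) [GradedRing 𝒜]
  (ℳ : ℤ → τ) [Decomposition ℳ] [SetLike.GradedSMul 𝒜 ℳ]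

theorem decompose_smul_of_mem {e : ℤ} {m : M} (hm : m ∈ ℳ e) (r : R) (n : ℤ) :
    (decompose ℳ (r • m) n : M) = (decompose 𝒜 r (n - e) : R) • m := by
  classical
  induction r using DirectSum.Decomposition.inductionOn 𝒜 with
  | zero => simp
  | @homogeneous i r =>
    have h : (r : R) • m ∈ ℳ (i + e) := SetLike.GradedSMul.smul_mem r.2 hm
    by_cases hi : i + e = n
    · subst hi
      rw [decompose_of_mem_same ℳ h, add_sub_cancel_right, decompose_of_mem_same 𝒜 r.2]
    · rw [decompose_of_mem_ne ℳ h hi, decompose_of_mem_ne 𝒜 r.2 (by omega), zero_smul]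
  | add a b ha hb =>
    rw [add_smul, decompose_add, decompose_add, DirectSum.add_apply, DirectSum.add_apply, AddMemClass.coe_add,
      AddMemClass.coe_add, ha, hb, add_smul]

include ℳ in
/-- The annihilator of a graded module is homogeneous. -/
theorem annihilator_isHomogeneous : (Module.annihilator R M).IsHomogeneous 𝒜 := by
  classical
  intro i r hr
  rw [Module.mem_annihilator] at hr ⊢
  intro m
  induction m using DirectSum.Decomposition.inductionOn ℳ with
  | zero => simp
  | @homogeneous e m =>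
    rw [show i = i + e - e by ring, ← decompose_smul_of_mem 𝒜 ℳ m.2, hr, decompose_zero]
    rfl
  | add a b ha hb => rw [smul_add, ha, hb, add_zero]

variable (R) in
theorem exists_homogeneous_gens [Module.Finite R M] :
    ∃ (g : ℕ) (m : Fin g → M) (e : Fin g → ℤ), (∀ a, m a ∈ ℳ (e a)) ∧ Submodule.span R (Set.range m) = ⊤ := by
  classical
  obtain ⟨s, hs⟩ := Module.Finite.fg_top (R := R) (M := M)
  let J : Finset (M × ℤ) := s.biUnion fun x => (decompose ℳ x).support.image fun i => (x, i)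
  let eq := J.equivFin
  refine ⟨J.card, fun a => (decompose ℳ (eq.symm a).1.1 (eq.symm a).1.2 : M), fun a => (eq.symm a).1.2,
    fun a => (decompose ℳ _ _).2, top_unique (hs.ge.trans (Submodule.span_le.2 fun x hx => ?_))⟩
  rw [SetLike.mem_coe, ← sum_support_decompose ℳ x]
  refine Submodule.sum_mem _ fun i hi => Submodule.subset_span ⟨eq ⟨(x, i), Finset.mem_biUnion.2
    ⟨x, hx, Finset.mem_image.2 ⟨i, hi, rfl⟩⟩⟩, ?_⟩
  exact congrArg (fun q : J => (decompose ℳ q.1.1 q.1.2 : M)) (eq.symm_apply_apply _)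

/-- Homogeneous elements are homogeneous combinations of homogeneous generators. -/
theorem exists_eq_sum {g : ℕ} {m : Fin g → M} {e : Fin g → ℤ} (hm : ∀ a, m a ∈ ℳ (e a))
    (hspan : Submodule.span R (Set.range m) = ⊤) {n : ℤ} {y : M} (hy : y ∈ ℳ n) :
    ∃ c : Fin g → R, (∀ a, c a ∈ 𝒜 (n - e a)) ∧ y = ∑ a, c a • m a := by
  classical
  obtain ⟨c, hc⟩ := (Submodule.mem_span_range_iff_exists_fun R).1 (hspan ▸ Submodule.mem_top : y ∈ _)
  refine ⟨fun a => (decompose 𝒜 (c a) (n - e a) : R), fun a => (decompose 𝒜 _ _).2, ?_⟩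
  conv_lhs => rw [← decompose_of_mem_same ℳ hy, ← hc]
  rw [decompose_sum, DFinsupp.finsetSum_apply, AddSubmonoidClass.coe_finsetSum]
  exact Finset.sum_congr rfl fun a _ => decompose_smul_of_mem 𝒜 ℳ (hm a) _ _

end General

variable {k R : Type u} [Field k] [CommRing R] [Algebra k R] (𝒜 : ℤ → Submodule k R) [GradedAlgebra 𝒜]
  {M : Type u} [AddCommGroup M] [Module R M] [Module k M] [IsScalarTower k R M]
  (ℳ : ℤ → AddSubgroup M) [Decomposition ℳ] [SetLike.GradedSMul 𝒜 ℳ]

variable (hpos : ∀ n : ℤ, n < 0 → 𝒜 n = ⊥) (h0 : 𝒜 0 = Submodule.span k {(1 : R)})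

/-- A finite set of degree one generators of the irrelevant ideal. -/
theorem exists_deg_one_gens [Algebra.FiniteType k R]
    (hstd : Ideal.span (⋃ n ∈ Set.Ioi (0 : ℤ), (𝒜 n : Set R)) = Ideal.span ((𝒜 1 : Submodule k R) : Set R)) :
    ∃ F : Finset R, (∀ f ∈ F, f ∈ 𝒜 1) ∧ irrel 𝒜 ≤ Ideal.span (F : Set R) := by
  haveI : IsNoetherianRing R := Algebra.FiniteType.isNoetherianRing k R
  obtain ⟨F, hF, hspan⟩ := (Submodule.fg_span_iff_fg_span_finset_subset (R := R) ((𝒜 1 : Submodule k R) : Set R)).1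
    (IsNoetherian.noetherian _)
  exact ⟨F, fun f hf => hF hf, (hstd.trans hspan).le⟩

variable {F : Finset R} (hF : ∀ f ∈ F, f ∈ 𝒜 1) (hFs : irrel 𝒜 ≤ Ideal.span (F : Set R))

include hF hFs

theorem exists_eq_sum_deg_one {j : ℤ} (hj : 0 < j) {r : R} (hr : r ∈ 𝒜 j) :
    ∃ c : R → R, (∀ f ∈ F, c f ∈ 𝒜 (j - 1)) ∧ r = ∑ f ∈ F, c f * f := by
  classical
  obtain ⟨c, hc⟩ := Submodule.mem_span_finset'.1 (hFs (mem_irrel 𝒜 hj hr))
  let c' : R → R := fun f => if h : f ∈ F then c ⟨f, h⟩ else 0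
  have hc' : ∑ f ∈ F, c' f * f = r := by
    rw [← hc, ← Finset.sum_coe_sort]
    exact Finset.sum_congr rfl fun f _ => by simp [c']
  refine ⟨fun f => (decompose 𝒜 (c' f) (j - 1) : R), fun f _ => (decompose 𝒜 _ _).2, ?_⟩
  conv_lhs => rw [← decompose_of_mem_same 𝒜 hr, ← hc']
  rw [decompose_sum, DFinsupp.finsetSum_apply, AddSubmonoidClass.coe_finsetSum]
  refine Finset.sum_congr rfl fun f hf => ?_
  have h := DirectSum.coe_decompose_mul_add_of_right_mem (𝒜 := 𝒜) (a := c' f) (i := j - 1) (hF f hf)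
  rwa [sub_add_cancel] at h

/-- Above the degrees of generators the module is generated by the previous piece. -/
theorem step {g : ℕ} {m : Fin g → M} {e : Fin g → ℤ} (hm : ∀ a, m a ∈ ℳ (e a))
    (hspan : Submodule.span R (Set.range m) = ⊤) {G : ℤ} (hG : ∀ a, e a ≤ G) {n : ℤ} (hn : G ≤ n) {y : M}
    (hy : y ∈ ℳ (n + 1)) : ∃ x : R → M, (∀ f ∈ F, x f ∈ ℳ n) ∧ y = ∑ f ∈ F, f • x f := by
  classical
  obtain ⟨c, hc, rfl⟩ := exists_eq_sum 𝒜 ℳ hm hspan hy
  choose d hd hcd using fun a => exists_eq_sum_deg_one 𝒜 hF hFs (j := n + 1 - e a) (by have := hG a; omega) (hc a)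
  refine ⟨fun f => ∑ a, d a f • m a, fun f hf => AddSubgroup.sum_mem _ fun a _ => ?_, ?_⟩
  · have h : d a f • m a ∈ ℳ ((n + 1 - e a - 1) + e a) := SetLike.GradedSMul.smul_mem (hd a f hf) (hm a)
    rwa [show n + 1 - e a - 1 + e a = n by ring] at h
  · simp only [Finset.smul_sum]
    rw [Finset.sum_comm]
    refine Finset.sum_congr rfl fun a _ => ?_
    conv_lhs => rw [hcd a, Finset.sum_smul]
    exact Finset.sum_congr rfl fun f _ => by rw [smul_smul, mul_comm]

include hpos h0

theorem exists_span_piece (j : ℤ) : ∃ E : Finset R, (∀ x ∈ E, x ∈ 𝒜 j) ∧ 𝒜 j ≤ Submodule.span k (E : Set R) := by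
  classical
  rcases lt_or_ge j 0 with hj | hj
  · exact ⟨∅, by simp, by simp [hpos j hj]⟩
  obtain ⟨n, rfl⟩ := Int.eq_ofNat_of_zero_le hj
  induction n with
  | zero => exact ⟨{1}, fun x hx => Finset.mem_singleton.1 hx ▸ SetLike.one_mem_graded 𝒜, by simp [h0]⟩
  | succ n ih =>
    obtain ⟨E, hE, hEs⟩ := ih (by positivity)
    refine ⟨(E ×ˢ F).image fun p => p.1 * p.2, fun x hx => ?_, fun r hr => ?_⟩
    · obtain ⟨⟨a, f⟩, hp, rfl⟩ := Finset.mem_image.1 hx
      obtain ⟨ha, hf⟩ := Finset.mem_product.1 hp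
      rw [Nat.cast_succ]
      exact SetLike.mul_mem_graded (hE a ha) (hF f hf)
    · obtain ⟨c, hc, rfl⟩ := exists_eq_sum_deg_one 𝒜 hF hFs (j := ((n + 1 : ℕ) : ℤ)) (by omega) hr
      refine Submodule.sum_mem _ fun f hf => ?_
      have hcf : c f ∈ Submodule.span k (E : Set R) := hEs (by simpa using hc f hf)
      generalize c f = z at hcf ⊢
      induction hcf using Submodule.span_induction with
      | mem a ha => exact Submodule.subset_span (Finset.mem_image.2 ⟨(a, f), Finset.mem_product.2 ⟨ha, hf⟩, rfl⟩)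
      | zero => simp
      | add a b _ _ ha hb => rw [add_mul]; exact add_mem ha hb
      | smul s a _ ha => rw [smul_mul_assoc]; exact Submodule.smul_mem _ _ ha

theorem exists_span_mod_piece {g : ℕ} {m : Fin g → M} {e : Fin g → ℤ} (hm : ∀ a, m a ∈ ℳ (e a))
    (hspan : Submodule.span R (Set.range m) = ⊤) (n : ℤ) :
    ∃ E : Finset M, (∀ x ∈ E, x ∈ ℳ n) ∧ ∀ y ∈ ℳ n, y ∈ Submodule.span k (E : Set M) := by
  classical
  choose E hE hEs using fun a => exists_span_piece 𝒜 hpos h0 hF hFs (n - e a)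
  refine ⟨Finset.univ.biUnion fun a => (E a).image fun r => r • m a, fun x hx => ?_, fun y hy => ?_⟩
  · obtain ⟨a, -, hx⟩ := Finset.mem_biUnion.1 hx
    obtain ⟨r, hr, rfl⟩ := Finset.mem_image.1 hx
    have h : r • m a ∈ ℳ ((n - e a) + e a) := SetLike.GradedSMul.smul_mem (hE a r hr) (hm a)
    rwa [sub_add_cancel] at h
  · obtain ⟨c, hc, rfl⟩ := exists_eq_sum 𝒜 ℳ hm hspan hy
    refine Submodule.sum_mem _ fun a _ => ?_
    have hca := hEs a (hc a)
    generalize c a = z at hca ⊢
    induction hca using Submodule.span_induction with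
    | mem r hr => exact Submodule.subset_span (Finset.mem_biUnion.2 ⟨a, Finset.mem_univ a, Finset.mem_image_of_mem _ hr⟩)
    | zero => simp
    | add x y _ _ hx hy => rw [add_smul]; exact add_mem hx hy
    | smul s r _ hr => rw [smul_assoc]; exact Submodule.smul_mem _ _ hr

omit hF hFs in
/-- A graded module which is not Artinian has positive dimension and is nonzero in all large degrees. -/
theorem one_le_of_not_isArtinian [Algebra.FiniteType k R] [Module.Finite R M] (d : ℕ)
    (hd : Module.supportDim R M = d) (hMA : ¬ IsArtinian R M) : 1 ≤ d := by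
  classical
  by_contra hlt
  obtain rfl : d = 0 := by omega
  haveI : IsNoetherianRing R := Algebra.FiniteType.isNoetherianRing k R
  rw [Module.supportDim_eq_ringKrullDim_quotient_annihilator] at hd
  haveI : IsArtinianRing (R ⧸ Module.annihilator R M) :=
    isArtinianRing_iff_krullDimLE_zero.2 (Ring.krullDimLE_iff.2 hd.le)
  haveI : IsArtinian R (R ⧸ Module.annihilator R M) :=
    isArtinian_of_surjective_algebraMap (R := R ⧸ Module.annihilator R M) (Ideal.Quotient.mk_surjective)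
  obtain ⟨g, m, hspan⟩ := Module.Finite.exists_fin (R := R) (M := M)
  let σ : Fin g → ((R ⧸ Module.annihilator R M) →ₗ[R] M) := fun a =>
    Submodule.liftQ (Module.annihilator R M) (LinearMap.toSpanSingleton R M (m a)) fun r hr => by
      simp [Module.mem_annihilator.1 hr]
  refine hMA (isArtinian_of_surjective (Fin g → R ⧸ Module.annihilator R M) (∑ a, (σ a).comp (LinearMap.proj a)) ?_)
  intro y
  obtain ⟨c, rfl⟩ := (Submodule.mem_span_range_iff_exists_fun R).1 (hspan ▸ Submodule.mem_top : y ∈ _)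
  refine ⟨fun a => Ideal.Quotient.mk _ (c a), ?_⟩
  rw [LinearMap.coe_sum, Finset.sum_apply]
  rfl

theorem exists_ne_zero_piece [Module.Finite R M] [Algebra.FiniteType k R] (d : ℕ)
    (hd : Module.supportDim R M = d) (hMA : ¬ IsArtinian R M) {g : ℕ} {m : Fin g → M} {e : Fin g → ℤ}
    (hm : ∀ a, m a ∈ ℳ (e a)) (hspan : Submodule.span R (Set.range m) = ⊤) {G : ℤ} (hG : ∀ a, e a ≤ G) :
    ∃ y ∈ ℳ G, y ≠ 0 := by
  classical
  by_contra hne
  push Not at hne
  have h1 : 1 ≤ d := one_le_of_not_isArtinian 𝒜 hpos h0 d hd hMA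
  have hzero : ∀ (l : ℕ) (y : M), y ∈ ℳ (G + l) → y = 0 := by
    intro l
    induction l with
    | zero => intro y hy; exact hne y (by simpa using hy)
    | succ l ih =>
      intro y hy
      obtain ⟨x, hx, rfl⟩ := step 𝒜 ℳ hF hFs hm hspan hG (n := G + l) (by omega) (by
        rwa [Nat.cast_succ, ← add_assoc] at hy)
      exact Finset.sum_eq_zero fun f hf => by rw [ih _ (hx f hf), smul_zero]
  have hirr : irrel 𝒜 ≤ (Module.annihilator R M).radical := hFs.trans (Ideal.span_le.2 fun f hf => by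
    let L : ℕ := Finset.univ.sup fun a : Fin g => (G - e a).toNat
    refine ⟨L, Module.mem_annihilator.2 fun y => ?_⟩
    obtain ⟨c, rfl⟩ := (Submodule.mem_span_range_iff_exists_fun R).1 (hspan ▸ Submodule.mem_top : y ∈ _)
    rw [Finset.smul_sum]
    refine Finset.sum_eq_zero fun a _ => ?_
    rw [smul_comm]
    have hL : (G - e a).toNat ≤ L := Finset.le_sup (f := fun a => (G - e a).toNat) (Finset.mem_univ a)
    have hmem : f ^ L • m a ∈ ℳ ((L : ℤ) + e a) := by
      have h := SetLike.pow_mem_graded L (hF f hf)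
      rw [nsmul_eq_mul, mul_one] at h
      exact SetLike.GradedSMul.smul_mem h (hm a)
    rw [hzero ((L : ℤ) + e a - G).toNat (f ^ L • m a) (by
      rw [show G + (((L : ℤ) + e a - G).toNat : ℤ) = (L : ℤ) + e a by omega]; exact hmem), smul_zero])
  haveI : IsNoetherianRing R := Algebra.FiniteType.isNoetherianRing k R
  rw [Module.supportDim_eq_ringKrullDim_quotient_annihilator, ringKrullDim_quotient] at hd
  haveI : Subsingleton (PrimeSpectrum.zeroLocus (Module.annihilator R M : Set R)) := ⟨fun p q => by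
    have hp : irrel 𝒜 ≤ p.1.asIdeal := hirr.trans (p.1.isPrime.radical_le_iff.2 p.2)
    have hq : irrel 𝒜 ≤ q.1.asIdeal := hirr.trans (q.1.isPrime.radical_le_iff.2 q.2)
    exact Subtype.ext (PrimeSpectrum.ext ((eq_of_irrel_le 𝒜 hpos h0 p.1.isPrime.ne_top le_rfl hp).trans
      (eq_of_irrel_le 𝒜 hpos h0 q.1.isPrime.ne_top le_rfl hq).symm))⟩
  have := Order.krullDim_nonpos_of_subsingleton (α := PrimeSpectrum.zeroLocus (Module.annihilator R M : Set R))
  rw [hd] at this
  have : d ≤ 0 := by exact_mod_cast this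
  omega

end GrothLib.Segre
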