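import Groth.Agent.Lib.Segre.FreeCrit
import Groth.Agent.Lib.Segre.Module
import Groth.Agent.Lib.GrDual.Basic
import Groth.Agent.Lib.GrLC.CutTop
import Groth.Agent.Lib.GrLC.CoreHeight
import Groth.Agent.Lib.GrLC.Acyc
import Groth.Agent.Lib.GrLC.ExtVanish
import Groth.Agent.Lib.LC.TopNonzero
import Groth.Agent.Lib.LC.FlatBC
import Groth.Agent.S11627
import Groth.Prelude.Def_GrQuot

/-!
# Cohen–Macaulayness and dimension of a graded module from graded local cohomology
-/

universe u

open DirectSum RingTheory.Sequence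
open scoped TensorProduct Pointwise

namespace GrothLib.Segre

open GrothLib.GrLC
open _root_.GrLC (GMod StarInjRes)

variable {k T : Type u} [Field k] [CommRing T] [Algebra k T] {𝒯 : ℤ → Submodule k T} [GradedAlgebra 𝒯]
  [Algebra.FiniteType k T] [Nontrivial T]
  (hpos : ∀ n : ℤ, n < 0 → 𝒯 n = ⊥) (h0 : 𝒯 0 = Submodule.span k {(1 : T)})
  {m : HomogeneousIdeal 𝒯} (hm : m.toIdeal = Ideal.span (⋃ n ∈ Set.Ioi (0 : ℤ), (𝒯 n : Set T)))

include hpos h0 hm

omit [Algebra.FiniteType k T] in
theorem ne_top : m.toIdeal ≠ ⊤ := fun h => by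
  have h1 : (1 : T) ∈ irrel 𝒯 := hm.le (h ▸ Submodule.mem_top)
  have := coe_decompose_zero_of_mem_irrel 𝒯 hpos h1
  rw [DirectSum.decompose_of_mem_same 𝒯 SetLike.GradedOne.one_mem] at this
  exact one_ne_zero this

omit [Algebra.FiniteType k T] in
theorem eq_of_le_prime {p : Ideal T} (hp : p ≠ ⊤) (h : m.toIdeal ≤ p) : p = m.toIdeal :=
  eq_of_irrel_le 𝒯 hpos h0 hp hm.ge h

omit [Algebra.FiniteType k T] in
theorem isMaximal : m.toIdeal.IsMaximal :=
  ⟨⟨ne_top hpos h0 hm, fun J hJ => by
    by_contra h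
    exact hJ.ne (eq_of_le_prime hpos h0 hm h hJ.le).symm⟩⟩

omit [Algebra.FiniteType k T] in
theorem le_of_ne_top {J : HomogeneousIdeal 𝒯} (hJ : J.toIdeal ≠ ⊤) : J.toIdeal ≤ m.toIdeal := by
  intro x hx
  obtain ⟨S, hS⟩ := exists_sum_cmp 𝒯 x
  rw [hS]
  refine sum_mem fun g _ => ?_
  rcases lt_trichotomy g 0 with h | rfl | h
  · rw [eq_zero_of_neg 𝒯 hpos h (cmp_mem 𝒯 g x)]; exact zero_mem _
  · obtain ⟨c, hc⟩ := Submodule.mem_span_singleton.1 (h0.le (cmp_mem 𝒯 0 x))
    by_cases hc0 : c = 0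
    · rw [← hc, hc0, zero_smul]; exact zero_mem _
    refine absurd (J.toIdeal.eq_top_of_isUnit_mem (J.isHomogeneous 0 hx) ?_) hJ
    change IsUnit (cmp 𝒯 0 x)
    rw [← hc, ← Algebra.algebraMap_eq_smul_one]
    exact (isUnit_iff_ne_zero.2 hc0).map _
  · exact hm.ge (Ideal.subset_span (Set.mem_iUnion₂.2 ⟨g, h, cmp_mem 𝒯 g x⟩))

/-- The homogeneous core of a prime in the support is in the support and below `m`. -/
theorem core_mem_support (X : GMod.{u} 𝒯) [Module.Finite T X.carrier] {q : PrimeSpectrum T}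
    (hq : q ∈ Module.support T X.carrier) :
    ∃ Q : PrimeSpectrum T, Q.asIdeal = (q.asIdeal.homogeneousCore 𝒯).toIdeal ∧ Q ∈ Module.support T X.carrier ∧
      Q.asIdeal ≤ m.toIdeal := by
  have hIp : (q.asIdeal.homogeneousCore 𝒯).toIdeal.IsPrime := Ideal.IsPrime.homogeneousCore (𝒜 := 𝒯) q.isPrime
  refine ⟨⟨_, hIp⟩, rfl, Module.mem_support_iff_of_finite.2 ?_, le_of_ne_top hpos h0 hm hIp.ne_top⟩
  exact (Ideal.IsHomogeneous.toIdeal_homogeneousCore_eq_self (annihilator_isHomogeneous 𝒯 X.gr)).ge.trans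
    (Ideal.homogeneousCore_mono 𝒯 (Module.mem_support_iff_of_finite.1 hq))

theorem nontrivial_localized (X : GMod.{u} 𝒯) [Module.Finite T X.carrier] [Nontrivial X.carrier]
    [m.toIdeal.IsPrime] : Nontrivial (LocalizedModule m.toIdeal.primeCompl X.carrier) := by
  obtain ⟨q, hq⟩ := Module.nonempty_support_of_nontrivial (R := T) (M := X.carrier)
  obtain ⟨Q, -, hQ, hQm⟩ := core_mem_support hpos h0 hm X hq
  exact Module.mem_support_mono (show Q ≤ ⟨m.toIdeal, inferInstance⟩ from hQm) hQ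

variable [m.toIdeal.IsPrime]

/-- Local cohomology does not change on localising at `m`. -/
theorem nontrivial_H_iff {P : Type u} [AddCommGroup P] [Module T P] {τ : Type u} [SetLike τ P]
    [AddSubgroupClass τ P] {𝒬 : ℤ → τ} [Decomposition 𝒬] [SetLike.GradedSMul 𝒯 𝒬] (E : StarInjRes 𝒯 𝒬) (i : ℕ) :
    Nontrivial (LocCoh.H (IsLocalRing.maximalIdeal (Localization.AtPrime m.toIdeal)) i
      (LocalizedModule m.toIdeal.primeCompl P)) ↔ ∃ g, E.Hcomp m i g ≠ ⊥ := by
  have : IsNoetherianRing T := Algebra.FiniteType.isNoetherianRing k T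
  let A := Localization.AtPrime m.toIdeal
  have : IsNoetherianRing A := IsLocalization.isNoetherianRing m.toIdeal.primeCompl _ inferInstance
  obtain ⟨e₀⟩ := nonempty_EH_equiv E m i
  obtain ⟨e₁⟩ := LC.nonempty_baseChange_equiv (R' := A) m.toIdeal i P
  let e₂ := ((localCohomology (m.toIdeal.map (algebraMap T A)) i).mapIso
    (LocalizedModule.equivTensorProduct m.toIdeal.primeCompl P).symm.toModuleIso).toLinearEquiv
  have e₃ : ((localCohomology (m.toIdeal.map (algebraMap T A)) i).obj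
      (ModuleCat.of A (LocalizedModule m.toIdeal.primeCompl P))) ≃ₗ[A]
      LocCoh.H (IsLocalRing.maximalIdeal A) i (LocalizedModule m.toIdeal.primeCompl P) :=
    ((localCohomology.isoOfSameRadical (by rw [Localization.AtPrime.map_eq_maximalIdeal]) i).app _).toLinearEquiv
  rw [← ((e₁.trans e₂).trans e₃).toEquiv.nontrivial_congr,
    ← ((LocalizedModule.equivTensorProduct m.toIdeal.primeCompl _)).toEquiv.nontrivial_congr]
  obtain ⟨l, hl⟩ := exists_hspan (𝒜 := 𝒯) (a := m)
  constructor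
  · intro h
    by_contra hc
    push Not at hc
    have hs : Subsingleton (E.H m i) :=
      subsingleton_EH_of_van E hl i fun g => (Hcomp_eq_bot_iff_van E hl i g).1 (hc g)
    have hs' := e₀.toEquiv.symm.subsingleton
    exact not_subsingleton_iff_nontrivial.2 h (LocalizedModule.subsingleton_iff.2
      fun z => ⟨1, one_mem _, Subsingleton.elim _ _⟩)
  · rintro ⟨g, hg⟩
    obtain ⟨x, -, hx0⟩ := (Submodule.ne_bot_iff _).1 hg
    rw [← not_subsingleton_iff_nontrivial, LocalizedModule.subsingleton_iff]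
    intro h
    obtain ⟨u, hu, hu0⟩ := h (e₀ x)
    obtain ⟨N, hN⟩ := LC.isPowerTorsion m.toIdeal i (ModuleCat.of T P) (e₀ x)
    have := isMaximal hpos h0 hm
    obtain ⟨b, s, hs, hbs⟩ := Ideal.IsMaximal.exists_inv (I := m.toIdeal) this hu
    obtain ⟨c, hc⟩ : u ∣ 1 - s ^ N := by
      have h1 : u ∣ 1 - s := ⟨b, by linear_combination -hbs⟩
      exact h1.trans (by simpa using sub_dvd_pow_sub_pow (1 : T) s N)
    refine hx0 (e₀.injective ?_)
    rw [map_zero, ← one_smul T (e₀ x), show (1 : T) = c * u + s ^ N by linear_combination hc, add_smul, mul_smul,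
      hu0, smul_zero, zero_add, hN _ (Ideal.pow_mem_pow hs N)]

omit [m.toIdeal.IsPrime] in
theorem exists_regular_elt {l : List (HElt 𝒯)} (hl : (hspan l).toIdeal = m.toIdeal) (X : GMod.{u} 𝒯)
    [Module.Finite T X.carrier] (h : ∀ g, Van l X 0 g) :
    ∃ x : HElt 𝒯, 0 < x.deg ∧ x.val ∈ m.toIdeal ∧ IsSMulRegular X.carrier x.val := by
  classical
  have : IsNoetherianRing T := Algebra.FiniteType.isNoetherianRing k T
  have hΓ : ∀ v : X.carrier, v ∈ _root_.GrLC.gam (hspan l).toIdeal X.carrier → v = 0 := fun v hv =>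
    eq_zero_of_cmp X.gr fun g => (van_zero_iff g).1 (h g) _ (cmp_mem X.gr g v) (isHomogeneous_gam (hspan l) g hv)
  have hfin := associatedPrimes.finite T X.carrier
  have hne : ∀ p ∈ associatedPrimes T X.carrier, ¬ irrel 𝒯 ≤ p := by
    intro p hp hle
    obtain ⟨hpp, v, hv⟩ := hp
    have hpm := eq_of_irrel_le 𝒯 hpos h0 hpp.ne_top (q := m.toIdeal) hm.ge (hm.le.trans hle)
    have hle' : m.toIdeal ≤ ((⊥ : Submodule T X.carrier).colon {v}).radical := hpm ▸ hv.le
    obtain ⟨N, hN⟩ := Ideal.exists_pow_le_of_le_radical_of_fg hle' (IsNoetherian.noetherian _)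
    have hv0 : v = 0 := hΓ v ⟨N, fun r hr => by
      rw [hl] at hr
      simpa [Submodule.mem_colon_singleton] using hN hr⟩
    subst hv0
    exact hpp.ne_top (hv.trans (by simp [Submodule.colon_singleton_zero, Ideal.radical_top]))
  let C := hfin.toFinset.image fun p => (p.homogeneousCore 𝒯).toIdeal
  let M := C.filter fun p => ∀ q ∈ C, p ≤ q → q = p
  have hC : ∀ p ∈ C, p.IsPrime ∧ p.IsHomogeneous 𝒯 ∧ ¬ irrel 𝒯 ≤ p := by
    intro p hp
    obtain ⟨q, hq, rfl⟩ := Finset.mem_image.1 hp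
    rw [Set.Finite.mem_toFinset] at hq
    exact ⟨Ideal.IsPrime.homogeneousCore (𝒜 := 𝒯) hq.1, HomogeneousIdeal.isHomogeneous _,
      fun h' => hne q hq (h'.trans (Ideal.toIdeal_homogeneousCore_le 𝒯 q))⟩
  obtain ⟨e, x, he, hxe, hxM⟩ := exists_homogeneous_notMem 𝒯 hpos h0 M
    (fun p hp => hC p (Finset.mem_filter.1 hp).1)
    (fun p hp q hq hqp => ((Finset.mem_filter.1 hq).2 p (Finset.mem_filter.1 hp).1 hqp).symm)
  refine ⟨⟨x, e, hxe⟩, Int.natCast_pos.2 he, hm.ge (mem_irrel 𝒯 (Int.natCast_pos.2 he) hxe), ?_⟩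
  rw [isSMulRegular_iff_right_eq_zero_of_smul]
  intro v hv
  by_contra hv0
  obtain ⟨p, hp, hxp⟩ := Set.mem_iUnion₂.1 ((biUnion_associatedPrimes_eq_zero_divisors T X.carrier).ge
    (show x ∈ {r : T | ∃ y : X.carrier, y ≠ 0 ∧ r • y = 0} from ⟨v, hv0, hv⟩))
  have hxc : x ∈ (p.homogeneousCore 𝒯).toIdeal := Ideal.mem_homogeneousCore_of_homogeneous_of_mem ⟨e, hxe⟩ hxp
  obtain ⟨Q, hQ1, hQ2⟩ := C.exists_le_maximal (Finset.mem_image_of_mem _ (hfin.mem_toFinset.2 hp))
  exact hxM Q (Finset.mem_filter.2 ⟨hQ2.1, fun q hq hle => le_antisymm (hQ2.2 hq hle) hle⟩) (hQ1 hxc)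

/-- A regular sequence of homogeneous parameters. -/
theorem exists_params {l : List (HElt 𝒯)} (hl : (hspan l).toIdeal = m.toIdeal) : ∀ (n : ℕ) (X : GMod.{u} 𝒯),
    Module.Finite T X.carrier → (∀ i < n, ∀ g, Van l X i g) →
    Module.supportDim (Localization.AtPrime m.toIdeal) (LocalizedModule m.toIdeal.primeCompl X.carrier) ≤
      (n : WithBot ℕ∞) →
    ∃ θ : Fin n → HElt 𝒯, (∀ i, 0 < (θ i).deg) ∧ IsWeaklyRegular X.carrier (List.ofFn fun i => (θ i).val) ∧
      ∃ N : ℕ, ∀ r ∈ m.toIdeal ^ N, ∀ v : X.carrier,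
        r • v ∈ Ideal.ofList (List.ofFn fun i => (θ i).val) • (⊤ : Submodule T X.carrier) := by
  have : IsNoetherianRing T := Algebra.FiniteType.isNoetherianRing k T
  intro n
  induction n with
  | zero =>
    intro X hX _ hdim
    have hle : m.toIdeal ≤ (Module.annihilator T X.carrier).radical := by
      rw [Ideal.radical_eq_sInf]
      refine le_sInf fun q ⟨hqJ, hq⟩ => ?_
      have hqs : (⟨q, hq⟩ : PrimeSpectrum T) ∈ Module.support T X.carrier :=
        Module.mem_support_iff_of_finite.2 hqJ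
      obtain ⟨Q, hQ1, hQ2, hQ3⟩ := core_mem_support hpos h0 hm X hqs
      rw [supportDim_localized] at hdim
      by_contra hc
      have hne : Q.asIdeal ≠ m.toIdeal := fun e => hc (e ▸ hQ1 ▸ Ideal.toIdeal_homogeneousCore_le 𝒯 q)
      let M₀ : PrimeSpectrum T := ⟨m.toIdeal, inferInstance⟩
      let a : {q : PrimeSpectrum T // q ∈ Module.support T X.carrier ∧ q.asIdeal ≤ m.toIdeal} := ⟨Q, hQ2, hQ3⟩
      let b : {q : PrimeSpectrum T // q ∈ Module.support T X.carrier ∧ q.asIdeal ≤ m.toIdeal} :=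
        ⟨M₀, Module.mem_support_mono (show Q ≤ M₀ from hQ3) hQ2, le_rfl⟩
      have hab : a < b := show Q < M₀ from lt_of_le_of_ne hQ3 fun e => hne (congrArg PrimeSpectrum.asIdeal e)
      have h1 := (Order.LTSeries.length_le_krullDim ((RelSeries.singleton _ a).snoc b hab)).trans hdim
      exact absurd h1 (by simp [RelSeries.snoc, RelSeries.append])
    obtain ⟨N, hN⟩ := Ideal.exists_pow_le_of_le_radical_of_fg hle (IsNoetherian.noetherian _)
    exact ⟨Fin.elim0, fun i => i.elim0, by rw [List.ofFn_zero]; exact IsWeaklyRegular.nil T X.carrier,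
      N, fun r hr v => by rw [Module.mem_annihilator.1 (hN hr) v]; exact zero_mem _⟩
  | succ n ih =>
    intro X hX hvan hdim
    obtain ⟨x, hxd, hxm, hxr⟩ := exists_regular_elt hpos h0 hm hl X (hvan 0 (Nat.succ_pos n))
    let X' : GMod.{u} 𝒯 := GrLC.quot X (LinearMap.range (mulShift X x)) (isHomogeneous_range (isHom_mulShift X x))
    let q : X.carrier →ₗ[T] X'.carrier := Submodule.mkQ _
    have hX' : Module.Finite T X'.carrier := Module.Finite.of_surjective q (Submodule.mkQ_surjective _)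
    obtain ⟨hlow, -⟩ := regular_step (X := X) (N := X') (l := l) (hl.ge hxm) hxd.le hxr q
      (isHom_mkQ X _ (isHomogeneous_range (isHom_mulShift X x))) (Submodule.mkQ_surjective _)
      (fun v => (Submodule.Quotient.mk_eq_zero _).trans ⟨fun h => h, fun h => h⟩) n hvan
    have hsm : x.val • (⊤ : Submodule T X.carrier) = LinearMap.range (mulShift X x) := by
      ext v
      constructor
      · rintro ⟨a, -, rfl⟩; exact ⟨a, rfl⟩
      · rintro ⟨a, rfl⟩; exact ⟨a, trivial, rfl⟩
    let eQ : QuotSMulTop x.val X.carrier ≃ₗ[T] X'.carrier := Submodule.quotEquivOfEq _ _ hsm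
    let A := Localization.AtPrime m.toIdeal
    let xA : A := algebraMap T A x.val
    have hdim' : Module.supportDim A (LocalizedModule m.toIdeal.primeCompl X'.carrier) ≤ (n : WithBot ℕ∞) := by
      have : IsNoetherianRing A := IsLocalization.isNoetherianRing m.toIdeal.primeCompl _ inferInstance
      have : Module.Finite A (LocalizedModule m.toIdeal.primeCompl X.carrier) :=
        Module.Finite.of_isLocalizedModule m.toIdeal.primeCompl (LocalizedModule.mkLinearMap m.toIdeal.primeCompl _)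
      have hs : Module.support A (LocalizedModule m.toIdeal.primeCompl X'.carrier) =
          Module.support A (QuotSMulTop xA (LocalizedModule m.toIdeal.primeCompl X.carrier)) := by
        ext P
        rw [mem_support_localized_iff, ← LinearEquiv.support_eq eQ, Module.support_quotSMulTop,
          Module.support_quotSMulTop, Set.mem_inter_iff, Set.mem_inter_iff, mem_support_localized_iff]
        simp only [xA, PrimeSpectrum.mem_zeroLocus, Set.singleton_subset_iff, SetLike.mem_coe,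
          PrimeSpectrum.comap_asIdeal, Ideal.mem_comap]
        tauto
      have hxr' : IsSMulRegular (LocalizedModule m.toIdeal.primeCompl X.carrier) xA :=
        (isWeaklyRegular_singleton_iff _ _).1 (((isWeaklyRegular_singleton_iff X.carrier x.val).2 hxr).of_isLocalizedModule
          A m.toIdeal.primeCompl (LocalizedModule.mkLinearMap m.toIdeal.primeCompl X.carrier))
      have h1 := LC.supportDim_quotSMulTop_add_one
        (x := xA) ((IsLocalization.AtPrime.to_map_mem_maximal_iff A m.toIdeal x.val).2 hxm) hxr'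
      refine LC.le_of_add_one_le_add_one ?_
      rw [Module.supportDim, hs, ← Module.supportDim, h1]
      exact hdim
    obtain ⟨θ, hθd, hθr, N, hN⟩ := ih X' hX' hlow hdim'
    refine ⟨Fin.cons x θ, fun i => Fin.cases hxd hθd i, ?_, N, fun r hr v => ?_⟩
    · rw [List.ofFn_succ, isWeaklyRegular_cons_iff]
      refine ⟨by simpa using hxr, ?_⟩
      simp only [Fin.cons_zero, Fin.cons_succ]
      exact (eQ.isWeaklyRegular_congr _).2 hθr
    · rw [List.ofFn_succ, Ideal.ofList_cons_smul]
      simp only [Fin.cons_zero, Fin.cons_succ]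
      have h : q (r • v) ∈ Ideal.ofList (List.ofFn fun i => (θ i).val) • (⊤ : Submodule T X'.carrier) := by
        rw [map_smul]; exact hN r hr (q v)
      have hq : LinearMap.range q = (⊤ : Submodule T X'.carrier) :=
        LinearMap.range_eq_top.2 (Submodule.mkQ_surjective _)
      rw [← hq, ← Submodule.map_top, ← Submodule.map_smul''] at h
      obtain ⟨y, hy, e⟩ := h
      have hd : r • v - y ∈ LinearMap.range (mulShift X x) := (Submodule.Quotient.eq _).1 e.symm
      rw [← hsm] at hd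
      have := add_mem (Submodule.mem_sup_left hd) (Submodule.mem_sup_right (S := x.val • (⊤ : Submodule T X.carrier)) hy)
      rwa [sub_add_cancel] at this

omit [m.toIdeal.IsPrime] in
theorem finite_quot_pow (N : ℕ) : Module.Finite k (T ⧸ m.toIdeal ^ N) := by
  have : Algebra.FiniteType k (T ⧸ m.toIdeal ^ N) :=
    Algebra.FiniteType.of_surjective (Ideal.Quotient.mkₐ k _) (Ideal.Quotient.mkₐ_surjective k _)
  have : Algebra.IsIntegral k (T ⧸ m.toIdeal ^ N) := ⟨fun y => by
    obtain ⟨y, rfl⟩ := Ideal.Quotient.mk_surjective y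
    induction y using gr_induction 𝒯 with
    | h0 => rw [map_zero]; exact isIntegral_zero
    | hh i y hy =>
      rcases lt_trichotomy i 0 with hi | rfl | hi
      · rw [eq_zero_of_neg 𝒯 hpos hi hy, map_zero]; exact isIntegral_zero
      · obtain ⟨c, hc⟩ := Submodule.mem_span_singleton.1 (h0.le hy)
        rw [← hc, ← Algebra.algebraMap_eq_smul_one]
        exact isIntegral_algebraMap (x := c)
      · refine ⟨Polynomial.X ^ (N + 1), Polynomial.monic_X_pow _, ?_⟩
        simp only [Polynomial.eval₂_X_pow]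
        rw [← map_pow, Ideal.Quotient.eq_zero_iff_mem, pow_succ]
        exact Ideal.mul_mem_right _ _ (Ideal.pow_mem_pow (hm.ge (mem_irrel 𝒯 hi hy)) N)
    | hadd a b ha hb => rw [map_add]; exact ha.add hb⟩
  exact Algebra.IsIntegral.finite

variable {P : Type u} [AddCommGroup P] [Module T P] [Module k P] [IsScalarTower k T P] [Module.Finite T P]
  {𝒬 : ℤ → AddSubgroup P} [Decomposition 𝒬] [SetLike.GradedSMul 𝒯 𝒬]

/-- Freeness over the parameters. -/
theorem exists_free (𝒬 : ℤ → AddSubgroup P) [Decomposition 𝒬] [SetLike.GradedSMul 𝒯 𝒬] {n : ℕ} (θ : Fin n → HElt 𝒯) (hθ : ∀ i, 0 < (θ i).deg)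
    (hreg : IsWeaklyRegular P (List.ofFn fun i => (θ i).val)) (N : ℕ)
    (hN : ∀ r ∈ m.toIdeal ^ N, ∀ v : P, r • v ∈ Ideal.ofList (List.ofFn fun i => (θ i).val) • (⊤ : Submodule T P)) :
    ∃ (j : ℕ) (e : Fin j → P), Function.Bijective fun c : Fin j → MvPolynomial (Fin n) k =>
      ∑ a, MvPolynomial.aeval (fun i => (θ i).val) (c a) • e a := by
  classical
  let U : Submodule T P := Ideal.ofList (List.ofFn fun i => (θ i).val) • ⊤
  let V := P ⧸ U
  have hfin : Module.Finite k V := by
    have := finite_quot_pow hpos h0 hm N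
    obtain ⟨g, gen, hgen⟩ := Module.Finite.exists_fin (R := T) (M := P)
    let σ : Fin g → ((T ⧸ m.toIdeal ^ N) →ₗ[k] V) := fun a => (Submodule.liftQ (m.toIdeal ^ N)
      (U.mkQ ∘ₗ LinearMap.toSpanSingleton T P (gen a)) fun r hr =>
        (Submodule.Quotient.mk_eq_zero U).2 (hN r hr _)).restrictScalars k
    refine Module.Finite.of_surjective (∑ a, (σ a).comp (LinearMap.proj a) : (Fin g → T ⧸ m.toIdeal ^ N) →ₗ[k] V) ?_
    intro v
    obtain ⟨v, rfl⟩ := Submodule.mkQ_surjective U v
    obtain ⟨c, rfl⟩ := (Submodule.mem_span_range_iff_exists_fun T).1 (hgen ▸ Submodule.mem_top : v ∈ _)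
    refine ⟨fun a => Ideal.Quotient.mk _ (c a), ?_⟩
    rw [LinearMap.coe_sum, Finset.sum_apply, map_sum]
    rfl
  let Hs : Set V := {v | ∃ (g : ℤ) (x : P), x ∈ 𝒬 g ∧ U.mkQ x = v}
  have hHs : (⊤ : Submodule k V) ≤ Submodule.span k Hs := by
    intro v _
    obtain ⟨v, rfl⟩ := Submodule.mkQ_surjective U v
    obtain ⟨S, hS⟩ := exists_sum_cmp 𝒬 v
    rw [hS, map_sum]
    exact sum_mem fun g _ => Submodule.subset_span ⟨g, _, cmp_mem 𝒬 g v, rfl⟩
  obtain ⟨b, hbH, hbs, hbi⟩ := exists_linearIndependent k Hs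
  have : Finite b := hbi.finite
  obtain ⟨j, ⟨eq⟩⟩ := Finite.exists_equiv_fin b
  choose de e he hev using fun a : Fin j => hbH (eq.symm a).2
  have hbspan : ∀ v : V, ∃ c : Fin j → k, ∑ a, c a • U.mkQ (e a) = v := by
    intro v
    have hr : Set.range (fun a => U.mkQ (e a)) = b := by
      ext w
      refine ⟨by rintro ⟨a, rfl⟩; change U.mkQ (e a) ∈ b; rw [hev a]; exact (eq.symm a).2, fun hw => ⟨eq ⟨w, hw⟩, by simp [hev]⟩⟩
    refine (Submodule.mem_span_range_iff_exists_fun k).1 ?_
    rw [hr, hbs]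
    exact hHs trivial
  have : IsNoetherianRing T := Algebra.FiniteType.isNoetherianRing k T
  refine ⟨j, e, (injective_iff_map_eq_zero
    ({ toFun := fun c : Fin j → MvPolynomial (Fin n) k =>
        ∑ a, MvPolynomial.aeval (fun i => (θ i).val) (c a) • e a
       map_zero' := by simp
       map_add' := fun c c' => by simp only [Pi.add_apply, map_add, add_smul, Finset.sum_add_distrib] } :
      (Fin j → MvPolynomial (Fin n) k) →+ P)).2 fun c hc => ?_, ?_⟩
  · refine indep_aeval n (fun i => (θ i).val) P hreg e (fun a ha => ?_) c hc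
    have h1 : ∑ x, a x • U.mkQ (e x) = 0 := by
      rw [← (Submodule.Quotient.mk_eq_zero U).2 ha]
      change _ = U.mkQ _
      rw [map_sum]
      exact Finset.sum_congr rfl fun x _ => (LinearMap.map_smul_of_tower _ _ _).symm
    funext x
    refine Fintype.linearIndependent_iff.1 ?_ a h1 x
    have : (fun a => U.mkQ (e a)) = (fun v : b => (v : V)) ∘ eq.symm := funext fun a => hev a
    rw [this]
    exact hbi.comp _ eq.symm.injective
  · let W : AddSubgroup P := AddMonoidHom.range
      ({ toFun := fun c : Fin j → MvPolynomial (Fin n) k =>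
          ∑ a, MvPolynomial.aeval (fun i => (θ i).val) (c a) • e a
         map_zero' := by simp
         map_add' := fun c c' => by simp only [Pi.add_apply, map_add, add_smul, Finset.sum_add_distrib] } :
        (Fin j → MvPolynomial (Fin n) k) →+ P)
    have hWθ : ∀ i, ∀ w ∈ W, (θ i).val • w ∈ W := by
      rintro i _ ⟨c, rfl⟩
      refine ⟨fun a => MvPolynomial.X i * c a, ?_⟩
      simp [Finset.smul_sum, mul_smul]
    have hWk : ∀ (a : Fin j) (c : k), c • e a ∈ W := fun a c =>
      ⟨Pi.single a (MvPolynomial.C c), by simp [Pi.single_apply, apply_ite, ite_smul]⟩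
    have : Module.Finite T (gmod 𝒯 𝒬).carrier := ‹Module.Finite T P›
    obtain ⟨lb, hlb⟩ := exists_lower_bound (𝒜 := 𝒯) (fun n hn r hr => eq_zero_of_neg 𝒯 hpos hn hr)
      (gmod 𝒯 𝒬)
    have key : ∀ (s : ℕ) (g : ℤ), g - lb < s → ∀ x ∈ 𝒬 g, x ∈ W := by
      intro s
      induction s with
      | zero => intro g hg x hx; rw [hlb g (by omega) x hx]; exact zero_mem _
      | succ s ih =>
        intro g hg x hx
        obtain ⟨c, hc⟩ := hbspan (U.mkQ x)
        have hd : x - ∑ a, c a • e a ∈ U := by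
          refine (Submodule.Quotient.eq U).1 (hc.symm.trans ?_)
          change _ = U.mkQ _
          rw [map_sum]
          exact Finset.sum_congr rfl fun a _ => (LinearMap.map_smul_of_tower _ _ _).symm
        have hU : ∀ y ∈ U, cmp 𝒬 g y ∈ W := by
          intro y hy
          refine Submodule.smul_induction_on hy (fun r hr v _ => ?_) fun u v hu hv => by rw [map_add]; exact add_mem hu hv
          induction hr using Submodule.span_induction generalizing v with
          | mem r hr =>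
            obtain ⟨i, rfl⟩ := List.mem_ofFn.1 hr
            rw [cmp_smul_of_mem 𝒬 (θ i).mem]
            exact hWθ i _ (ih _ (by have := hθ i; omega) _ (cmp_mem 𝒬 _ v))
          | zero => rw [zero_smul, map_zero]; exact zero_mem _
          | add a a' _ _ ha ha' => rw [add_smul, map_add]; exact add_mem (ha v trivial) (ha' v trivial)
          | smul a a' _ ha' => rw [smul_eq_mul, mul_comm, mul_smul]; exact ha' (a • v) trivial
        have h2 := hU _ hd
        rw [map_sub, cmp_of_mem 𝒬 hx, map_sum] at h2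
        have h3 : ∑ a, cmp 𝒬 g (c a • e a) ∈ W := sum_mem fun a _ => by
          by_cases hag : de a = g
          · subst hag
            rw [cmp_of_mem 𝒬 (GrothLib.GrDual.smulk_mem (𝒜 := 𝒯) 𝒬 (c a) (he a))]
            exact hWk a _
          · rw [cmp_of_mem_ne 𝒬 (GrothLib.GrDual.smulk_mem (𝒜 := 𝒯) 𝒬 (c a) (he a)) hag]
            exact zero_mem _
        simpa using add_mem h2 h3
    intro p
    have hp : p ∈ W := by
      obtain ⟨S, hS⟩ := exists_sum_cmp 𝒬 p
      rw [hS]
      exact sum_mem fun g _ => key ((g - lb).toNat + 1) g (by omega) _ (cmp_mem 𝒬 g p)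
    exact hp

/-- Cohen–Macaulay everywhere iff graded local cohomology is concentrated in one spot. -/
theorem cm_iff [Nontrivial P] (E : StarInjRes 𝒯 𝒬) :
    (∀ (q : Ideal T) [q.IsPrime], Subsingleton (LocalizedModule q.primeCompl P) ∨
      LocCoh.IsCohenMacaulayModule (Localization.AtPrime q) (LocalizedModule q.primeCompl P)) ↔
    ∃! i : ℕ, ∃ g, E.Hcomp m i g ≠ ⊥ := by
  have : IsNoetherianRing T := Algebra.FiniteType.isNoetherianRing k T
  have : IsNoetherianRing (Localization.AtPrime m.toIdeal) :=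
    IsLocalization.isNoetherianRing m.toIdeal.primeCompl _ inferInstance
  have : Module.Finite (Localization.AtPrime m.toIdeal) (LocalizedModule m.toIdeal.primeCompl P) :=
    Module.Finite.of_isLocalizedModule m.toIdeal.primeCompl (LocalizedModule.mkLinearMap m.toIdeal.primeCompl P)
  have : Nontrivial (gmod 𝒯 𝒬).carrier := ‹Nontrivial P›
  have : Module.Finite T (gmod 𝒯 𝒬).carrier := ‹Module.Finite T P›
  have hnt : Nontrivial (LocalizedModule m.toIdeal.primeCompl P) := nontrivial_localized hpos h0 hm (gmod 𝒯 𝒬)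
  have h11627 := Groth.Agent.S11627.result (Localization.AtPrime m.toIdeal) (LocalizedModule m.toIdeal.primeCompl P)
  simp only [nontrivial_H_iff hpos h0 hm E] at h11627
  refine ⟨fun h => h11627.2 ((h m.toIdeal).resolve_left (not_subsingleton_iff_nontrivial.2 hnt)), fun h q hq => ?_⟩
  obtain ⟨n, hn, huniq⟩ := h
  obtain ⟨D, hD⟩ : ∃ D : ℕ∞, (D : WithBot ℕ∞) =
      Module.supportDim (Localization.AtPrime m.toIdeal) (LocalizedModule m.toIdeal.primeCompl P) :=
    WithBot.ne_bot_iff_exists.1 (Module.supportDim_ne_bot_of_nontrivial _ _)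
  obtain ⟨d, rfl⟩ : ∃ d : ℕ, (d : ℕ∞) = D := ENat.ne_top_iff_exists.1 fun e => by
    have h2 := (Module.supportDim_le_ringKrullDim (Localization.AtPrime m.toIdeal)
      (LocalizedModule m.toIdeal.primeCompl P)).trans_lt ringKrullDim_lt_top
    rw [← hD, e] at h2
    exact lt_irrefl _ h2
  have hdn : d = n := huniq d ((nontrivial_H_iff hpos h0 hm E d).1
    (LC.not_finite_and_nontrivial_H_maximal d _ hD.symm).1)
  obtain ⟨l, hl⟩ := exists_hspan (𝒜 := 𝒯) (a := m)
  obtain ⟨θ, hθ, hreg, N, hN⟩ := exists_params hpos h0 hm hl n (gmod 𝒯 𝒬) inferInstance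
    (fun i hi g => (Hcomp_eq_bot_iff_van E hl i g).1 (by_contra fun h => hi.ne (huniq i ⟨g, h⟩)))
    (by rw [← hdn]; exact hD.ge)
  have hreg' : IsWeaklyRegular P (List.ofFn fun i => (θ i).val) := hreg
  have hN' : ∀ r ∈ m.toIdeal ^ N, ∀ v : P,
      r • v ∈ Ideal.ofList (List.ofFn fun i => (θ i).val) • (⊤ : Submodule T P) := hN
  obtain ⟨j, e, he⟩ := exists_free (P := P) hpos h0 hm 𝒬 θ hθ hreg' N hN'
  exact cm_of_free (fun i => (θ i).val) e he q

/-- The dimension is the top spot of graded local cohomology. -/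
theorem supportDim_eq [Nontrivial P] (E : StarInjRes 𝒯 𝒬) {n : ℕ} (hn : ∃ g, E.Hcomp m n g ≠ ⊥)
    (habove : ∀ i, n < i → ∀ g, E.Hcomp m i g = ⊥) : Module.supportDim T P = (n : WithBot ℕ∞) := by
  have : IsNoetherianRing T := Algebra.FiniteType.isNoetherianRing k T
  have : IsNoetherianRing (Localization.AtPrime m.toIdeal) :=
    IsLocalization.isNoetherianRing m.toIdeal.primeCompl _ inferInstance
  have : Module.Finite (Localization.AtPrime m.toIdeal) (LocalizedModule m.toIdeal.primeCompl P) :=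
    Module.Finite.of_isLocalizedModule m.toIdeal.primeCompl (LocalizedModule.mkLinearMap m.toIdeal.primeCompl P)
  have : Nontrivial (gmod 𝒯 𝒬).carrier := ‹Nontrivial P›
  have : Module.Finite T (gmod 𝒯 𝒬).carrier := ‹Module.Finite T P›
  have hnt : Nontrivial (LocalizedModule m.toIdeal.primeCompl P) := nontrivial_localized hpos h0 hm (gmod 𝒯 𝒬)
  obtain ⟨D, hD⟩ : ∃ D : ℕ∞, (D : WithBot ℕ∞) =
      Module.supportDim (Localization.AtPrime m.toIdeal) (LocalizedModule m.toIdeal.primeCompl P) :=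
    WithBot.ne_bot_iff_exists.1 (Module.supportDim_ne_bot_of_nontrivial _ _)
  obtain ⟨d, rfl⟩ : ∃ d : ℕ, (d : ℕ∞) = D := ENat.ne_top_iff_exists.1 fun e => by
    have h2 := (Module.supportDim_le_ringKrullDim (Localization.AtPrime m.toIdeal)
      (LocalizedModule m.toIdeal.primeCompl P)).trans_lt ringKrullDim_lt_top
    rw [← hD, e] at h2
    exact lt_irrefl _ h2
  have hdn : d = n := by
    refine le_antisymm (not_lt.1 fun h => ?_) (not_lt.1 fun h => ?_)
    · obtain ⟨g, hg⟩ := (nontrivial_H_iff hpos h0 hm E d).1 (LC.not_finite_and_nontrivial_H_maximal d _ hD.symm).1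
      exact hg (habove d h g)
    · exact not_nontrivial_iff_subsingleton.2 (LC.subsingleton_of_supportDim_lt n _ _ _
        (by rw [← hD]; exact_mod_cast h)) ((nontrivial_H_iff hpos h0 hm E n).2 hn)
  rw [show (n : WithBot ℕ∞) = ((d : ℕ∞) : WithBot ℕ∞) by rw [hdn]; rfl, hD, supportDim_localized]
  refine le_antisymm ?_ (Order.krullDim_le_of_strictMono (fun q => (⟨q.1, q.2.1⟩ : Module.support T P))
    fun a b h => h)
  let J := Module.annihilator T P
  haveI : GrQuot.IsHomog 𝒯 J := ⟨fun i _ hs => annihilator_isHomogeneous 𝒯 𝒬 i hs⟩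
  let mk := Ideal.Quotient.mk J
  have hJne : J ≠ ⊤ := fun h => by
    obtain ⟨x, hx⟩ := exists_ne (0 : P)
    exact hx ((one_smul T x).symm.trans (Module.mem_annihilator.1 (show (1 : T) ∈ J by rw [h]; exact Submodule.mem_top) x))
  haveI : Nontrivial (T ⧸ J) := Ideal.Quotient.nontrivial_iff.2 hJne
  let ℬ := GrQuot.quot 𝒯 J
  have hposB : ∀ i : ℤ, i < 0 → ℬ i = ⊥ := fun i hi => by
    change (𝒯 i).map _ = ⊥
    rw [hpos i hi, Submodule.map_bot]
  have h0B : ℬ 0 = Submodule.span k {(1 : T ⧸ J)} := by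
    change (𝒯 0).map _ = _
    rw [h0, Submodule.map_span, Set.image_singleton]
    rfl
  let n' : HomogeneousIdeal ℬ := ⟨Ideal.span (⋃ i ∈ Set.Ioi (0 : ℤ), (ℬ i : Set (T ⧸ J))),
    Ideal.homogeneous_span _ _ fun x hx => by
      obtain ⟨i, -, hx⟩ := Set.mem_iUnion₂.1 hx; exact ⟨i, hx⟩⟩
  have hstar : _root_.GrLC.IsStarLocal ℬ n' := by
    have hle : ∀ K : HomogeneousIdeal ℬ, K ≠ ⊤ → K ≤ n' := fun K hK =>
      le_of_ne_top hposB h0B (m := n') rfl fun e =>
        hK (HomogeneousIdeal.toIdeal_injective (e.trans HomogeneousIdeal.toIdeal_top.symm))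
    have hne : n' ≠ ⊤ := fun e => ne_top hposB h0B (m := n') rfl (by rw [e, HomogeneousIdeal.toIdeal_top])
    exact ⟨⟨hne, fun K hK => by_contra fun h => hK.not_ge (hle K h)⟩,
      fun K hK => (hle K hK.1).lt_or_eq.resolve_left fun h => hne (hK.2 n' h)⟩
  have hn'max := (isMaximal_of_isStarLocal (fun i hi r hr => by rwa [hposB i hi, Submodule.mem_bot] at hr) hstar)
  have hcomap : n'.toIdeal.comap mk = m.toIdeal := by
    refine eq_of_le_prime hpos h0 hm (Ideal.IsPrime.ne_top (Ideal.IsPrime.comap _ (hK := hn'max.isPrime))) ?_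
    rw [hm, Ideal.span_le]
    intro x hx
    obtain ⟨i, hi, hx⟩ := Set.mem_iUnion₂.1 hx
    exact Ideal.subset_span (Set.mem_iUnion₂.2 ⟨i, hi, ⟨x, hx, rfl⟩⟩)
  rw [Module.supportDim_eq_ringKrullDim_quotient_annihilator,
    ringKrullDim_eq_height (fun i hi r hr => by rwa [hposB i hi, Submodule.mem_bot] at hr) hstar]
  have := hn'max.isPrime
  rw [PrimeSpectrum.height_eq_orderHeight (⟨n'.toIdeal, this⟩ : PrimeSpectrum (T ⧸ J)),
    Order.height_eq_krullDim_Iic]
  refine Order.krullDim_le_of_strictMono (fun q => ⟨PrimeSpectrum.comap mk q.1,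
    Module.mem_support_iff_of_finite.2 fun x hx => ?_, hcomap ▸ Ideal.comap_mono q.2⟩) fun a b h => ?_
  · change mk x ∈ q.1.asIdeal
    rw [Ideal.Quotient.eq_zero_iff_mem.2 hx]
    exact zero_mem _
  · refine lt_of_le_of_ne (Ideal.comap_mono (le_of_lt (show a.1 < b.1 from h))) fun e => h.ne ?_
    refine Subtype.ext (PrimeSpectrum.comap_injective_of_surjective mk Ideal.Quotient.mk_surjective ?_)
    exact congrArg Subtype.val e

end GrothLib.Segre
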