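import Groth.Agent.Lib.Segre.TotDeg
import Groth.Agent.Lib.GrDual.Pairing
import Mathlib.LinearAlgebra.Contraction

/-!
# The graded dual of a Segre product is the Segre product of the graded duals
-/

universe u

open DirectSum
open scoped TensorProduct

namespace GrothLib.Segre

open GrothLib.GrLC
open _root_.GrLC (GMod IsGrHom)
open GrothLib.GrDual (pieceK)

noncomputable section

variable {k : Type u} [Field k] {R : Type u} [CommRing R] [Algebra k R] {S : Type u} [CommRing S] [Algebra k S]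
  {T : Type u} [CommRing T] [Algebra k T] {𝒜 : ℤ → Submodule k R} [GradedAlgebra 𝒜] {ℬ : ℤ → Submodule k S}
  [GradedAlgebra ℬ] {𝒯 : ℤ → Submodule k T} [GradedAlgebra 𝒯] {ψ : T →ₐ[k] R ⊗[k] S}
  (hT : GrSeg.IsSegreRing 𝒜 ℬ 𝒯 ψ)
  {M : Type u} [AddCommGroup M] [Module R M] [Module k M] [IsScalarTower k R M] {ℳ : ℤ → AddSubgroup M}
  [Decomposition ℳ] [SetLike.GradedSMul 𝒜 ℳ]
  {N : Type u} [AddCommGroup N] [Module S N] [Module k N] [IsScalarTower k S N] {𝒩 : ℤ → AddSubgroup N}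
  [Decomposition 𝒩] [SetLike.GradedSMul ℬ 𝒩]
  {X : GMod.{u} 𝒜} {Y : GMod.{u} ℬ}
  {βX : X.carrier →ₗ[k] M →ₗ[k] k} (hX : GrSeg.IsGDual R ℳ X.gr βX)
  {βY : Y.carrier →ₗ[k] N →ₗ[k] k} (hY : GrSeg.IsGDual S 𝒩 Y.gr βY)

/-- the contraction of two pairings -/
def contr (βX : X.carrier →ₗ[k] M →ₗ[k] k) (βY : Y.carrier →ₗ[k] N →ₗ[k] k) :
    X.carrier ⊗[k] Y.carrier →ₗ[k] M ⊗[k] N →ₗ[k] k :=
  (TensorProduct.map₂ βX βY).compr₂ (LinearMap.mul' k k)

omit [GradedAlgebra 𝒯] [Decomposition ℳ] [SetLike.GradedSMul 𝒜 ℳ] [Decomposition 𝒩] [SetLike.GradedSMul ℬ 𝒩] in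
theorem contr_tmul (x : X.carrier) (y : Y.carrier) (a : M) (b : N) :
    contr βX βY (x ⊗ₜ[k] y) (a ⊗ₜ[k] b) = βX x a * βY y b := by
  simp [contr, TensorProduct.map₂_apply_tmul]

include hX hY in
theorem contr_act (z : R ⊗[k] S) (u : X.carrier ⊗[k] Y.carrier) (v : M ⊗[k] N) :
    contr βX βY (GrSeg.act k R S X.carrier Y.carrier z u) v = contr βX βY u (GrSeg.act k R S M N z v) := by
  induction z using TensorProduct.induction_on with
  | zero => simp
  | add a b ha hb => simp only [map_add, LinearMap.add_apply, ha, hb]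
  | tmul r s =>
    induction u using TensorProduct.induction_on with
    | zero => simp
    | add a b ha hb => simp only [map_add, LinearMap.add_apply, ha, hb]
    | tmul x y =>
      induction v using TensorProduct.induction_on with
      | zero => simp
      | add a b ha hb => simp only [map_add, ha, hb]
      | tmul a b => rw [GrSeg.act_tmul, GrSeg.act_tmul, contr_tmul, contr_tmul, hX.map_smul, hY.map_smul]

include hX hY in
theorem contr_vanish {n m : ℤ} (hne : m ≠ -n) {u : X.carrier ⊗[k] Y.carrier}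
    (hu : u ∈ GrSeg.segrePiece k X.gr Y.gr n) {v : M ⊗[k] N} (hv : v ∈ GrSeg.segrePiece k ℳ 𝒩 m) :
    contr βX βY u v = 0 := by
  induction hu using Submodule.span_induction with
  | mem u hu =>
    obtain ⟨x, hx, y, hy, rfl⟩ := hu
    induction hv using Submodule.span_induction with
    | mem v hv =>
      obtain ⟨a, ha, b, hb, rfl⟩ := hv
      rw [contr_tmul, hX.vanish n x hx m hne a ha, zero_mul]
    | zero => simp
    | add a b _ _ ha hb => rw [map_add, ha, hb, add_zero]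
    | smul c a _ ha => rw [map_smul, ha, smul_zero]
  | zero => simp
  | add a b _ _ ha hb => rw [map_add, LinearMap.add_apply, ha, hb, add_zero]
  | smul c a _ ha => rw [map_smul, LinearMap.smul_apply, ha, smul_zero]

variable (𝒜 ℬ ℳ 𝒩) in
theorem piece_eq_range' (n : ℤ) : GrSeg.segrePiece k ℳ 𝒩 n =
    LinearMap.range (TensorProduct.mapIncl (pieceK 𝒜 ℳ n) (pieceK ℬ 𝒩 n)) := by
  rw [TensorProduct.range_mapIncl, Submodule.map₂_eq_span_image2]
  refine congrArg (Submodule.span k) (Set.ext fun z => ⟨?_, ?_⟩) <;>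
    (rintro ⟨a, ha, b, hb, rfl⟩; exact ⟨a, ha, b, hb, rfl⟩)

variable (𝒜) in
include hX in
/-- A piece of the dual is the dual of the opposite piece. -/
theorem exists_pieceDual (n : ℤ) : ∃ e : pieceK 𝒜 X.gr n ≃ₗ[k] Module.Dual k (pieceK 𝒜 ℳ (-n)),
    ∀ x a, e x a = βX x a := by
  let f : pieceK 𝒜 X.gr n →ₗ[k] Module.Dual k (pieceK 𝒜 ℳ (-n)) :=
    βX.compl₁₂ (pieceK 𝒜 X.gr n).subtype (pieceK 𝒜 ℳ (-n)).subtype
  refine ⟨LinearEquiv.ofBijective f ⟨(injective_iff_map_eq_zero f).2 fun x hx => Subtype.ext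
    (hX.eq_zero n x.1 x.2 fun a ha => LinearMap.congr_fun hx ⟨a, ha⟩), fun g => ?_⟩, fun x a => rfl⟩
  obtain ⟨g', hg'⟩ := LinearMap.exists_extend g
  obtain ⟨d, hd, hd'⟩ := hX.exists_eq n g'
  exact ⟨⟨d, hd⟩, LinearMap.ext fun a => (hd' a.1 a.2).trans (LinearMap.congr_fun hg' a)⟩

variable {P : Type u} [AddCommGroup P] [Module T P] [Module k P] [IsScalarTower k T P] {𝒬 : ℤ → AddSubgroup P}
  [Decomposition 𝒬] {φ : P →ₗ[k] M ⊗[k] N} (hP : GrSeg.IsSegreMod ψ ℳ 𝒩 𝒬 φ)

include hT hX hY hP in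
/-- The graded dual of a Segre product. -/
theorem exists_isGDual_segMod (hfM : ∀ n, FiniteDimensional k (pieceK 𝒜 ℳ n))
    (hfN : ∀ n, FiniteDimensional k (pieceK ℬ 𝒩 n)) :
    ∃ β : (segMod X Y hT).carrier →ₗ[k] P →ₗ[k] k, GrSeg.IsGDual T 𝒬 (segMod X Y hT).gr β := by
  classical
  obtain ⟨lam, hlam⟩ := φ.exists_leftInverse_of_injective (LinearMap.ker_eq_bot.2 hP.injective)
  refine ⟨(contr βX βY ∘ₗ sval hT).compl₂ φ, ⟨fun t z p => ?_, fun n z hz m hne p hp => ?_,
    fun n z hz h0 => ?_, fun n g => ?_⟩⟩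
  · change contr βX βY (sval hT (t • z)) (φ p) = contr βX βY (sval hT z) (φ (t • p))
    rw [sval_smul, hP.map_smul, contr_act hX hY]
  · exact contr_vanish hX hY hne hz ((hP.image_piece m).le ⟨p, hp, rfl⟩)
  all_goals
    have := hfM (-n)
    have := hfN (-n)
    obtain ⟨eX, heX⟩ := exists_pieceDual 𝒜 hX n
    obtain ⟨eY, heY⟩ := exists_pieceDual ℬ hY n
    let e := (TensorProduct.congr eX eY).trans
      (TensorProduct.dualDistribEquiv k (pieceK 𝒜 ℳ (-n)) (pieceK ℬ 𝒩 (-n)))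
    have he : ∀ w v, e w v = contr βX βY (TensorProduct.mapIncl _ _ w) (TensorProduct.mapIncl _ _ v) := by
      intro w v
      induction w using TensorProduct.induction_on with
      | zero => simp
      | add a b ha hb => simp only [map_add, LinearMap.add_apply, ha, hb]
      | tmul x y =>
        induction v using TensorProduct.induction_on with
        | zero => simp
        | add a b ha hb => simp only [map_add, ha, hb]
        | tmul a b =>
          change TensorProduct.dualDistrib k _ _ (eX x ⊗ₜ eY y) (a ⊗ₜ b) = _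
          rw [TensorProduct.dualDistrib_apply, heX, heY]
          exact (contr_tmul (x : X.carrier) (y : Y.carrier) (a : M) (b : N)).symm
  · obtain ⟨w, hw⟩ := (piece_eq_range X Y n).le hz
    refine sval_injective hT ?_
    suffices e w = 0 from hw.symm.trans (by rw [e.map_eq_zero_iff.1 this, map_zero, map_zero])
    refine LinearMap.ext fun v => ?_
    obtain ⟨p, hp, hp'⟩ := (hP.image_piece (-n)).ge
      ((piece_eq_range' 𝒜 ℬ ℳ 𝒩 (-n)).ge ⟨v, rfl⟩)
    rw [he, hw]
    exact (congrArg (contr βX βY (sval hT z)) hp').symm.trans (h0 p hp)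
  · let w := e.symm ((g ∘ₗ lam) ∘ₗ TensorProduct.mapIncl _ _)
    refine ⟨smk hT _ (piece_le_segSub n ((piece_eq_range X Y n).ge ⟨w, rfl⟩)),
      (piece_eq_range X Y n).ge ⟨w, rfl⟩, fun p hp => ?_⟩
    obtain ⟨v, hv⟩ := (piece_eq_range' 𝒜 ℬ ℳ 𝒩 (-n)).le ((hP.image_piece (-n)).le ⟨p, hp, rfl⟩)
    change contr βX βY (TensorProduct.mapIncl _ _ w) (φ p) = g p
    refine (congrArg _ hv.symm).trans ?_
    refine (he w v).symm.trans ?_
    rw [LinearEquiv.apply_symm_apply]
    change g (lam _) = g p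
    exact congrArg g ((congrArg lam hv).trans (LinearMap.congr_fun hlam p))

variable (𝒜) in
/-- pieces over the ring of degree zero -/
theorem finrank_comp_eq_pieceK [Nontrivial R] (h0 : 𝒜 0 = Submodule.span k {(1 : R)}) (d : ℤ) :
    Module.finrank (_root_.GrLC.deg0 𝒜) (_root_.GrLC.comp 𝒜 ℳ d) = Module.finrank k (pieceK 𝒜 ℳ d) :=
  finrank_eq_of_semilinear 𝒜 h0
    (AddMonoidHom.mk' (fun x : pieceK 𝒜 ℳ d => (⟨x.1, x.2⟩ : _root_.GrLC.comp 𝒜 ℳ d)) fun _ _ => rfl)
    ⟨fun a b h => Subtype.ext (congrArg Subtype.val h), fun x => ⟨⟨x.1, x.2⟩, rfl⟩⟩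
    fun c x => Subtype.ext (algebraMap_smul R c x.1).symm

variable (𝒜) in
include hX in
/-- A piece and the opposite piece of a graded dual have the same dimension. -/
theorem finrank_dualPiece (n : ℤ) [FiniteDimensional k (pieceK 𝒜 ℳ n)] :
    Module.finrank k (pieceK 𝒜 X.gr (-n)) = Module.finrank k (pieceK 𝒜 ℳ n) := by
  obtain ⟨e, -⟩ := exists_pieceDual 𝒜 hX (-n)
  rw [e.finrank_eq, Subspace.dual_finrank_eq, neg_neg]

instance segGSMul : SetLike.GradedSMul 𝒯 (segMod X Y hT).gr := (segMod X Y hT).gsmul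

include hT in
/-- A piece of a Segre product. -/
theorem finrank_comp_segMod [Nontrivial T] (h0T : 𝒯 0 = Submodule.span k {(1 : T)}) (d : ℤ) :
    Module.finrank (_root_.GrLC.deg0 𝒯) (_root_.GrLC.comp 𝒯 (segMod X Y hT).gr d) =
      Module.finrank k (pieceK 𝒜 X.gr d) * Module.finrank k (pieceK ℬ Y.gr d) := by
  rw [← Module.finrank_tensorProduct]
  refine finrank_eq_of_semilinear 𝒯 h0T
    (AddMonoidHom.mk' (fun w => (⟨smk hT _ (piece_le_segSub d ((piece_eq_range X Y d).ge ⟨w, rfl⟩)),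
      (piece_eq_range X Y d).ge ⟨w, rfl⟩⟩ : _root_.GrLC.comp 𝒯 (segMod X Y hT).gr d))
      fun a b => Subtype.ext (sval_injective hT (by
        rw [sval_smk, AddSubmonoid.coe_add, map_add (sval hT), sval_smk, sval_smk, map_add])))
    ⟨fun a b h => Module.Flat.tensorProduct_mapIncl_injective_of_right _ _
      (congrArg (fun z => sval hT z.1) h), fun z => ?_⟩ fun c w => Subtype.ext (sval_injective hT ?_)
  · obtain ⟨w, hw⟩ := (piece_eq_range X Y d).le z.2
    exact ⟨w, Subtype.ext (sval_injective hT hw)⟩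
  · change TensorProduct.mapIncl _ _ (c • w) = sval hT (algebraMap k T c • _)
    rw [algebraMap_smul, map_smul, map_smul]
    rfl

end

end GrothLib.Segre
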