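import Groth.Agent.Lib.Dim.Ring
import Mathlib.RingTheory.GradedAlgebra.Radical
import Mathlib.RingTheory.GradedAlgebra.Homogeneous.Ideal
import Mathlib.RingTheory.Ideal.MinimalPrime.Noetherian
import Mathlib.RingTheory.KrullDimension.NonZeroDivisors
import Mathlib.RingTheory.MvPolynomial.Ideal
import Mathlib.RingTheory.Nilpotent.Lemmas

/-! Graded Noether normalisation for algebras graded in nonnegative degrees with `R₀ = k`. -/

universe u

open scoped DirectSum

namespace GrothLib.Segre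

variable {k R : Type u} [Field k] [CommRing R] [Algebra k R] (𝒜 : ℤ → Submodule k R) [GradedAlgebra 𝒜]

/-- The irrelevant ideal. -/
def irrel : Ideal R := Ideal.span (⋃ n ∈ Set.Ioi (0 : ℤ), (𝒜 n : Set R))

theorem mem_irrel {n : ℤ} (hn : 0 < n) {x : R} (hx : x ∈ 𝒜 n) : x ∈ irrel 𝒜 :=
  Ideal.subset_span (Set.mem_iUnion₂.2 ⟨n, hn, hx⟩)

variable (hpos : ∀ n : ℤ, n < 0 → 𝒜 n = ⊥) (h0 : 𝒜 0 = Submodule.span k {(1 : R)})

include hpos

theorem eq_zero_of_neg {n : ℤ} (hn : n < 0) {x : R} (hx : x ∈ 𝒜 n) : x = 0 := by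
  rwa [hpos n hn, Submodule.mem_bot] at hx

theorem coe_decompose_zero_of_mem_irrel {x : R} (hx : x ∈ irrel 𝒜) :
    (DirectSum.decompose 𝒜 x 0 : R) = 0 := by
  classical
  induction hx using Submodule.span_induction with
  | mem x hx =>
    obtain ⟨n, hn, hx⟩ := Set.mem_iUnion₂.1 hx
    exact DirectSum.decompose_of_mem_ne 𝒜 hx (ne_of_gt hn)
  | zero => simp
  | add x y _ _ hx hy => simp [hx, hy]
  | smul c x _ hx =>
    rw [smul_eq_mul]
    induction c using DirectSum.Decomposition.inductionOn 𝒜 with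
    | zero => simp
    | @homogeneous i c =>
      have h := DirectSum.coe_decompose_mul_add_of_left_mem (𝒜 := 𝒜) (b := x) (j := -i) c.2
      rw [add_neg_cancel] at h
      rw [h]
      rcases lt_trichotomy i 0 with hi | rfl | hi
      · rw [eq_zero_of_neg 𝒜 hpos hi c.2, zero_mul]
      · rw [neg_zero, hx, mul_zero]
      · rw [eq_zero_of_neg 𝒜 hpos (neg_lt_zero.2 hi) (DirectSum.decompose 𝒜 x (-i)).2, mul_zero]
    | add a b ha hb => rw [add_mul, DirectSum.decompose_add, DirectSum.add_apply, Submodule.coe_add, ha, hb, add_zero]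

include h0

theorem irrel_le_of_homogeneous_isMaximal {p : Ideal R} (hp : p.IsHomogeneous 𝒜) (hm : p.IsMaximal) :
    irrel 𝒜 ≤ p := by
  by_contra h
  obtain ⟨a, ha, b, hb, hab⟩ := Submodule.mem_sup.1
    ((hm.out.2 _ (left_lt_sup.2 h)).symm ▸ (Submodule.mem_top : (1 : R) ∈ ⊤))
  have := congrArg (fun x => (DirectSum.decompose 𝒜 x 0 : R)) hab
  simp only [DirectSum.decompose_add, DirectSum.add_apply, Submodule.coe_add,
    coe_decompose_zero_of_mem_irrel 𝒜 hpos hb, add_zero,
    DirectSum.decompose_of_mem_same 𝒜 SetLike.GradedOne.one_mem] at this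
  exact hm.ne_top ((Ideal.eq_top_iff_one _).2 (this ▸ hp 0 ha))

theorem eq_of_irrel_le {p q : Ideal R} (hp : p ≠ ⊤) (h : irrel 𝒜 ≤ q) (hqp : q ≤ p) : p = q := by
  classical
  refine le_antisymm (fun x hx => ?_) hqp
  have key : ∀ y : R, ∃ c : k, y - algebraMap k R c ∈ irrel 𝒜 := by
    intro y
    induction y using DirectSum.Decomposition.inductionOn 𝒜 with
    | zero => exact ⟨0, by simp⟩
    | @homogeneous i y =>
      rcases lt_trichotomy i 0 with hi | rfl | hi
      · exact ⟨0, by simp [eq_zero_of_neg 𝒜 hpos hi y.2]⟩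
      · obtain ⟨c, hc⟩ := Submodule.mem_span_singleton.1 (h0.le y.2)
        exact ⟨c, by simp [← hc, Algebra.smul_def]⟩
      · exact ⟨0, by simpa using mem_irrel 𝒜 hi y.2⟩
    | add a b ha hb =>
      obtain ⟨c, hc⟩ := ha
      obtain ⟨d, hd⟩ := hb
      exact ⟨c + d, by convert! add_mem hc hd using 1; rw [map_add]; ring⟩
  obtain ⟨c, hc⟩ := key x
  have : algebraMap k R c ∈ p := by simpa using sub_mem hx (hqp (h hc))
  rcases eq_or_ne c 0 with rfl | hne
  · exact h (by simpa using hc)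
  · exact absurd (p.eq_top_of_isUnit_mem this ((Ne.isUnit hne).map _)) hp

variable [Algebra.FiniteType k R]

theorem exists_homogeneous_notMem (M : Finset (Ideal R))
    (hM : ∀ p ∈ M, p.IsPrime ∧ p.IsHomogeneous 𝒜 ∧ ¬ irrel 𝒜 ≤ p)
    (hinc : ∀ p ∈ M, ∀ q ∈ M, q ≤ p → q = p) :
    ∃ (e : ℕ) (h : R), 0 < e ∧ h ∈ 𝒜 e ∧ ∀ p ∈ M, h ∉ p := by
  classical
  have sep : ∀ p ∈ M, ∃ (e : ℕ) (g : R), 0 < e ∧ g ∈ 𝒜 e ∧ g ∉ p ∧ ∀ q ∈ M, q ≠ p → g ∈ q := by
    intro p hp
    obtain ⟨hpp, hph, hpi⟩ := hM p hp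
    obtain ⟨z, hzU, hzp⟩ : ∃ z ∈ ⋃ n ∈ Set.Ioi (0 : ℤ), (𝒜 n : Set R), z ∉ p := by
      by_contra hc
      push_neg at hc
      exact hpi (Ideal.span_le.2 hc)
    obtain ⟨n, hn, hzn⟩ := Set.mem_iUnion₂.1 hzU
    suffices H : ∀ s : Finset (Ideal R), s ⊆ M.erase p →
        ∃ (e : ℕ) (g : R), 0 < e ∧ g ∈ 𝒜 e ∧ g ∉ p ∧ ∀ q ∈ s, g ∈ q by
      obtain ⟨e, g, h1, h2, h3, h4⟩ := H _ subset_rfl
      exact ⟨e, g, h1, h2, h3, fun q hq hne => h4 q (Finset.mem_erase.2 ⟨hne, hq⟩)⟩
    intro s hs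
    induction s using Finset.induction_on with
    | empty => exact ⟨n.toNat, z, by have : (0 : ℤ) < n := hn; omega,
        by rwa [Int.toNat_of_nonneg (le_of_lt hn)], hzp, by simp⟩
    | @insert q s hqs ih =>
      obtain ⟨e, g, he, hg, hgp, hgs⟩ := ih fun x hx => hs (Finset.mem_insert_of_mem hx)
      obtain ⟨hne, hqM⟩ := Finset.mem_erase.1 (hs (Finset.mem_insert_self q s))
      obtain ⟨y, hy, hyp⟩ := SetLike.not_le_iff_exists.1 fun h => hne (hinc p hp q hqM h)
      obtain ⟨i, hi⟩ : ∃ i, (DirectSum.decompose 𝒜 y i : R) ∉ p := by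
        by_contra hc
        push_neg at hc
        exact hyp (DirectSum.sum_support_decompose 𝒜 y ▸ Submodule.sum_mem _ fun i _ => hc i)
      have hiq := (hM q hqM).2.1 i hy
      have hi0 : 0 ≤ i := by
        by_contra hc
        exact hi (by rw [eq_zero_of_neg 𝒜 hpos (not_le.1 hc) (DirectSum.decompose 𝒜 y i).2]; simp)
      refine ⟨e + i.toNat, g * DirectSum.decompose 𝒜 y i, by omega, ?_, hpp.mul_notMem hgp hi, ?_⟩
      · rw [Nat.cast_add, Int.toNat_of_nonneg hi0]
        exact SetLike.mul_mem_graded hg (DirectSum.decompose 𝒜 y i).2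
      · intro q' hq'
        rcases Finset.mem_insert.1 hq' with rfl | hq'
        · exact Ideal.mul_mem_left _ _ hiq
        · exact Ideal.mul_mem_right _ _ (hgs q' hq')
  choose! e g he hg hgp hgq using sep
  refine ⟨∏ p ∈ M, e p, ∑ p ∈ M, g p ^ (∏ q ∈ M.erase p, e q), Finset.prod_pos he,
    Submodule.sum_mem _ fun p hp => ?_, fun p hp hmem => ?_⟩
  · have := SetLike.pow_mem_graded (∏ q ∈ M.erase p, e q) (hg p hp)
    rwa [nsmul_eq_mul, ← Nat.cast_mul, Finset.prod_erase_mul M e hp] at this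
  · rw [← Finset.add_sum_erase M _ hp] at hmem
    refine hgp p hp ((hM p hp).1.mem_of_pow_mem _ ((Ideal.add_mem_iff_left p ?_).1 hmem))
    refine Ideal.sum_mem _ fun q hq => ?_
    obtain ⟨hne, hqM⟩ := Finset.mem_erase.1 hq
    exact p.pow_mem_of_mem (hgq q hqM p hp hne.symm) _
      (Finset.prod_pos fun x hx => he x (Finset.mem_erase.1 hx).2)

omit [Algebra.FiniteType k R] hpos h0 in
theorem minimalPrimes_isHomogeneous {J p : Ideal R} (hJ : J.IsHomogeneous 𝒜)
    (hp : p ∈ J.minimalPrimes) : p.IsHomogeneous 𝒜 := by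
  have h1 : (p.homogeneousCore 𝒜).toIdeal ≤ p := Ideal.toIdeal_homogeneousCore_le 𝒜 p
  have h2 : p ≤ (p.homogeneousCore 𝒜).toIdeal :=
    hp.2 ⟨hp.1.1.homogeneousCore, hJ.toIdeal_homogeneousCore_eq_self.symm.trans_le
      (Ideal.homogeneousCore_mono 𝒜 hp.1.2)⟩ h1
  exact le_antisymm h2 h1 ▸ HomogeneousIdeal.isHomogeneous _

/-- Homogeneous systems of parameters. -/
theorem exists_radical_span : ∀ (n : ℕ) (J : Ideal R), J.IsHomogeneous 𝒜 → ringKrullDim (R ⧸ J) ≤ n →
    ∃ (e : Fin n → ℕ) (f : Fin n → R), (∀ i, 0 < e i ∧ f i ∈ 𝒜 (e i)) ∧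
      irrel 𝒜 ≤ (J ⊔ Ideal.span (Set.range f)).radical := by
  intro n
  induction n with
  | zero =>
    intro J hJ hd
    refine ⟨Fin.elim0, Fin.elim0, fun i => i.elim0, ?_⟩
    rw [Set.range_eq_empty, Ideal.span_empty, sup_bot_eq, ← J.sInf_minimalPrimes]
    refine le_sInf fun p hp => irrel_le_of_homogeneous_isMaximal 𝒜 hpos h0
      (minimalPrimes_isHomogeneous 𝒜 hJ hp) ?_
    obtain ⟨m, hm, hpm⟩ := p.exists_le_maximal hp.1.1.ne_top
    rcases hpm.eq_or_lt with rfl | hlt
    · exact hm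
    exfalso
    rw [ringKrullDim_quotient, Nat.cast_zero] at hd
    let P : PrimeSpectrum.zeroLocus (J : Set R) := ⟨⟨p, hp.1.1⟩, hp.1.2⟩
    let M' : PrimeSpectrum.zeroLocus (J : Set R) := ⟨⟨m, hm.isPrime⟩, hp.1.2.trans hpm⟩
    have h1 := (Order.LTSeries.length_le_krullDim
      ((RelSeries.singleton _ P).snoc M' (show P < M' from hlt))).trans hd
    exact absurd h1 (by simp)
  | succ n ih =>
    intro J hJ hd
    classical
    have : IsNoetherianRing R := Algebra.FiniteType.isNoetherianRing k R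
    let M := (J.finite_minimalPrimes_of_isNoetherianRing R).toFinset.filter fun p => ¬ irrel 𝒜 ≤ p
    obtain ⟨e, h, he, hh, hhM⟩ := exists_homogeneous_notMem 𝒜 hpos h0 M
      (fun p hp => by
        obtain ⟨h1, h2⟩ := Finset.mem_filter.1 hp
        rw [Set.Finite.mem_toFinset] at h1
        exact ⟨h1.1.1, minimalPrimes_isHomogeneous 𝒜 hJ h1, h2⟩)
      (fun p hp q hq hqp => by
        obtain ⟨h1, -⟩ := Finset.mem_filter.1 hp
        obtain ⟨h2, -⟩ := Finset.mem_filter.1 hq
        rw [Set.Finite.mem_toFinset] at h1 h2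
        exact le_antisymm hqp (h1.2 h2.1 hqp))
    let J' := J ⊔ Ideal.span {h}
    have hJ' : J'.IsHomogeneous 𝒜 :=
      hJ.sup (Ideal.homogeneous_span 𝒜 _ fun x hx => (Set.mem_singleton_iff.1 hx) ▸ ⟨e, hh⟩)
    have hd' : ringKrullDim (R ⧸ J') ≤ n := by
      rw [ringKrullDim_quotient]
      refine iSup_le fun l => ?_
      obtain ⟨q, hq, hql⟩ := Ideal.exists_minimalPrimes_le (J := l.head.1.asIdeal)
        (le_sup_left.trans l.head.2 : J ≤ _)
      by_cases hqi : irrel 𝒜 ≤ q
      · rcases Nat.eq_zero_or_pos l.length with h0' | h0'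
        · rw [h0']; exact WithBot.coe_le_coe.2 (by simp)
        exfalso
        have h1 := eq_of_irrel_le 𝒜 hpos h0 l.head.1.isPrime.ne_top hqi hql
        have h2 := eq_of_irrel_le 𝒜 hpos h0 l.last.1.isPrime.ne_top hqi (hql.trans l.head_le_last)
        have h3 : l.head < l.last := l.strictMono (show (0 : Fin (l.length + 1)) < Fin.last _ by
          simp [Fin.lt_def, h0'])
        exact h3.ne (Subtype.ext (PrimeSpectrum.ext (h1.trans h2.symm)))
      · have hlt : q < l.head.1.asIdeal := by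
          refine hql.lt_of_ne fun e' => hhM q (Finset.mem_filter.2 ⟨by simpa using hq, hqi⟩) (e' ▸ ?_)
          exact l.head.2 (Ideal.mem_sup_right (Ideal.mem_span_singleton_self h))
        let f' : PrimeSpectrum.zeroLocus (J' : Set R) → PrimeSpectrum.zeroLocus (J : Set R) :=
          fun p => ⟨p.1, fun x hx => p.2 (Ideal.mem_sup_left hx)⟩
        let P : PrimeSpectrum.zeroLocus (J : Set R) := ⟨⟨q, hq.1.1⟩, hq.1.2⟩
        rw [ringKrullDim_quotient] at hd
        have h1 := (Order.LTSeries.length_le_krullDim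
          ((l.map f' fun a b hab => hab).cons P (show P < f' l.head from hlt))).trans hd
        simp only [RelSeries.cons_length] at h1
        exact_mod_cast Nat.le_of_succ_le_succ (by exact_mod_cast h1 : l.length + 1 ≤ n + 1)
    obtain ⟨e', f, hf, hrad⟩ := ih J' hJ' hd'
    refine ⟨Fin.cons e e', Fin.cons h f, fun i => ?_, ?_⟩
    · induction i using Fin.cases with
      | zero => exact ⟨he, hh⟩
      | succ i => exact hf i
    · refine hrad.trans (le_of_eq ?_)
      rw [Fin.range_cons, Ideal.span_insert, sup_assoc]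

theorem finite_aeval {n : ℕ} {d : ℕ} (hd : 0 < d) {f : Fin n → R} (hf : ∀ i, f i ∈ 𝒜 d)
    (hrad : irrel 𝒜 ≤ (Ideal.span (Set.range f)).radical) :
    (MvPolynomial.aeval f : MvPolynomial (Fin n) k →ₐ[k] R).toRingHom.Finite := by
  classical
  let I := Ideal.span (Set.range f)
  let mk := Ideal.Quotient.mkₐ k I
  have : Algebra.IsIntegral k (R ⧸ I) := ⟨fun x => by
    obtain ⟨x, rfl⟩ := Ideal.Quotient.mkₐ_surjective k I x
    induction x using DirectSum.Decomposition.inductionOn 𝒜 with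
    | zero => simpa using isIntegral_zero
    | @homogeneous i y =>
      rcases lt_trichotomy i 0 with hi | rfl | hi
      · simp [eq_zero_of_neg 𝒜 hpos hi y.2, isIntegral_zero]
      · obtain ⟨c, hc⟩ := Submodule.mem_span_singleton.1 (h0.le y.2)
        rw [← hc, map_smul, map_one]
        exact isIntegral_one.smul c
      · obtain ⟨N, hN⟩ := hrad (mem_irrel 𝒜 hi y.2)
        refine ⟨Polynomial.X ^ (N + 1), Polynomial.monic_X_pow _, ?_⟩
        simp only [Polynomial.eval₂_X_pow]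
        rw [← map_pow]
        exact Ideal.Quotient.eq_zero_iff_mem.2 (pow_succ (y : R) N ▸ Ideal.mul_mem_right _ _ hN)
    | add a b ha hb => rw [map_add]; exact ha.add hb⟩
  have : Algebra.FiniteType k (R ⧸ I) :=
    Algebra.FiniteType.of_surjective mk (Ideal.Quotient.mkₐ_surjective k I)
  have : Module.Finite k (R ⧸ I) := Algebra.IsIntegral.finite
  obtain ⟨G, hG⟩ := Module.Finite.fg_top (R := k) (M := R ⧸ I)
  choose lift hlift using Ideal.Quotient.mkₐ_surjective k I
  let E : Finset R := G.biUnion fun g =>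
    (DirectSum.decompose 𝒜 (lift g)).support.image fun i => (DirectSum.decompose 𝒜 (lift g) i : R)
  let φ := (MvPolynomial.aeval f : MvPolynomial (Fin n) k →ₐ[k] R)
  algebraize [φ.toRingHom]
  refine (RingHom.finite_algebraMap).2 ⟨⟨E, top_le_iff.1 fun x _ => ?_⟩⟩
  let W := Submodule.span (MvPolynomial (Fin n) k) (E : Set R)
  have hW : ∀ (m : ℕ) (x : R), x ∈ 𝒜 m → x ∈ W := by
    intro m
    induction m using Nat.strong_induction_on with
    | _ m ihm =>
    intro x hx
    have hmkx : mk x ∈ (Submodule.span k (E : Set R)).map mk.toLinearMap := by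
      have : mk x ∈ Submodule.span k (G : Set (R ⧸ I)) := hG ▸ Submodule.mem_top
      refine Submodule.span_le.2 ?_ this
      intro g hg
      refine ⟨lift g, ?_, hlift g⟩
      rw [← DirectSum.sum_support_decompose 𝒜 (lift g)]
      exact Submodule.sum_mem _ fun i hi => Submodule.subset_span
        (Finset.mem_biUnion.2 ⟨g, hg, Finset.mem_image.2 ⟨i, hi, rfl⟩⟩)
    obtain ⟨z, hz, hzx⟩ := hmkx
    have hxz : x - z ∈ I := Ideal.Quotient.eq.1 hzx.symm
    have hdI : ∀ y ∈ I, ∀ a : R, (DirectSum.decompose 𝒜 (a * y) (m : ℤ) : R) ∈ W := by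
      intro y hy
      induction hy using Submodule.span_induction with
      | mem y hy =>
        obtain ⟨i, rfl⟩ := hy
        intro a
        have h := DirectSum.coe_decompose_mul_add_of_right_mem (𝒜 := 𝒜) (a := a)
          (i := (m : ℤ) - d) (hf i)
        rw [sub_add_cancel] at h
        rw [h]
        have : (DirectSum.decompose 𝒜 a ((m : ℤ) - d) : R) ∈ W := by
          rcases lt_or_ge ((m : ℤ) - d) 0 with hlt | hge
          · rw [eq_zero_of_neg 𝒜 hpos hlt (DirectSum.decompose 𝒜 a _).2]; exact zero_mem _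
          · refine ihm (m - d) (by omega) _ ?_
            have := (DirectSum.decompose 𝒜 a ((m : ℤ) - d)).2
            rwa [show ((m - d : ℕ) : ℤ) = (m : ℤ) - d by omega]
        rw [mul_comm, show f i * _ = (MvPolynomial.X i : MvPolynomial (Fin n) k) •
          (DirectSum.decompose 𝒜 a ((m : ℤ) - d) : R) by
            simp [Algebra.smul_def, RingHom.algebraMap_toAlgebra, φ]]
        exact W.smul_mem _ this
      | zero => intro a; simp
      | add y y' _ _ h h' => intro a; simpa [mul_add] using add_mem (h a) (h' a)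
      | smul c y _ h => intro a; simpa [mul_assoc] using h (a * c)
    have hzW : (DirectSum.decompose 𝒜 z (m : ℤ) : R) ∈ W := by
      clear hzx hxz
      induction hz using Submodule.span_induction with
      | mem y hy =>
        obtain ⟨g, -, hy'⟩ := Finset.mem_biUnion.1 hy
        obtain ⟨i, -, rfl⟩ := Finset.mem_image.1 hy'
        by_cases him : i = (m : ℤ)
        · subst him
          rw [DirectSum.decompose_of_mem_same 𝒜 (DirectSum.decompose 𝒜 (lift g) _).2]
          exact Submodule.subset_span hy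
        · rw [DirectSum.decompose_of_mem_ne 𝒜 (DirectSum.decompose 𝒜 (lift g) _).2 him]
          exact zero_mem _
      | zero => simp
      | add y y' _ _ h h' => simpa using add_mem h h'
      | smul c y _ h =>
        rw [DirectSum.decompose_smul, DFinsupp.smul_apply, Submodule.coe_smul,
          ← algebraMap_smul (MvPolynomial (Fin n) k) c]
        exact W.smul_mem _ h
    have := add_mem (hdI _ hxz 1) hzW
    rwa [one_mul, ← Submodule.coe_add, ← DirectSum.add_apply, ← DirectSum.decompose_add,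
      sub_add_cancel, DirectSum.decompose_of_mem_same 𝒜 hx] at this
  rw [← DirectSum.sum_support_decompose 𝒜 x]
  refine Submodule.sum_mem _ fun i _ => ?_
  rcases lt_or_ge i 0 with hi | hi
  · rw [eq_zero_of_neg 𝒜 hpos hi (DirectSum.decompose 𝒜 x i).2]; exact zero_mem _
  · exact hW i.toNat _ (by rw [Int.toNat_of_nonneg hi]; exact (DirectSum.decompose 𝒜 x i).2)

/-- Graded Noether normalisation, with parameters of one degree. -/
theorem exists_normalization (n : ℕ) (hn : ringKrullDim R = n) :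
    ∃ e : ℕ, 0 < e ∧ ∀ t : ℕ, 0 < t → ∃ f : Fin n → R, (∀ i, f i ∈ 𝒜 ((e * t : ℕ) : ℤ)) ∧
      Function.Injective (MvPolynomial.aeval f : MvPolynomial (Fin n) k →ₐ[k] R) ∧
      (MvPolynomial.aeval f : MvPolynomial (Fin n) k →ₐ[k] R).toRingHom.Finite := by
  classical
  have hbot : (⊥ : Ideal R).IsHomogeneous 𝒜 := Ideal.IsHomogeneous.bot 𝒜
  obtain ⟨e, f, hf, hrad⟩ := exists_radical_span 𝒜 hpos h0 n ⊥ hbot
    ((ringKrullDim_eq_of_ringEquiv (RingEquiv.quotientBot R)).trans hn).le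
  rw [bot_sup_eq] at hrad
  refine ⟨∏ i, e i, Finset.prod_pos fun i _ => (hf i).1, fun t ht => ?_⟩
  let g : Fin n → R := fun i => f i ^ ((∏ j ∈ Finset.univ.erase i, e j) * t)
  have hg : ∀ i, g i ∈ 𝒜 (((∏ i, e i) * t : ℕ) : ℤ) := by
    intro i
    have := SetLike.pow_mem_graded ((∏ j ∈ Finset.univ.erase i, e j) * t) (hf i).2
    rwa [nsmul_eq_mul, ← Nat.cast_mul, mul_right_comm, Finset.prod_erase_mul _ _ (Finset.mem_univ i)]
      at this
  have hrad' : irrel 𝒜 ≤ (Ideal.span (Set.range g)).radical := by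
    refine hrad.trans ((Ideal.radical_mono (Ideal.span_le.2 ?_)).trans (Ideal.radical_idem _).le)
    rintro _ ⟨i, rfl⟩
    exact ⟨_, Ideal.subset_span ⟨i, rfl⟩⟩
  have hfin := finite_aeval 𝒜 hpos h0 (Nat.mul_pos (Finset.prod_pos fun i _ => (hf i).1) ht) hg hrad'
  refine ⟨g, hg, ?_, hfin⟩
  let φ := (MvPolynomial.aeval g : MvPolynomial (Fin n) k →ₐ[k] R)
  by_contra hinj
  rw [RingHom.injective_iff_ker_eq_bot] at hinj
  obtain ⟨p, hp, hp0⟩ := Submodule.exists_mem_ne_zero_of_ne_bot hinj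
  let ψ : (MvPolynomial (Fin n) k ⧸ RingHom.ker φ.toRingHom) →+* R := RingHom.kerLift φ.toRingHom
  have hψ : ψ.Finite := RingHom.Finite.of_comp_finite
    (f := Ideal.Quotient.mk (RingHom.ker φ.toRingHom)) (show φ.toRingHom.Finite from hfin)
  algebraize [ψ]
  have : Module.Finite (MvPolynomial (Fin n) k ⧸ RingHom.ker φ.toRingHom) R := hψ
  have h1 := GrothLib.Dim.ringKrullDim_eq_of_isIntegral
    (R := MvPolynomial (Fin n) k ⧸ RingHom.ker φ.toRingHom) (S := R) (RingHom.kerLift_injective _)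
  have h2 := ringKrullDim_quotient_succ_le_of_nonZeroDivisor (R := MvPolynomial (Fin n) k)
    (mem_nonZeroDivisors_of_ne_zero hp0)
  have h3 : ringKrullDim (MvPolynomial (Fin n) k ⧸ RingHom.ker φ.toRingHom) ≤
      ringKrullDim (MvPolynomial (Fin n) k ⧸ Ideal.span {p}) :=
    ringKrullDim_le_of_surjective _
      (Ideal.Quotient.factor_surjective ((Ideal.span_singleton_le_iff_mem _).2 hp))
  rw [MvPolynomial.ringKrullDim_of_isNoetherianRing, ringKrullDim_eq_zero_of_field, zero_add,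
    Nat.card_fin] at h2
  have h4 : ((n + 1 : ℕ) : WithBot ℕ∞) ≤ (n : WithBot ℕ∞) := by
    push_cast
    calc (n : WithBot ℕ∞) + 1 = ringKrullDim R + 1 := by rw [hn]
      _ ≤ _ := le_trans (add_le_add_left (h1.le.trans h3) 1) h2
  exact absurd (Nat.cast_le.1 h4) (Nat.not_succ_le_self n)

end GrothLib.Segre
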