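import Groth.Agent.Lib.Segre.BijCase
import Groth.Agent.Lib.GrLC.Radical
import Groth.Agent.Lib.Segre.Normalization

/-!
# The top graded local cohomology of a Segre product
-/

universe u

open DirectSum
open scoped TensorProduct

namespace GrothLib.Segre

open GrothLib.GrLC
open _root_.GrLC (GMod IsGrHom StarInjRes)

noncomputable section

variable {k : Type u} [Field k] {R : Type u} [CommRing R] [Algebra k R] {S : Type u} [CommRing S] [Algebra k S]
  {T : Type u} [CommRing T] [Algebra k T] {𝒜 : ℤ → Submodule k R} [GradedAlgebra 𝒜] {ℬ : ℤ → Submodule k S}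
  [GradedAlgebra ℬ] {𝒯 : ℤ → Submodule k T} [GradedAlgebra 𝒯] {ψ : T →ₐ[k] R ⊗[k] S}
  (hT : GrSeg.IsSegreRing 𝒜 ℬ 𝒯 ψ) (C : GCx.{u} 𝒜) (C' : GCx.{u} ℬ) (L L' : ℕ)
  (hz : ∀ a, L ≤ a → ∀ z : (C.X (a + 1)).carrier, z = 0) (hz' : ∀ a, L' ≤ a → ∀ z : (C'.X (a + 1)).carrier, z = 0)

theorem ker_map_eq {M M' N N' : Type u} [AddCommGroup M] [Module k M] [AddCommGroup M'] [Module k M']
    [AddCommGroup N] [Module k N] [AddCommGroup N'] [Module k N'] (f : M →ₗ[k] M') (g : N →ₗ[k] N')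
    {v : M ⊗[k] N} (h : TensorProduct.map f g v = 0) :
    v ∈ LinearMap.range ((LinearMap.ker f).subtype.rTensor N) ⊔
      LinearMap.range ((LinearMap.ker g).subtype.lTensor M) := by
  have hv : TensorProduct.map f.rangeRestrict g.rangeRestrict v = 0 :=
    TensorProduct.map_injective_of_flat_flat' _ _ (LinearMap.range f).subtype_injective
      (LinearMap.range g).subtype_injective ((TensorProduct.map_map ..).trans (h.trans (map_zero _).symm))
  rw [← LinearMap.mem_ker, TensorProduct.map_ker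
    (LinearMap.exact_iff.2 ((LinearMap.ker_rangeRestrict f).trans (Submodule.range_subtype _).symm))
    f.surjective_rangeRestrict
    (LinearMap.exact_iff.2 ((LinearMap.ker_rangeRestrict g).trans (Submodule.range_subtype _).symm))
    g.surjective_rangeRestrict, sup_comm] at hv
  exact hv

include hz hz' in
/-- The torsion of the cohomology in spot zero, for arbitrary augmentations. -/
theorem torsion_tot_zero
    (htors : ∀ z ∈ C.cyc 0, ∀ c : ℤ, 0 < c → ∀ f ∈ 𝒜 c, ∃ K : ℕ, f ^ K • z = 0)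
    (htors' : ∀ z ∈ C'.cyc 0, ∀ c : ℤ, 0 < c → ∀ g ∈ ℬ c, ∃ K : ℕ, g ^ K • z = 0)
    (z : ((tot hT C C' L L').X 0).carrier) (hc : z ∈ (tot hT C C' L L').cyc 0) :
    TorsElt ((tot hT C C' L L').bdy 0) z := by
  change Seg (C.X 0) (C'.X 0) hT at z
  have hker : tmap (k := k) (taug C L) (taug C' L') (sval hT z) = 0 := by
    have h0 : totAug hT C C' L L' z = 0 := congrArg Subtype.val hc
    have := congrArg (sval hT) h0
    rwa [map_zero, totAug, sval_segMap] at this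
  have hv := ker_map_eq _ _ hker
  have hcyc : ∀ x : (C.X 0).carrier, taug C L x = 0 → x ∈ C.cyc 0 := fun x hx => by
    have : tpr C L 0 (taug C L x) = 0 := by rw [hx, map_zero]
    rwa [taug, LinearMap.comp_apply, tpr_temb hz] at this
  have hcyc' : ∀ x : (C'.X 0).carrier, taug C' L' x = 0 → x ∈ C'.cyc 0 := fun x hx => by
    have : tpr C' L' 0 (taug C' L' x) = 0 := by rw [hx, map_zero]
    rwa [taug, LinearMap.comp_apply, tpr_temb hz'] at this
  refine torsElt_of_tmul hT fun c hc f hf g hg t ht => ?_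
  suffices ∀ v ∈ LinearMap.range ((LinearMap.ker ((taug C L).restrictScalars k)).subtype.rTensor (C'.X 0).carrier) ⊔
      LinearMap.range ((LinearMap.ker ((taug C' L').restrictScalars k)).subtype.lTensor (C.X 0).carrier),
      ∃ K : ℕ, GrSeg.act k R S (C.X 0).carrier (C'.X 0).carrier ((f ⊗ₜ[k] g) ^ K) v = 0 by
    obtain ⟨K, hK⟩ := this _ hv
    refine ⟨K, (Submodule.mem_bot T).2 (sval_injective hT (X := C.X 0) (Y := C'.X 0) ?_)⟩
    change sval hT (t ^ K • z) = sval hT 0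
    rw [sval_smul, map_pow, ht, hK, map_zero]
  have hadd : ∀ a b : (C.X 0).carrier ⊗[k] (C'.X 0).carrier,
      (∃ K : ℕ, GrSeg.act k R S (C.X 0).carrier (C'.X 0).carrier ((f ⊗ₜ[k] g) ^ K) a = 0) →
      (∃ K : ℕ, GrSeg.act k R S (C.X 0).carrier (C'.X 0).carrier ((f ⊗ₜ[k] g) ^ K) b = 0) →
      ∃ K : ℕ, GrSeg.act k R S (C.X 0).carrier (C'.X 0).carrier ((f ⊗ₜ[k] g) ^ K) (a + b) = 0 := by
    rintro a b ⟨K, hK⟩ ⟨K', hK'⟩
    refine ⟨K + K', ?_⟩
    rw [map_add]
    refine (congrArg₂ (· + ·) ?_ ?_).trans (add_zero 0)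
    · rw [add_comm K, pow_add, act_mul, hK, map_zero]
    · rw [pow_add, act_mul, hK', map_zero]
  intro v hv
  obtain ⟨_, ⟨a, rfl⟩, _, ⟨b, rfl⟩, rfl⟩ := Submodule.mem_sup.1 hv
  clear hv
  refine hadd _ _ ?_ ?_
  · induction a using TensorProduct.induction_on with
    | zero => exact ⟨0, by rw [map_zero, map_zero]⟩
    | add x y hx hy => rw [map_add]; exact hadd _ _ hx hy
    | tmul x y =>
      obtain ⟨K, hK⟩ := htors x.1 (hcyc x.1 x.2) c hc f hf
      refine ⟨K, ?_⟩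
      rw [Algebra.TensorProduct.tmul_pow, LinearMap.rTensor_tmul, GrSeg.act_tmul]
      change (f ^ K • x.1) ⊗ₜ[k] _ = 0
      rw [hK, TensorProduct.zero_tmul]
  · induction b using TensorProduct.induction_on with
    | zero => exact ⟨0, by rw [map_zero, map_zero]⟩
    | add x y hx hy => rw [map_add]; exact hadd _ _ hx hy
    | tmul x y =>
      obtain ⟨K, hK⟩ := htors' y.1 (hcyc' y.1 y.2) c hc g hg
      refine ⟨K, ?_⟩
      rw [Algebra.TensorProduct.tmul_pow, LinearMap.lTensor_tmul, GrSeg.act_tmul]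
      change _ ⊗ₜ[k] (g ^ K • y.1) = 0
      rw [hK, TensorProduct.tmul_zero]

include hz hz' in
theorem torsion_tot' (hC : TorsCx C) (hC' : TorsCx C')
    (htors : ∀ z ∈ C.cyc 0, ∀ c : ℤ, 0 < c → ∀ f ∈ 𝒜 c, ∃ K : ℕ, f ^ K • z = 0)
    (htors' : ∀ z ∈ C'.cyc 0, ∀ c : ℤ, 0 < c → ∀ g ∈ ℬ c, ∃ K : ℕ, g ^ K • z = 0)
    (j : ℕ) (z : ((tot hT C C' L L').X j).carrier) (hc : z ∈ (tot hT C C' L L').cyc j) :
    TorsElt ((tot hT C C' L L').bdy j) z := by
  rcases j with _ | n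
  · exact torsion_tot_zero hT C C' L L' hz hz' htors htors' z hc
  obtain ⟨S', hS⟩ := exists_sum_cmp ((tot hT C C' L L').X (n + 1)).gr z
  rw [hS]
  refine TorsElt.sum _ _ _ fun d _ => ?_
  obtain ⟨w, hw, hwz⟩ := exists_degA hT C C' L L' d (cmp_mem ((tot hT C C' L L').X (n + 1)).gr d z)
  rw [← hwz]
  have hcd : degA hT C C' L L' d n w ∈ (tot hT C C' L L').cyc (n + 1) := by
    rw [hwz]; exact (tot hT C C' L L').isHomogeneous_cyc (n + 1) d hc
  have hd := tD_eq_zero_of_cyc hT C C' L L' d hw hcd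
  have hharm : ∀ w', TorsElt ((tot hT C C' L L').bdy (n + 1))
      (degA hT C C' L L' d n (tE (degGD C L d) (degGD C' L' d) (tπ (degGD C L d) (degGD C' L' d) n w'))) := by
    intro w'
    induction w' using TensorProduct.induction_on with
    | zero => simp only [map_zero]; exact torsElt_zero _
    | add a b ha hb => simp only [map_add]; exact ha.add _ hb
    | tmul a b =>
      rw [tπ, LinearMap.sum_apply, map_sum, map_sum]
      refine TorsElt.sum _ _ _ fun p hp => ?_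
      rw [tE, tM, tM, TensorProduct.map_tmul, TensorProduct.map_tmul]
      exact torsElt_harm hT C C' L L' hz hz' hC hC' (Finset.mem_antidiagonal.1 hp) ⟨a, rfl⟩ ⟨b, rfl⟩
  have h := hharm w
  rw [hw] at h
  rcases n with _ | n
  · rwa [eq_tE_of_zero _ _ hd hw] at h
  · have := h.add _ (torsElt_of_mem _ (sub_harm_mem_bdy hT C C' L L' d hw hd))
    rwa [add_sub_cancel] at this

omit hT hz hz' in
theorem tπT_eq_zero {a : ℕ} (h : L ≤ a) : tπT C L a = 0 := LinearMap.ext fun v => trunc_ext C L fun b => by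
  rw [tπT_apply, if_neg (by have := b.down.2; omega)]
  rfl

omit hT hz hz' in
theorem tπT_eq_comp (a : ℕ) : tπT C L a = temb C L a ∘ₗ tpr C L a :=
  LinearMap.ext fun v => (temb_tpr C L v).symm

omit hT hz hz' in
theorem tσT_comp_temb (a : ℕ) : tσT C L ∘ₗ temb C L a = ((-1 : ℤ) ^ a) • temb C L a :=
  LinearMap.ext fun x => by
    rw [LinearMap.comp_apply, LinearMap.smul_apply]
    by_cases ha : a < L
    · refine trunc_ext C L fun b => ?_
      change ((-1 : ℤ) ^ b.down.1) • (temb C L a x) b = ((-1 : ℤ) ^ a) • (temb C L a x) b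
      by_cases hb : b.down.1 = a
      · rw [hb]
      · have h0 : (tπT C L a (temb C L a x)) b = temb C L a x b := congrFun (π_temb C L a x) b
        rw [tπT_apply, if_neg hb] at h0
        rw [← h0, smul_zero, smul_zero]
    · simp [temb, dif_neg ha]

omit hT hz hz' in
theorem tpr_temb' {a : ℕ} (h : a < L) (z : (C.X (a + 1)).carrier) : tpr C L a (temb C L a z) = z := by
  rw [tpr_of_lt C L h, temb_apply_self]

omit hT hz hz' in
theorem tpr_temb_ne {a b : ℕ} (h : b ≠ a) (z : (C.X (b + 1)).carrier) : tpr C L a (temb C L b z) = 0 := by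
  by_cases ha : a < L
  · rw [tpr_of_lt C L ha]
    exact temb_apply_ne C L z ⟨⟨a, ha⟩⟩ (Ne.symm h)
  · rw [tpr, dif_neg ha]; rfl

/-- the embedding of the top spots -/
abbrev topEmb (ρ σ : ℕ) :
    (segMod (C.X (ρ + 1)) (C'.X (σ + 1)) hT).carrier →ₗ[T] (totAmb hT C C' L L').carrier :=
  segMap hT (temb C L ρ) (isHom_temb C L ρ) (temb C' L' σ) (isHom_temb C' L' σ)

variable {hz hz'} (ρ σ : ℕ) (hL : L = ρ + 2) (hL' : L' = σ + 2)

include hL hL'

theorem totP_top (n : ℕ) (hn : n = ρ + σ + 2) :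
    totP hT C C' L L' n = topEmb hT C C' L L' (ρ + 1) (σ + 1) ∘ₗ
      segMap hT (tpr C L (ρ + 1)) (isHom_tpr C L (ρ + 1)) (tpr C' L' (σ + 1)) (isHom_tpr C' L' (σ + 1)) := by
  rw [totP, Finset.sum_eq_single ((ρ + 1, σ + 1) : ℕ × ℕ)]
  · rw [topEmb, segMap_comp]
    exact segMap_congr hT _ _ _ _ (tπT_eq_comp C L _) (tπT_eq_comp C' L' _)
  · rintro ⟨a, b⟩ hab hne
    rw [Finset.mem_antidiagonal] at hab
    refine LinearMap.ext fun z => sval_injective hT ?_
    rw [sval_segMap, LinearMap.zero_apply, map_zero]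
    change TensorProduct.map _ _ _ = 0
    by_cases ha : L ≤ a
    · rw [tπT_eq_zero C L ha, LinearMap.restrictScalars_zero, TensorProduct.map_zero_left, LinearMap.zero_apply]
    by_cases hb : L' ≤ b
    · rw [tπT_eq_zero C' L' hb, LinearMap.restrictScalars_zero, TensorProduct.map_zero_right, LinearMap.zero_apply]
    exact absurd (Prod.ext (by simp only at hab ⊢; omega) (by simp only at hab ⊢; omega)) hne
  · exact fun h => absurd (Finset.mem_antidiagonal.2 (by omega)) h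

theorem totP_eq_zero (n : ℕ) (hn : ρ + σ + 2 < n) : totP hT C C' L L' n = 0 := by
  rw [totP]
  refine Finset.sum_eq_zero fun p hab => LinearMap.ext fun z => sval_injective hT ?_
  rw [Finset.mem_antidiagonal] at hab
  rw [sval_segMap, LinearMap.zero_apply, map_zero]
  change TensorProduct.map _ _ _ = 0
  by_cases ha : L ≤ p.1
  · rw [tπT_eq_zero C L ha, LinearMap.restrictScalars_zero, TensorProduct.map_zero_left, LinearMap.zero_apply]
  rw [tπT_eq_zero C' L' (show L' ≤ p.2 by omega), LinearMap.restrictScalars_zero, TensorProduct.map_zero_right,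
    LinearMap.zero_apply]

theorem totD_top_left (z : Seg (C.X (ρ + 1)) (C'.X (σ + 2)) hT) :
    totD hT C C' L L' (topEmb hT C C' L L' ρ (σ + 1) z) =
      topEmb hT C C' L L' (ρ + 1) (σ + 1)
        (segMap hT (C.d (ρ + 1)) (C.d_hom _) (LinearMap.id : (C'.X (σ + 2)).carrier →ₗ[S] _) IsHom.id z) +
      segMap hT (tσT C L ∘ₗ temb C L ρ) ((isHom_tσT C L).comp (isHom_temb C L ρ))
        (td C' L' ∘ₗ temb C' L' (σ + 1)) ((isHom_td C' L').comp (isHom_temb C' L' (σ + 1))) z := by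
  refine sval_injective hT ?_
  rw [map_add, sval_totD, sval_segMap, sval_segMap, sval_segMap, sval_segMap]
  generalize sval hT z = v
  induction v using TensorProduct.induction_on with
  | zero => simp
  | add a b ha hb => simp only [map_add, ha, hb]; abel
  | tmul x y =>
    rw [tD, LinearMap.add_apply]
    change td C L (temb C L ρ x) ⊗ₜ[k] temb C' L' (σ + 1) y +
        ((truncGD C L).σ (temb C L ρ x)) ⊗ₜ[k] td C' L' (temb C' L' (σ + 1) y) =
      temb C L (ρ + 1) (C.d (ρ + 1) x) ⊗ₜ[k] temb C' L' (σ + 1) y +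
        tσT C L (temb C L ρ x) ⊗ₜ[k] td C' L' (temb C' L' (σ + 1) y)
    rw [truncGD_σ_apply, td_temb (C := C) (L := L)]

theorem totD_top_right (z : Seg (C.X (ρ + 2)) (C'.X (σ + 1)) hT) :
    totD hT C C' L L' (topEmb hT C C' L L' (ρ + 1) σ z) =
      segMap hT (td C L ∘ₗ temb C L (ρ + 1)) ((isHom_td C L).comp (isHom_temb C L (ρ + 1)))
        (temb C' L' σ) (isHom_temb C' L' σ) z +
      ((-1 : ℤ) ^ (ρ + 1)) • topEmb hT C C' L L' (ρ + 1) (σ + 1)
        (segMap hT (LinearMap.id : (C.X (ρ + 2)).carrier →ₗ[R] _) IsHom.id (C'.d (σ + 1)) (C'.d_hom _) z) := by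
  refine sval_injective hT ?_
  rw [map_add, map_zsmul, sval_totD, sval_segMap, sval_segMap, sval_segMap, sval_segMap]
  generalize sval hT z = v
  induction v using TensorProduct.induction_on with
  | zero => simp
  | add a b ha hb => simp only [map_add, ha, hb, smul_add]; abel
  | tmul x y =>
    rw [tD, LinearMap.add_apply]
    change td C L (temb C L (ρ + 1) x) ⊗ₜ[k] temb C' L' σ y +
        ((truncGD C L).σ (temb C L (ρ + 1) x)) ⊗ₜ[k] td C' L' (temb C' L' σ y) =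
      td C L (temb C L (ρ + 1) x) ⊗ₜ[k] temb C' L' σ y +
        ((-1 : ℤ) ^ (ρ + 1)) • (temb C L (ρ + 1) x ⊗ₜ[k] temb C' L' (σ + 1) (C'.d (σ + 1) y))
    rw [truncGD_σ_apply, td_temb (C := C') (L := L'), TensorProduct.smul_tmul']
    exact congrArg (fun w => _ + w ⊗ₜ[k] _) (LinearMap.congr_fun (tσT_comp_temb C L (ρ + 1)) x)

omit hL hL' in
theorem td_temb_eq_zero {a : ℕ} (h : L ≤ a + 1) : td C L ∘ₗ temb C L a = 0 := LinearMap.ext fun x => by
  rw [LinearMap.comp_apply, td_temb (C := C) (L := L), LinearMap.zero_apply]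
  simp [temb, dif_neg (show ¬ a + 1 < L by omega)]

/-- onto the top cohomology -/
abbrev qTop (hzr : ∀ z : (C.X (ρ + 3)).carrier, z = 0) : (C.X (ρ + 2)).carrier →ₗ[R] (C.H (ρ + 2)).carrier :=
  (((C.bdy (ρ + 2)).comap (C.cyc (ρ + 2)).subtype).mkQ) ∘ₗ LinearMap.id.codRestrict _ fun x => hzr _

omit hL hL' in
theorem isHom_qTop (hzr : ∀ z : (C.X (ρ + 3)).carrier, z = 0) : IsHom (qTop C ρ hzr) :=
  fun _ x hx => ⟨⟨x, hzr _⟩, hx, rfl⟩

omit hL hL' in
theorem exact_qTop (hzr : ∀ z : (C.X (ρ + 3)).carrier, z = 0) : Function.Exact (C.d (ρ + 1)) (qTop C ρ hzr) :=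
  fun _ => (Submodule.Quotient.mk_eq_zero _).trans Iff.rfl

/-- The total complex in its top spot. -/
theorem iso_tot_top (hzr : ∀ z : (C.X (ρ + 3)).carrier, z = 0) (hzs : ∀ z : (C'.X (σ + 3)).carrier, z = 0) :
    GrLC.Iso ((tot hT C C' L L').H (ρ + σ + 2 + 1)) (segMod (C.H (ρ + 2)) (C'.H (σ + 2)) hT) := by
  let ι := topEmb hT C C' L L' (ρ + 1) (σ + 1)
  let P := segMap hT (tpr C L (ρ + 1)) (isHom_tpr C L (ρ + 1)) (tpr C' L' (σ + 1)) (isHom_tpr C' L' (σ + 1))
  let q := segMap hT (qTop C ρ hzr) (isHom_qTop C ρ hzr) (qTop C' σ hzs) (isHom_qTop C' σ hzs)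
  have hPι : ∀ z, P (ι z) = z := fun z => by
    rw [← LinearMap.comp_apply, segMap_comp]
    refine Eq.trans (LinearMap.congr_fun (segMap_congr hT _ IsHom.id _ IsHom.id ?_ ?_) z) (by rw [segMap_id]; rfl)
    · exact LinearMap.ext fun x => tpr_temb' C L (by omega) x
    · exact LinearMap.ext fun x => tpr_temb' C' L' (by omega) x
  have hιmem : ∀ z, ι z ∈ LinearMap.range (totP hT C C' L L' (ρ + σ + 2)) := fun z =>
    ⟨ι z, by rw [totP_top hT C C' L L' ρ σ hL hL' _ rfl, LinearMap.comp_apply, hPι]⟩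
  have hιP : ∀ v : LinearMap.range (totP hT C C' L L' (ρ + σ + 2)), ι (P v.1) = v.1 := by
    rintro ⟨_, y, rfl⟩
    change ι (P (totP hT C C' L L' (ρ + σ + 2) y)) = totP hT C C' L L' (ρ + σ + 2) y
    rw [totP_top hT C C' L L' ρ σ hL hL' _ rfl, LinearMap.comp_apply, hPι]
  have hcyc : ∀ v, v ∈ (tot hT C C' L L').cyc (ρ + σ + 2 + 1) := fun v => by
    refine Subtype.ext ?_
    obtain ⟨y, hy⟩ := (((tot hT C C' L L').d (ρ + σ + 2 + 1)) v).2
    refine hy.symm.trans ?_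
    exact LinearMap.congr_fun (totP_eq_zero hT C C' L L' ρ σ hL hL' _ (Nat.lt_succ_self _)) y
  let π : (tot hT C C' L L').cyc (ρ + σ + 2 + 1) →ₗ[T] (segMod (C.H (ρ + 2)) (C'.H (σ + 2)) hT).carrier :=
    q ∘ₗ P ∘ₗ (LinearMap.range (totP hT C C' L L' (ρ + σ + 2))).subtype ∘ₗ
      ((tot hT C C' L L').cyc (ρ + σ + 2 + 1)).subtype
  have hq0 : ∀ w, q w = 0 → ι w ∈ LinearMap.range
      (totD hT C C' L L' ∘ₗ totP hT C C' L L' (ρ + σ + 1)) := by
    intro w hw
    have hw' : tmap (k := k) (qTop C ρ hzr) (qTop C' σ hzs) (sval hT w) = 0 :=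
      (sval_segMap hT _ (isHom_qTop C ρ hzr) _ (isHom_qTop C' σ hzs) w).symm.trans (by
        change sval hT (q w) = 0
        rw [hw, map_zero])
    rw [← LinearMap.mem_ker, TensorProduct.map_ker
      (f := (C.d (ρ + 1)).restrictScalars k) (f' := (C'.d (σ + 1)).restrictScalars k)
      (g := (qTop C ρ hzr).restrictScalars k) (g' := (qTop C' σ hzs).restrictScalars k)
      (exact_qTop C ρ hzr) (fun y => by
        obtain ⟨x, rfl⟩ := Submodule.mkQ_surjective _ y; exact ⟨x.1, rfl⟩)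
      (exact_qTop C' σ hzs) (fun y => by
        obtain ⟨x, rfl⟩ := Submodule.mkQ_surjective _ y; exact ⟨x.1, rfl⟩)] at hw'
    obtain ⟨_, ⟨a, rfl⟩, _, ⟨b, rfl⟩, hab⟩ := Submodule.mem_sup.1 hw'
    obtain ⟨F, hF⟩ := sum_projPiece (sval_mem hT w)
    let a' : Seg (C.X (ρ + 2)) (C'.X (σ + 1)) hT := smk hT (∑ n ∈ F, projPiece 𝒜 ℬ _ _ n a)
      (sum_mem fun n _ => projPiece_mem_segSub n a)
    let b' : Seg (C.X (ρ + 1)) (C'.X (σ + 2)) hT := smk hT (∑ n ∈ F, projPiece 𝒜 ℬ _ _ n b)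
      (sum_mem fun n _ => projPiece_mem_segSub n b)
    have hwab : w = segMap hT (LinearMap.id : (C.X (ρ + 2)).carrier →ₗ[R] _) IsHom.id (C'.d (σ + 1)) (C'.d_hom _) a'
        + segMap hT (C.d (ρ + 1)) (C.d_hom _) (LinearMap.id : (C'.X (σ + 2)).carrier →ₗ[S] _) IsHom.id b' := by
      refine sval_injective hT ?_
      rw [map_add, sval_segMap, sval_segMap, sval_smk, sval_smk, map_sum, map_sum, hF, ← Finset.sum_add_distrib]
      refine Finset.sum_congr rfl fun n _ => ?_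
      rw [tmap_projPiece IsHom.id (C'.d_hom _), tmap_projPiece (C.d_hom _) IsHom.id, ← map_add, ← hab]
      rfl
    have hmemP : ∀ i j, i + j = ρ + σ + 1 → ∀ z, totP hT C C' L L' (ρ + σ + 1)
        (topEmb hT C C' L L' i j z) = topEmb hT C C' L L' i j z := by
      intro i j hij z
      refine sval_injective hT ?_
      rw [sval_totP, topEmb, sval_segMap, tπ, LinearMap.sum_apply, Finset.sum_eq_single ((i, j) : ℕ × ℕ)]
      · change TensorProduct.map _ _ (TensorProduct.map _ _ _) = TensorProduct.map _ _ _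
        rw [TensorProduct.map_map]
        congr 2 <;> exact LinearMap.ext fun x => π_temb _ _ _ x
      · rintro ⟨i', j'⟩ h' hne
        rw [Finset.mem_antidiagonal] at h'
        change TensorProduct.map _ _ (TensorProduct.map _ _ _) = 0
        rw [TensorProduct.map_map]
        have : i' ≠ i := fun e => hne (Prod.ext e (by simp only; omega))
        rw [show (truncGD C L).π i' ∘ₗ (temb C L i).restrictScalars k = 0 from LinearMap.ext fun x => by
          change tπT C L i' (temb C L i x) = 0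
          refine trunc_ext C L fun c => ?_
          rw [tπT_apply]
          split_ifs with hc
          · have h0 : (tπT C L i (temb C L i x)) c = temb C L i x c := congrFun (π_temb C L i x) c
            rw [tπT_apply, if_neg (hc ▸ this)] at h0
            exact h0.symm
          · rfl, TensorProduct.map_zero_left, LinearMap.zero_apply]
      · exact fun h => absurd (Finset.mem_antidiagonal.2 hij) h
    refine ⟨topEmb hT C C' L L' ρ (σ + 1) b' + ((-1 : ℤ) ^ (ρ + 1)) • topEmb hT C C' L L' (ρ + 1) σ a', ?_⟩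
    rw [LinearMap.comp_apply, map_add, map_zsmul, hmemP _ _ (by omega), hmemP _ _ (by omega), map_add, map_zsmul,
      totD_top_left hT C C' L L' ρ σ hL hL', totD_top_right hT C C' L L' ρ σ hL hL', hwab, map_add]
    have z1 : ∀ z : Seg (C.X (ρ + 1)) (C'.X (σ + 2)) hT, segMap hT (tσT C L ∘ₗ temb C L ρ)
        ((isHom_tσT C L).comp (isHom_temb C L ρ)) (td C' L' ∘ₗ temb C' L' (σ + 1))
        ((isHom_td C' L').comp (isHom_temb C' L' (σ + 1))) z = 0 := fun z => sval_injective hT (by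
      rw [sval_segMap, map_zero]
      change TensorProduct.map _ _ _ = 0
      rw [td_temb_eq_zero C' L' (by omega), LinearMap.restrictScalars_zero, TensorProduct.map_zero_right,
        LinearMap.zero_apply])
    have z2 : ∀ z : Seg (C.X (ρ + 2)) (C'.X (σ + 1)) hT, segMap hT (td C L ∘ₗ temb C L (ρ + 1))
        ((isHom_td C L).comp (isHom_temb C L (ρ + 1))) (temb C' L' σ) (isHom_temb C' L' σ) z = 0 :=
      fun z => sval_injective hT (by
      rw [sval_segMap, map_zero]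
      change TensorProduct.map _ _ _ = 0
      rw [td_temb_eq_zero C L (by omega), LinearMap.restrictScalars_zero, TensorProduct.map_zero_left,
        LinearMap.zero_apply])
    rw [z1, z2, add_zero, zero_add, smul_smul, ← mul_pow, neg_one_mul, neg_neg, one_pow, one_smul, add_comm]
  have hq1 : ∀ y, q (P (totD hT C C' L L' (totP hT C C' L L' (ρ + σ + 1) y))) = 0 := by
    intro y
    refine sval_injective hT ?_
    rw [map_zero, sval_segMap, sval_segMap, sval_totD, sval_totP]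
    generalize sval hT y = v
    induction v using TensorProduct.induction_on with
    | zero => simp
    | add u v hu hv => simp only [map_add, hu, hv, add_zero]
    | tmul x x' =>
      rw [tπ, LinearMap.sum_apply, map_sum, map_sum, map_sum]
      refine Finset.sum_eq_zero fun p hp => ?_
      rw [Finset.mem_antidiagonal] at hp
      rw [tM, TensorProduct.map_tmul, tD, LinearMap.add_apply, tM, tM, TensorProduct.map_tmul, TensorProduct.map_tmul]
      simp only [map_add, tmap, TensorProduct.map_tmul, LinearMap.restrictScalars_apply]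
      have e1 : qTop C ρ hzr (tpr C L (ρ + 1) (td C L (tπT C L p.1 x))) = 0 := by
        rw [show td C L (tπT C L p.1 x) = temb C L (p.1 + 1) (C.d (p.1 + 1) (tpr C L p.1 x)) from
          (congrArg (td C L) (LinearMap.congr_fun (tπT_eq_comp C L p.1) x)).trans (td_temb _ _)]
        by_cases hp1 : p.1 = ρ
        · rw [hp1, tpr_temb' C L (by omega)]
          exact ((exact_qTop C ρ hzr) _).2 ⟨_, rfl⟩
        · rw [tpr_temb_ne C L (by omega), map_zero]
      have e2 : qTop C' σ hzs (tpr C' L' (σ + 1) (td C' L' (tπT C' L' p.2 x'))) = 0 := by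
        rw [show td C' L' (tπT C' L' p.2 x') = temb C' L' (p.2 + 1) (C'.d (p.2 + 1) (tpr C' L' p.2 x')) from
          (congrArg (td C' L') (LinearMap.congr_fun (tπT_eq_comp C' L' p.2) x')).trans (td_temb _ _)]
        by_cases hp2 : p.2 = σ
        · rw [hp2, tpr_temb' C' L' (by omega)]
          exact ((exact_qTop C' σ hzs) _).2 ⟨_, rfl⟩
        · rw [tpr_temb_ne C' L' (by omega), map_zero]
      refine (congrArg₂ (· + ·) ?_ ?_).trans (add_zero 0)
      · change qTop C ρ hzr (tpr C L (ρ + 1) (td C L (tπT C L p.1 x))) ⊗ₜ[k] _ = 0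
        rw [e1, TensorProduct.zero_tmul]
      · change _ ⊗ₜ[k] qTop C' σ hzs (tpr C' L' (σ + 1) (td C' L' (tπT C' L' p.2 x'))) = 0
        rw [e2, TensorProduct.tmul_zero]
  refine iso_subquot_of_surj _ _ π ?_ ?_ ?_
  · exact fun g v hv => isHom_segMap hT (isHom_qTop C ρ hzr) (isHom_qTop C' σ hzs) g _
      (isHom_segMap hT (isHom_tpr C L (ρ + 1)) (isHom_tpr C' L' (σ + 1)) g _ hv)
  · intro y
    obtain ⟨w, hw⟩ := segMap_surjective hT (isHom_qTop C ρ hzr) (isHom_qTop C' σ hzs)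
      (fun y => by obtain ⟨x, rfl⟩ := Submodule.mkQ_surjective _ y; exact ⟨x.1, rfl⟩)
      (fun y => by obtain ⟨x, rfl⟩ := Submodule.mkQ_surjective _ y; exact ⟨x.1, rfl⟩) y
    refine ⟨⟨(⟨ι w, hιmem w⟩ : LinearMap.range (totP hT C C' L L' (ρ + σ + 2))), hcyc _⟩, ?_⟩
    change q (P (ι w)) = y
    rw [hPι]
    exact hw
  · ext ⟨v, hv⟩
    rw [LinearMap.mem_ker, Submodule.mem_comap]
    change q (P v.1) = 0 ↔ v ∈ LinearMap.range ((tot hT C C' L L').d (ρ + σ + 1 + 1))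
    constructor
    · intro h
      obtain ⟨y, hy⟩ := hq0 _ h
      refine ⟨(⟨totP hT C C' L L' (ρ + σ + 1) y, y, rfl⟩ : LinearMap.range (totP hT C C' L L' (ρ + σ + 1))),
        Subtype.ext (hy.trans (hιP v))⟩
    · rintro ⟨⟨_, y, rfl⟩, rfl⟩
      exact hq1 y

end

section EHTop

variable {R : Type u} [CommRing R] [IsNoetherianRing R] {σ : Type u} [SetLike σ R] [AddSubgroupClass σ R] {𝒜 : ℤ → σ}
  [GradedRing 𝒜] {M : Type u} [AddCommGroup M] [Module R M] {τ : Type u} [SetLike τ M] [AddSubgroupClass τ M]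
  {ℳ : ℤ → τ} [Decomposition ℳ] [SetLike.GradedSMul 𝒜 ℳ]

theorem iso_EH_of_radical (E : StarInjRes 𝒜 ℳ) {a b : HomogeneousIdeal 𝒜}
    (h : a.toIdeal.radical = b.toIdeal.radical) (i : ℕ) : GrLC.Iso (EH E a i) (EH E b i) := by
  have hcyc : E.cocyc a i = E.cocyc b i := by
    rw [StarInjRes.cocyc, StarInjRes.cocyc, gam_congr_radical h]
  have hbdy : E.cobdy a i = E.cobdy b i := by
    rcases i with _ | j
    · rfl
    · rw [StarInjRes.cobdy, StarInjRes.cobdy, gam_congr_radical h]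
  refine iso_of_rel _ _ _ _ _ _ _ _ ((E.cocyc a i).map (LinearMap.id.prod LinearMap.id)) ?_ ?_ ?_
  · rintro z w ⟨x, hx, e⟩
    obtain ⟨rfl, rfl⟩ := Prod.ext_iff.1 e
    exact ⟨hx, hcyc ▸ hx, hbdy ▸ Iff.rfl⟩
  · exact fun w hw => ⟨w, w, hcyc ▸ hw, rfl⟩
  · exact fun g z hz hg => ⟨z, hg, z, hz, rfl⟩

theorem torsCx_cech_radical {l : List (HElt 𝒜)}
    (hl : ∀ n : ℤ, 0 < n → ∀ r ∈ 𝒜 n, r ∈ (hspan l).toIdeal.radical) (X : GMod.{u} 𝒜) :
    TorsCx (cech X l) ∧ ∀ z ∈ (cech X l).cyc 0, ∀ c : ℤ, 0 < c → ∀ f ∈ 𝒜 c, ∃ K : ℕ, f ^ K • z = 0 := by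
  have key : ∀ i, ∀ z ∈ (cech X l).cyc i, ∀ c : ℤ, 0 < c → ∀ f ∈ 𝒜 c, ∃ K : ℕ, f ^ K • z ∈ (cech X l).bdy i := by
    intro i z hz c hc f hf
    let J : Ideal R := Submodule.comap (LinearMap.toSpanSingleton R ((cech X l).X i).carrier z) ((cech X l).bdy i)
    have hle : (hspan l).toIdeal ≤ J.radical := by
      rw [toIdeal_hspan]
      exact Ideal.span_le.2 fun r hr => by
        obtain ⟨y, hy, rfl⟩ := hr
        exact exists_pow_smul_mem_bdy hz hy
    exact (Ideal.radical_le_radical_iff.2 hle) (hl c hc f hf)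
  exact ⟨fun a z hz => key (a + 1) z hz, fun z hz c hc f hf =>
    (key 0 z hz c hc f hf).imp fun K hK => (Submodule.mem_bot R).1 hK⟩

end EHTop

section Top

variable {k : Type u} [Field k]

theorem exists_hsop_list {R : Type u} [CommRing R] [Algebra k R] {𝒜 : ℤ → Submodule k R} [GradedAlgebra 𝒜]
    [Algebra.FiniteType k R] (hpos : ∀ n : ℤ, n < 0 → 𝒜 n = ⊥) (h0 : 𝒜 0 = Submodule.span k {(1 : R)})
    {m : HomogeneousIdeal 𝒜} (hm : m.toIdeal = Ideal.span (⋃ n ∈ Set.Ioi (0 : ℤ), (𝒜 n : Set R))) {r : ℕ}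
    (hr : ringKrullDim R ≤ r) : ∃ l : List (HElt 𝒜), l.length = r ∧ (∀ y ∈ l, 0 < y.deg) ∧
      (hspan l).toIdeal.radical = m.toIdeal.radical ∧
      ∀ n : ℤ, 0 < n → ∀ x ∈ 𝒜 n, x ∈ (hspan l).toIdeal.radical := by
  have : IsNoetherianRing R := Algebra.FiniteType.isNoetherianRing k R
  obtain ⟨e, f, hef, hle⟩ := exists_radical_span 𝒜 hpos h0 r ⊥ (Ideal.IsHomogeneous.bot 𝒜)
    ((ringKrullDim_le_of_surjective (RingEquiv.quotientBot R).symm.toRingHom
      (RingEquiv.quotientBot R).symm.surjective).trans hr)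
  rw [bot_sup_eq] at hle
  let l : List (HElt 𝒜) := List.ofFn fun i => (⟨f i, (e i : ℤ), (hef i).2⟩ : HElt 𝒜)
  have hlspan : (hspan l).toIdeal = Ideal.span (Set.range f) := by
    rw [toIdeal_hspan]
    congr 1
    ext x
    constructor
    · rintro ⟨y, hy, rfl⟩
      obtain ⟨i, rfl⟩ := List.mem_ofFn.1 hy
      exact ⟨i, rfl⟩
    · rintro ⟨i, rfl⟩
      exact ⟨_, List.mem_ofFn.2 ⟨i, rfl⟩, rfl⟩
  refine ⟨l, List.length_ofFn, fun y hy => ?_, le_antisymm (Ideal.radical_mono ?_)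
    (Ideal.radical_le_radical_iff.2 ?_), fun n hn x hx => ?_⟩
  · obtain ⟨i, rfl⟩ := List.mem_ofFn.1 hy
    exact Int.natCast_pos.2 (hef i).1
  · rw [hlspan, hm]
    refine Ideal.span_le.2 ?_
    rintro _ ⟨i, rfl⟩
    exact mem_irrel 𝒜 (Int.natCast_pos.2 (hef i).1) (hef i).2
  · rw [hlspan, hm]; exact hle
  · rw [hlspan]; exact hle (mem_irrel 𝒜 hn hx)

variable {R : Type u} [CommRing R] [Algebra k R] {S : Type u} [CommRing S] [Algebra k S]
  {T : Type u} [CommRing T] [Algebra k T] {𝒜 : ℤ → Submodule k R} [GradedAlgebra 𝒜] {ℬ : ℤ → Submodule k S}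
  [GradedAlgebra ℬ] {𝒯 : ℤ → Submodule k T} [GradedAlgebra 𝒯] {ψ : T →ₐ[k] R ⊗[k] S}
  (hT : GrSeg.IsSegreRing 𝒜 ℬ 𝒯 ψ)
  {M : Type u} [AddCommGroup M] [Module R M] [Module k M] [IsScalarTower k R M] {ℳ : ℤ → AddSubgroup M}
  [Decomposition ℳ] [SetLike.GradedSMul 𝒜 ℳ]
  {N : Type u} [AddCommGroup N] [Module S N] [Module k N] [IsScalarTower k S N] {𝒩 : ℤ → AddSubgroup N}
  [Decomposition 𝒩] [SetLike.GradedSMul ℬ 𝒩]
  {P : Type u} [AddCommGroup P] [Module T P] [Module k P] [IsScalarTower k T P] {𝒬 : ℤ → AddSubgroup P}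
  [Decomposition 𝒬] {φ : P →ₗ[k] M ⊗[k] N} (hP : GrSeg.IsSegreMod ψ ℳ 𝒩 𝒬 φ) [SetLike.GradedSMul 𝒯 𝒬]
  [Algebra.FiniteType k R] [Algebra.FiniteType k S]
  (hposR : ∀ n : ℤ, n < 0 → 𝒜 n = ⊥) (h0R : 𝒜 0 = Submodule.span k {(1 : R)})
  (hposS : ∀ n : ℤ, n < 0 → ℬ n = ⊥) (h0S : ℬ 0 = Submodule.span k {(1 : S)})
  {mR : HomogeneousIdeal 𝒜} (hmR : mR.toIdeal = Ideal.span (⋃ n ∈ Set.Ioi (0 : ℤ), (𝒜 n : Set R)))
  {mS : HomogeneousIdeal ℬ} (hmS : mS.toIdeal = Ideal.span (⋃ n ∈ Set.Ioi (0 : ℤ), (ℬ n : Set S)))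
  {mT : HomogeneousIdeal 𝒯} (hmT : mT.toIdeal = Ideal.span (⋃ n ∈ Set.Ioi (0 : ℤ), (𝒯 n : Set T)))
  (EM : StarInjRes 𝒜 ℳ) (EN : StarInjRes ℬ 𝒩) (EP : StarInjRes 𝒯 𝒬)

include hT hP hposR h0R hposS h0S hmR hmS hmT

/-- The top local cohomology of a Segre product. -/
theorem iso_EH_top {ρ σ : ℕ} (hr : ringKrullDim R ≤ (ρ + 2 : ℕ)) (hs : ringKrullDim S ≤ (σ + 2 : ℕ)) :
    GrLC.Iso (EH EP mT (ρ + σ + 2 + 1)) (segMod (EH EM mR (ρ + 2)) (EH EN mS (σ + 2)) hT) := by
  have : IsNoetherianRing R := Algebra.FiniteType.isNoetherianRing k R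
  have : IsNoetherianRing S := Algebra.FiniteType.isNoetherianRing k S
  have : IsNoetherianRing T := Groth.Agent.S18646.result k R 𝒜 hposR h0R S ℬ hposS h0S T 𝒯 ψ hT.1 hT.2
  obtain ⟨lR, hlenR, hRpos, hRrad, hRgen⟩ := exists_hsop_list hposR h0R hmR hr
  obtain ⟨lS, hlenS, hSpos, hSrad, hSgen⟩ := exists_hsop_list hposS h0S hmS hs
  obtain ⟨lT, hlT, hTpos, hTgen⟩ := exists_pos_irrel_list (fun n hn r hr => by
    rwa [segre_neg hT hposR hn, Submodule.mem_bot] at hr) mT hmT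
  let C := cech (gmod 𝒜 ℳ) lR
  let C' := cech (gmod ℬ 𝒩) lS
  have hz : ∀ a, ρ + 2 ≤ a → ∀ z : (C.X (a + 1)).carrier, z = 0 := fun a ha z =>
    cech_eq_zero_of_length lR (a + 1) (by omega) z
  have hz' : ∀ a, σ + 2 ≤ a → ∀ z : (C'.X (a + 1)).carrier, z = 0 := fun a ha z =>
    cech_eq_zero_of_length lS (a + 1) (by omega) z
  obtain ⟨hC, hC0⟩ := torsCx_cech_radical hRgen (gmod 𝒜 ℳ)
  obtain ⟨hC', hC0'⟩ := torsCx_cech_radical hSgen (gmod ℬ 𝒩)
  obtain ⟨e, he⟩ := iso_segMod hT hP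
  have h1 := (cechMap e.toLinearMap he lT).iso_of_bijective (cechMap_bijective _ he e.bijective lT) (ρ + σ + 2 + 1)
  have hi : IsHom (X := segMod (gmod 𝒜 ℳ) (gmod ℬ 𝒩) hT) (Y := segMod (C.X 0) (C'.X 0) hT)
      (segMap hT (inc0 (gmod 𝒜 ℳ) lR) (isHom_inc0 _ lR) (inc0 (gmod ℬ 𝒩) lS) (isHom_inc0 _ lS)) :=
    isHom_segMap hT _ _
  have h2 := (cechMap _ hi lT).iso_of_bijective (cechMap_bijective _ hi
    ⟨segMap_injective hT _ _ (inc0_bijective _ lR).1 (inc0_bijective _ lS).1,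
      segMap_surjective hT _ _ (inc0_bijective _ lR).2 (inc0_bijective _ lS).2⟩ lT) (ρ + σ + 2 + 1)
  have h3 := GCx.iso_cech_of_acyclic (A := tot hT C C' (ρ + 2) (σ + 2))
    (fun n i g => van_tot hT C C' _ _ hTgen (locTerm_cech _ lR hRpos) (locTerm_cech _ lS hSpos) n i g)
    (fun n z hzc y hy => torsion_tot' hT C C' _ _ hz hz' hC hC' hC0 hC0' n z hzc y.deg (hTpos y hy) y.val y.mem)
    (ρ + σ + 2 + 1)
  have h4 := iso_tot_top hT C C' (ρ + 2) (σ + 2) ρ σ rfl rfl (hz (ρ + 2) le_rfl) (hz' (σ + 2) le_rfl)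
  refine (iso_cech EP hlT _).trans (h1.trans (h2.trans (h3.trans (h4.trans ?_))))
  obtain ⟨f, hf⟩ := (iso_cech EM (a := hspan lR) rfl (ρ + 2)).symm.trans (iso_EH_of_radical EM hRrad (ρ + 2))
  obtain ⟨g, hg⟩ := (iso_cech EN (a := hspan lS) rfl (σ + 2)).symm.trans (iso_EH_of_radical EN hSrad (σ + 2))
  exact ⟨LinearEquiv.ofBijective (segMap hT f.toLinearMap hf g.toLinearMap hg)
    ⟨segMap_injective hT _ _ f.injective g.injective, segMap_surjective hT _ _ f.surjective g.surjective⟩,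
    isHom_segMap hT hf hg⟩

end Top

end GrothLib.Segre
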