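import Groth.Agent.Lib.GrDual.Exists
import Groth.Agent.Lib.Segre.SegDual
import Groth.Agent.Lib.Segre.TopDeg
import Groth.Agent.Lib.Segre.CMCriterion
import Groth.Agent.Lib.GrLC.CanonGor

/-!
# Gorenstein graded algebras over a field, and the canonical module of a Segre product
-/

universe u

open DirectSum
open scoped TensorProduct

namespace GrothLib.GrDual

open _root_.GrLC (GMod IsGrHom)
open GrothLib.GrLC (cmp cmp_mem cmp_of_mem exists_sum_cmp)

variable {k : Type u} [Field k] {R : Type u} [CommRing R] [Algebra k R]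
  {M : Type u} [AddCommGroup M] [Module R M] [Module k M] [IsScalarTower k R M] {ℳ : ℤ → AddSubgroup M}
  [Decomposition ℳ]
  {D : Type u} [AddCommGroup D] [Module R D] [Module k D] [IsScalarTower k R D] {𝒟 : ℤ → AddSubgroup D}
  [Decomposition 𝒟]
  {D' : Type u} [AddCommGroup D'] [Module R D'] [Module k D'] [IsScalarTower k R D'] {𝒟' : ℤ → AddSubgroup D'}
  [Decomposition 𝒟']

/-- Graded duals are unique. -/
theorem exists_equiv_of_isGDual {β : D →ₗ[k] M →ₗ[k] k} (hβ : GrSeg.IsGDual R ℳ 𝒟 β)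
    {β' : D' →ₗ[k] M →ₗ[k] k} (hβ' : GrSeg.IsGDual R ℳ 𝒟' β') :
    ∃ e : D ≃ₗ[R] D', IsGrHom 𝒟 𝒟' e.toLinearMap := by
  classical
  have key : ∀ {A B : Type u} [AddCommGroup A] [Module R A] [Module k A] [IsScalarTower k R A]
      [AddCommGroup B] [Module R B] [Module k B] [IsScalarTower k R B] {𝒶 : ℤ → AddSubgroup A} [Decomposition 𝒶]
      {𝒷 : ℤ → AddSubgroup B} [Decomposition 𝒷] {α : A →ₗ[k] M →ₗ[k] k} {γ : B →ₗ[k] M →ₗ[k] k},
      GrSeg.IsGDual R ℳ 𝒶 α → GrSeg.IsGDual R ℳ 𝒷 γ →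
      ∀ a, ∃ b, γ b = α a ∧ ∀ n, a ∈ 𝒶 n → b ∈ 𝒷 n := by
    intro A B _ _ _ _ _ _ _ _ 𝒶 _ 𝒷 _ α γ hα hγ a
    have hhom : ∀ n, ∀ a ∈ 𝒶 n, ∃ b ∈ 𝒷 n, γ b = α a := fun n a ha => by
      obtain ⟨b, hb, hb'⟩ := exists_dual hγ n (α a)
      exact ⟨b, hb, LinearMap.ext fun x => (hb' x).trans (apply_of_mem hα ha x).symm⟩
    by_cases hn : ∃ n, a ∈ 𝒶 n ∧ a ≠ 0
    · obtain ⟨n, ha, ha0⟩ := hn
      obtain ⟨b, hb, hb'⟩ := hhom n a ha
      refine ⟨b, hb', fun j hj => ?_⟩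
      by_cases hjn : n = j
      · subst hjn; exact hb
      · exact absurd ((cmp_of_mem 𝒶 hj).symm.trans (GrothLib.GrLC.cmp_of_mem_ne 𝒶 ha hjn)) ha0
    · push_neg at hn
      choose f hf hf' using fun n => hhom n (cmp 𝒶 n a) (cmp_mem 𝒶 n a)
      obtain ⟨s, hs⟩ := exists_sum_cmp 𝒶 a
      by_cases ha0 : a = 0
      · exact ⟨0, by rw [ha0, map_zero, map_zero], fun n _ => zero_mem _⟩
      · refine ⟨∑ n ∈ s, f n, ?_, fun n hn' => absurd (hn n hn') ha0⟩
        conv_rhs => rw [hs]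
        rw [map_sum, map_sum]
        exact Finset.sum_congr rfl fun n _ => hf' n
  choose f hf hfg using key hβ hβ'
  choose g hg _ using key hβ' hβ
  let e : D ≃ₗ[R] D' :=
    { toFun := f
      invFun := g
      left_inv := fun d => ext_dual hβ fun x => by rw [hg, hf]
      right_inv := fun d => ext_dual hβ' fun x => by rw [hf, hg]
      map_add' := fun a b => ext_dual hβ' fun x => by rw [hf, map_add, map_add, hf, hf]
      map_smul' := fun r a => ext_dual hβ' fun x => by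
        rw [hf, RingHom.id_apply, hβ.map_smul, hβ'.map_smul, hf] }
  exact ⟨e, fun n d hd => hfg d n hd⟩

/-- A graded dual transported along an isomorphism. -/
theorem isGDual_of_iso {β : D →ₗ[k] M →ₗ[k] k} (hβ : GrSeg.IsGDual R ℳ 𝒟 β) (e : D' ≃ₗ[R] D)
    (he : IsGrHom 𝒟' 𝒟 e.toLinearMap) (he' : IsGrHom 𝒟 𝒟' e.symm.toLinearMap) :
    GrSeg.IsGDual R ℳ 𝒟' (β ∘ₗ e.toLinearMap.restrictScalars k) where
  map_smul r d x := by
    change β (e (r • d)) x = β (e d) (r • x)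
    rw [map_smul, hβ.map_smul]
  vanish n d hd j hj x hx := hβ.vanish n _ (he n d hd) j hj x hx
  eq_zero n d hd h := e.injective ((hβ.eq_zero n _ (he n d hd) h).trans (map_zero e).symm)
  exists_eq n g := by
    obtain ⟨d, hd, h⟩ := hβ.exists_eq n g
    refine ⟨e.symm d, he' n d hd, fun x hx => ?_⟩
    change β (e (e.symm d)) x = g x
    rw [e.apply_symm_apply]
    exact h x hx

end GrothLib.GrDual

namespace GrothLib.GrLC

open CategoryTheory

noncomputable section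

variable {R : Type u} [CommRing R] [IsNoetherianRing R] {σ : Type u} [SetLike σ R] [AddSubgroupClass σ R] {𝒜 : ℤ → σ}
  [GradedRing 𝒜] (hpos : ∀ n : ℤ, n < 0 → ∀ r ∈ 𝒜 n, r = 0) (h0 : IsField (_root_.GrLC.deg0 𝒜))
  {m : HomogeneousIdeal 𝒜} (hm : _root_.GrLC.IsStarLocal 𝒜 m)
  (hirr : ∀ n : ℤ, 0 < n → ∀ r ∈ 𝒜 n, r ∈ m.toIdeal)
  {n : ℕ} (hn : ringKrullDim R = n)
  {E' : Type u} [AddCommGroup E'] [Module R E'] {𝓔 : ℤ → AddSubgroup E'} [DirectSum.Decomposition 𝓔]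
  [SetLike.GradedSMul 𝒜 𝓔] {e : (R ⧸ m.toIdeal) →ₗ[R] E'}
  (he : _root_.GrLC.IsStarInjHull 𝒜 (_root_.GrLC.quotGr 𝒜 m) 𝓔 e)
  {I : _root_.GrLC.StarInjRes 𝒜 𝒜}
  {C : Type u} [AddCommGroup C] [Module R C] {𝒞 : ℤ → AddSubgroup C} [DirectSum.Decomposition 𝒞]
  [SetLike.GradedSMul 𝒜 𝒞] (hC : _root_.GrLC.IsStarCanonical 𝒜 𝒞 𝓔 m n I)

include hpos h0 hm hirr hn he hC in
/-- A Cohen–Macaulay graded ring over a field is Gorenstein iff its canonical module is a shift of it. -/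
theorem isGorensteinRing_iff_exists_shift [LocCoh.IsCohenMacaulayRing R] :
    LocCoh.IsGorensteinRing R ↔ ∃ (a : ℤ) (f : R →ₗ[R] C), Function.Bijective f ∧ _root_.GrLC.IsGrHomDeg 𝒜 𝒞 f a := by
  have : Module.Finite R C := hC.1
  have := isMaximal_of_isStarLocal hpos hm
  constructor
  · intro hG
    have := hG.isGorensteinLocalRing_localization m.toIdeal
    obtain ⟨E₀, _, _, f, hf, ⟨eK⟩⟩ := exists_local_canonical he hC
    obtain ⟨g, hg⟩ := GrothLib.Gor.exists_isInjectiveHull (Localization.AtPrime m.toIdeal)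
      (ringKrullDim_localization hpos hm hn)
    obtain ⟨ι, -⟩ := GrothLib.InjMod.hull_unique hf hg
    obtain ⟨φ⟩ := GrothLib.CanonMod.nonempty_equiv_of_dual hf (K := Localization.AtPrime m.toIdeal)
      (eK ≪≫ₗ ι.symm ≪≫ₗ (LinearMap.ringLmapEquivSelf _ _ _).symm)
    exact exists_shift_equiv hpos h0 hirr φ.symm
  · rintro ⟨a, f, hf, -⟩
    let A := Localization.AtPrime m.toIdeal
    have := LocCoh.IsCohenMacaulayRing.isCohenMacaulayLocalRing_localization (R := R) m.toIdeal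
    let φ : LocalizedModule m.toIdeal.primeCompl C ≃ₗ[A] A :=
      LocalizedModule.equivTensorProduct m.toIdeal.primeCompl C ≪≫ₗ
        ((LinearEquiv.ofBijective f hf).symm.baseChange R A _ _) ≪≫ₗ TensorProduct.AlgebraTensorModule.rid R A A
    have := (exists_local_canonical_cm hpos hm hn he hC).2
    exact isGorensteinRing_of_irrelevant hpos h0 hm hirr
      { exists_hasInjectiveDimensionLT := ⟨n + 1, hasInjectiveDimensionLT_of_iso φ.toModuleIso (n + 1)⟩ }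

end

end GrothLib.GrLC

namespace GrothLib.Gor

/-- A Gorenstein ring is Cohen–Macaulay. -/
theorem isCohenMacaulayRing (R : Type u) [CommRing R] [LocCoh.IsGorensteinRing R] : LocCoh.IsCohenMacaulayRing R :=
  { (inferInstance : IsNoetherianRing R) with
    isCohenMacaulayLocalRing_localization := fun p _ => by
      have := LocCoh.IsGorensteinRing.isGorensteinLocalRing_localization (A := R) p
      exact GrothLib.Gor.isCohenMacaulayLocalRing _ }

end GrothLib.Gor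

namespace GrothLib.Segre

open _root_.GrLC (GMod IsStarLocal IsStarInjHull IsStarCanonical quotGr StarInjRes endDeg)
open GrothLib.GrLC (cmp cmp_mem cmp_of_mem exists_sum_cmp EH)
open GrothLib.GrDual (pieceK)

noncomputable section

section Ring

variable {k : Type u} [Field k] {R : Type u} [CommRing R] [Algebra k R] [Algebra.FiniteType k R] [Nontrivial R]
  {𝒜 : ℤ → Submodule k R} [GradedAlgebra 𝒜] (hpos : ∀ n : ℤ, n < 0 → 𝒜 n = ⊥)
  (h0 : 𝒜 0 = Submodule.span k {(1 : R)})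
  {m : HomogeneousIdeal 𝒜} (hm : m.toIdeal = Ideal.span (⋃ n ∈ Set.Ioi (0 : ℤ), (𝒜 n : Set R)))

omit [Algebra.FiniteType k R] in
include h0 in
theorem isField_deg0 : IsField (_root_.GrLC.deg0 𝒜) := by
  refine ⟨⟨0, 1, fun h => zero_ne_one (congrArg Subtype.val h)⟩, mul_comm, fun {a} ha => ?_⟩
  have ha' : (a : R) ∈ 𝒜 0 := a.2
  rw [h0] at ha'
  obtain ⟨c, hc⟩ := Submodule.mem_span_singleton.1 ha'
  have hc0 : c ≠ 0 := fun h => ha (Subtype.ext (by rw [← hc, h, zero_smul]; rfl))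
  refine ⟨⟨c⁻¹ • (1 : R), show c⁻¹ • (1 : R) ∈ 𝒜 0 from Submodule.smul_mem _ _ SetLike.GradedOne.one_mem⟩,
    Subtype.ext ?_⟩
  change (a : R) * c⁻¹ • (1 : R) = 1
  rw [← hc, smul_mul_smul_comm, mul_one, mul_inv_cancel₀ hc0, one_smul]

include hpos h0 hm in
theorem isStarLocal_irrel : IsStarLocal 𝒜 m := by
  have hmax : m.toIdeal.IsMaximal := isMaximal hpos h0 hm
  have hco : IsCoatom m := ⟨fun h => hmax.ne_top (by rw [h, HomogeneousIdeal.toIdeal_top]), fun J hJ => by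
    have : m.toIdeal < J.toIdeal := hJ
    exact HomogeneousIdeal.toIdeal_injective ((hmax.1.2 _ this).trans HomogeneousIdeal.toIdeal_top.symm)⟩
  refine ⟨hco, fun J hJ => ?_⟩
  have hle : J ≤ m := le_of_ne_top hpos h0 hm fun h => hJ.1
    (HomogeneousIdeal.toIdeal_injective (h.trans HomogeneousIdeal.toIdeal_top.symm))
  exact (hle.eq_or_lt).resolve_right fun h => hco.1 (hJ.2 m h)

omit [Algebra.FiniteType k R] [Nontrivial R] in
include hpos in
theorem pos' : ∀ n : ℤ, n < 0 → ∀ r ∈ 𝒜 n, r = 0 :=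
  fun n hn r hr => by rwa [hpos n hn, Submodule.mem_bot] at hr

omit [Algebra.FiniteType k R] [Nontrivial R] in
include hm in
theorem irr' : ∀ n : ℤ, 0 < n → ∀ r ∈ 𝒜 n, r ∈ m.toIdeal :=
  fun n hn _ hr => hm.ge (Ideal.subset_span (Set.mem_iUnion₂.2 ⟨n, hn, hr⟩))

variable {n : ℕ} (I : StarInjRes 𝒜 𝒜) {C : GMod.{u} 𝒜}
  {β : (EH I m n).carrier →ₗ[k] C.carrier →ₗ[k] k} (hβ : GrSeg.IsGDual R C.gr (EH I m n).gr β)

include hβ in
omit [Algebra.FiniteType k R] [Nontrivial R] in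
/-- A piece of the top cohomology vanishes exactly when the opposite piece of the dual does. -/
theorem Hgr_eq_bot_iff (j : ℤ) : I.Hgr m n j = ⊥ ↔ C.gr (-j) = ⊥ := by
  rw [AddSubgroup.eq_bot_iff_forall, AddSubgroup.eq_bot_iff_forall]
  refine ⟨fun h x hx => ?_, fun h z hz => hβ.eq_zero j z ((GrothLib.GrLC.EH_gr_iff I m n j z).1 hz) fun x hx => by
    rw [h x hx, map_zero]⟩
  by_contra hx0
  obtain ⟨g, hg⟩ := Module.Projective.exists_dual_ne_zero k hx0
  obtain ⟨z, hz, hz'⟩ := hβ.exists_eq j g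
  have h' : ∀ y : (EH I m n).carrier, y ∈ (EH I m n).gr j → y = 0 := fun y hy =>
    h y ((GrothLib.GrLC.EH_gr_iff I m n j y).2 hy)
  exact hg ((hz' x hx).symm.trans (LinearMap.congr_fun ((congrArg β (h' z hz)).trans (map_zero β)) x))

include hpos hβ in
omit [Algebra.FiniteType k R] in
/-- The a-invariant is minus the degree of a generator of the canonical module. -/
theorem endDeg_of_shift {c : ℤ} {f : R →ₗ[R] C.carrier} (hf : Function.Bijective f)
    (hfd : _root_.GrLC.IsGrHomDeg 𝒜 C.gr f c) :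
    endDeg (I.Hgr m n) = (((-c : ℤ) : WithTop ℤ) : WithBot (WithTop ℤ)) := by
  refine le_antisymm ((GrothLib.GrLC.endDeg_le_iff _ _).2 fun j hj => (Hgr_eq_bot_iff I hβ j).2
    ((AddSubgroup.eq_bot_iff_forall _).2 fun x hx => ?_)) (GrothLib.GrLC.le_endDeg _ fun h => ?_)
  · obtain ⟨r, rfl⟩ := hf.2 x
    obtain ⟨s, hs⟩ := exists_sum_cmp 𝒜 r
    rw [← cmp_of_mem C.gr hx, hs, map_sum, map_sum]
    refine Finset.sum_eq_zero fun i _ => ?_
    by_cases hi : i + c = -j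
    · have : cmp 𝒜 i r = 0 := pos' hpos i (by omega) _ (cmp_mem 𝒜 i r)
      rw [this, map_zero, map_zero]
    · exact GrothLib.GrLC.cmp_of_mem_ne C.gr (hfd i _ (cmp_mem 𝒜 i r)) hi
  · rw [Hgr_eq_bot_iff I hβ, neg_neg, AddSubgroup.eq_bot_iff_forall] at h
    have h1 := hfd 0 (1 : R) SetLike.GradedOne.one_mem
    rw [zero_add] at h1
    exact one_ne_zero (hf.1 ((h _ h1).trans (map_zero f).symm))

end Ring

section Transport

variable {k : Type u} [Field k] {T : Type u} [CommRing T] [Algebra k T] {𝒯 : ℤ → Submodule k T} [GradedAlgebra 𝒯]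
  {M : Type u} [AddCommGroup M] [Module T M] [Module k M] [IsScalarTower k T M] {ℳ : ℤ → AddSubgroup M}
  [Decomposition ℳ] {Y : GMod.{u} 𝒯} [Module k Y.carrier] [IsScalarTower k T Y.carrier]


theorem isGDual_transport {X : GMod.{u} 𝒯} {β : Y.carrier →ₗ[k] M →ₗ[k] k}
    (hβ : GrSeg.IsGDual T ℳ Y.gr β) (e : X.carrier ≃ₗ[T] Y.carrier)
    (he : GrothLib.GrLC.IsHom (X := X) (Y := Y) e.toLinearMap) :
    ∃ β' : X.carrier →ₗ[k] M →ₗ[k] k, GrSeg.IsGDual T ℳ X.gr β' := by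
  letI : Module k X.carrier := kMod X
  haveI : IsScalarTower k T X.carrier := kMod_tower X
  exact ⟨_, GrothLib.GrDual.isGDual_of_iso hβ e he (GrothLib.GrLC.IsHom.symm he)⟩

end Transport

section Product

variable {k : Type u} [Field k] {R : Type u} [CommRing R] [Algebra k R] {S : Type u} [CommRing S] [Algebra k S]
  {T : Type u} [CommRing T] [Algebra k T] {𝒜 : ℤ → Submodule k R} [GradedAlgebra 𝒜] {ℬ : ℤ → Submodule k S}
  [GradedAlgebra ℬ] {𝒯 : ℤ → Submodule k T} [GradedAlgebra 𝒯] {ψ : T →ₐ[k] R ⊗[k] S}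
  [Algebra.FiniteType k R] [Algebra.FiniteType k S]
  (hT : GrSeg.IsSegreRing 𝒜 ℬ 𝒯 ψ)
  (hposR : ∀ n : ℤ, n < 0 → 𝒜 n = ⊥) (h0R : 𝒜 0 = Submodule.span k {(1 : R)})
  (hposS : ∀ n : ℤ, n < 0 → ℬ n = ⊥) (h0S : ℬ 0 = Submodule.span k {(1 : S)})
  {mR : HomogeneousIdeal 𝒜} (hmR : mR.toIdeal = Ideal.span (⋃ n ∈ Set.Ioi (0 : ℤ), (𝒜 n : Set R)))
  {mS : HomogeneousIdeal ℬ} (hmS : mS.toIdeal = Ideal.span (⋃ n ∈ Set.Ioi (0 : ℤ), (ℬ n : Set S)))
  {mT : HomogeneousIdeal 𝒯} (hmT : mT.toIdeal = Ideal.span (⋃ n ∈ Set.Ioi (0 : ℤ), (𝒯 n : Set T)))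
  (I : StarInjRes 𝒜 𝒜) (J : StarInjRes ℬ ℬ) (K : StarInjRes 𝒯 𝒯) {ρ σ : ℕ}
  {CR : GMod.{u} 𝒜} [Module.Finite R CR.carrier] {CS : GMod.{u} ℬ} [Module.Finite S CS.carrier]
  {βR : (EH I mR (ρ + 2)).carrier →ₗ[k] CR.carrier →ₗ[k] k} (hβR : GrSeg.IsGDual R CR.gr (EH I mR (ρ + 2)).gr βR)
  {βS : (EH J mS (σ + 2)).carrier →ₗ[k] CS.carrier →ₗ[k] k} (hβS : GrSeg.IsGDual S CS.gr (EH J mS (σ + 2)).gr βS)
  {CT : GMod.{u} 𝒯} [Module.Finite T CT.carrier]
  {βT : (EH K mT (ρ + σ + 2 + 1)).carrier →ₗ[k] CT.carrier →ₗ[k] k}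
  (hβT : GrSeg.IsGDual T CT.gr (EH K mT (ρ + σ + 2 + 1)).gr βT)

include hposR h0R hposS h0S hmR hmS hmT hβR hβS hβT in
/-- The canonical module of a Segre product is the Segre product of the canonical modules. -/
theorem iso_canonical_segre (hr : ringKrullDim R ≤ (ρ + 2 : ℕ)) (hs : ringKrullDim S ≤ (σ + 2 : ℕ)) :
    GrothLib.GrLC.Iso CT (segMod CR CS hT) := by
  have hfR := GrothLib.GrDual.finiteDimensional_piece hposR h0R CR.gr
  have hfS := GrothLib.GrDual.finiteDimensional_piece hposS h0S CS.gr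
  have hposT : ∀ n : ℤ, n < 0 → 𝒯 n = ⊥ := fun n hn => segre_neg hT hposR hn
  have h0T := segre_zero hT h0R h0S
  have : Algebra.FiniteType k T := segre_finiteType hT hposR h0R hposS h0S
  obtain ⟨e, he⟩ := iso_EH_top hT (isSegreMod_self hT) hposR h0R hposS h0S hmR hmS hmT (resAgr I) (resAgr J)
    (resAgr K) (ρ := ρ) (σ := σ) hr hs
  obtain ⟨β, hβ⟩ := exists_isGDual_segMod hT (X := EH I mR (ρ + 2)) (Y := EH J mS (σ + 2)) hβR hβS
    (isSegreMod_segMod (X := CR) (Y := CS) hT) hfR hfS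
  obtain ⟨β', hβ'⟩ := isGDual_transport (X := EH K mT (ρ + σ + 2 + 1)) hβ e he
  have hfT := GrothLib.GrDual.finiteDimensional_piece hposT h0T CT.gr
  have hfP : ∀ n, FiniteDimensional k (pieceK 𝒯 (segMod CR CS hT).gr n) := fun n => by
    have := hfR n
    have := hfS n
    let f : pieceK 𝒜 CR.gr n ⊗[k] pieceK ℬ CS.gr n →ₗ[k] pieceK 𝒯 (segMod CR CS hT).gr n :=
      { toFun := fun w => ⟨smk hT _ (piece_le_segSub n ((piece_eq_range CR CS n).ge ⟨w, rfl⟩)),
          (piece_eq_range CR CS n).ge ⟨w, rfl⟩⟩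
        map_add' := fun a b => Subtype.ext (sval_injective hT (by
          rw [sval_smk, Submodule.coe_add, map_add (sval hT), sval_smk, sval_smk, map_add]))
        map_smul' := fun c a => Subtype.ext (sval_injective hT (by
          change TensorProduct.mapIncl _ _ (c • a) = sval hT (c • smk hT (TensorProduct.mapIncl _ _ a) _)
          rw [map_smul, map_smul]
          rfl)) }
    exact Module.Finite.of_surjective f fun z => by
      obtain ⟨w, hw⟩ := (piece_eq_range CR CS n).le z.2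
      exact ⟨w, Subtype.ext (sval_injective hT hw)⟩
  exact GrothLib.GrDual.exists_equiv_of_isGDual (GrothLib.GrDual.isGDual_flip (𝒜 := 𝒯) hβT hfT)
    (GrothLib.GrDual.isGDual_flip (𝒜 := 𝒯) hβ' hfP)

end Product

end

end GrothLib.Segre
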