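import Groth.Agent.Lib.Segre.Kunneth

/-!
# A graded algebra as a Segre module over itself
-/

universe u

open DirectSum
open scoped TensorProduct

namespace GrothLib.Segre

open GrothLib.GrLC
open _root_.GrLC (GMod IsGrHom StarInjRes deg0 comp)

noncomputable section

section Agr

variable {ι : Type} [DecidableEq ι] [AddCommGroup ι] {R : Type u} [CommRing R] {σ : Type u} [SetLike σ R]
  [AddSubgroupClass σ R] {𝒜 : ι → σ} [GradedRing 𝒜] {M : Type u} [AddCommGroup M] [Module R M] {τ : Type u}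
  [SetLike τ M] [AddSubgroupClass τ M] (ℳ : ι → τ)

/-- pieces as additive subgroups -/
def agr (g : ι) : AddSubgroup M := AddSubgroup.ofClass (ℳ g)

theorem mem_agr {g : ι} {x : M} : x ∈ agr ℳ g ↔ x ∈ ℳ g := Iff.rfl

variable [Decomposition ℳ]

instance agrDec : Decomposition (agr ℳ) :=
  (isInternal_of_proj (agr ℳ) (cmp ℳ) (fun _ _ hx => cmp_of_mem ℳ hx) (fun _ _ hne _ hx => cmp_of_mem_ne ℳ hx hne)
    (cmp_mem ℳ) (exists_sum_cmp ℳ)).chooseDecomposition

variable [SetLike.GradedSMul 𝒜 ℳ]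

instance agrSMul : SetLike.GradedSMul 𝒜 (agr ℳ) :=
  ⟨fun {i j a b} ha hb => smul_mem' (𝒜 := 𝒜) ℳ ha hb⟩

variable {ℳ}

/-- a resolution for the same pieces as additive subgroups -/
def resAgr (E : StarInjRes 𝒜 ℳ) : StarInjRes 𝒜 (agr ℳ) where
  X := E.X
  d := E.d
  ε := E.ε
  d_grHom := E.d_grHom
  ε_grHom := fun g x hx => E.ε_grHom g x hx
  ε_injective := E.ε_injective
  exact_zero := E.exact_zero
  exact_succ := E.exact_succ
  starInj := E.starInj

end Agr

variable {k : Type u} [Field k] {R : Type u} [CommRing R] [Algebra k R] {S : Type u} [CommRing S] [Algebra k S]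
  {T : Type u} [CommRing T] [Algebra k T] {𝒜 : ℤ → Submodule k R} [GradedAlgebra 𝒜] {ℬ : ℤ → Submodule k S}
  [GradedAlgebra ℬ] {𝒯 : ℤ → Submodule k T} [GradedAlgebra 𝒯] {ψ : T →ₐ[k] R ⊗[k] S}

theorem act_eq_mul (z w : R ⊗[k] S) : GrSeg.act k R S R S z w = z * w := by
  induction z using TensorProduct.induction_on with
  | zero => simp
  | add a b ha hb => rw [map_add, LinearMap.add_apply, add_mul, ha, hb]
  | tmul a b =>
    induction w using TensorProduct.induction_on with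
    | zero => simp
    | add c e hc he => rw [map_add, mul_add, hc, he]
    | tmul c e => rw [GrSeg.act_tmul, Algebra.TensorProduct.tmul_mul_tmul]; rfl

theorem isSegreMod_self (hT : GrSeg.IsSegreRing 𝒜 ℬ 𝒯 ψ) :
    GrSeg.IsSegreMod ψ (agr 𝒜) (agr ℬ) (agr 𝒯) ψ.toLinearMap where
  injective := hT.1
  image_piece n := by
    refine Eq.trans ?_ (congrArg SetLike.coe (hT.2 n))
    rw [Submodule.map_coe]
    rfl
  map_smul t p := by
    change ψ (t * p) = GrSeg.act k R S R S (ψ t) (ψ p)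
    rw [act_eq_mul, map_mul]

theorem finrank_piece [Nontrivial R] (h0 : 𝒜 0 = Submodule.span k {(1 : R)}) (d : ℤ) :
    Module.finrank (deg0 𝒜) (comp 𝒜 (agr 𝒜) d) = Module.finrank k (𝒜 d) :=
  finrank_eq_of_semilinear 𝒜 h0 (AddMonoidHom.mk' (fun x : 𝒜 d => (⟨x.1, x.2⟩ : comp 𝒜 (agr 𝒜) d)) fun _ _ => rfl)
    ⟨fun a b h => Subtype.ext (congrArg Subtype.val h), fun x => ⟨⟨x.1, x.2⟩, rfl⟩⟩
    fun c x => Subtype.ext (Algebra.smul_def c x.1)

end

end GrothLib.Segre
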