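import Groth.Agent.Lib.Segre.ModTools
import Groth.Agent.Lib.GrLC.Tools
import Groth.Agent.Lib.GrLC.Acyc

/-!
# Segre products as functors of graded modules; acyclic terms
-/

universe u

open DirectSum
open scoped TensorProduct

namespace GrothLib.Segre

noncomputable section

open GrothLib.GrLC
open _root_.GrLC (GMod IsGrHom)
open GrothLib.GrDual (projK)

section KMod

variable {k R : Type u} [CommRing k] [CommRing R] [Algebra k R] {𝒜 : ℤ → Submodule k R} [GradedAlgebra 𝒜]

/-- restriction of scalars to the base -/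
noncomputable scoped instance (priority := 500) kMod (X : GMod.{u} 𝒜) : Module k X.carrier :=
  Module.compHom X.carrier (algebraMap k R)

scoped instance (priority := 500) kMod_tower (X : GMod.{u} 𝒜) : IsScalarTower k R X.carrier :=
  IsScalarTower.of_algebraMap_smul fun _ _ => rfl

end KMod

variable {k : Type u} [Field k] {R : Type u} [CommRing R] [Algebra k R] {S : Type u} [CommRing S] [Algebra k S]
  {T : Type u} [CommRing T] [Algebra k T] {𝒜 : ℤ → Submodule k R} [GradedAlgebra 𝒜] {ℬ : ℤ → Submodule k S}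
  [GradedAlgebra ℬ] {𝒯 : ℤ → Submodule k T} [GradedAlgebra 𝒯] {ψ : T →ₐ[k] R ⊗[k] S}

/-- tensor of two linear maps, linear over the field -/
noncomputable abbrev tmap {X X' : GMod.{u} 𝒜} {Y Y' : GMod.{u} ℬ} (f : X.carrier →ₗ[R] X'.carrier)
    (g : Y.carrier →ₗ[S] Y'.carrier) : X.carrier ⊗[k] Y.carrier →ₗ[k] X'.carrier ⊗[k] Y'.carrier :=
  TensorProduct.map (f.restrictScalars k) (g.restrictScalars k)

variable (X : GMod.{u} 𝒜) (Y : GMod.{u} ℬ)

/-- the diagonal part -/
def segSub : Submodule k (X.carrier ⊗[k] Y.carrier) := ⨆ n, GrSeg.segrePiece k X.gr Y.gr n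

variable {X Y}

theorem piece_le_segSub (n : ℤ) : GrSeg.segrePiece k X.gr Y.gr n ≤ segSub X Y :=
  le_iSup (fun n => GrSeg.segrePiece k X.gr Y.gr n) n

theorem act_mem_segSub (hT : GrSeg.IsSegreRing 𝒜 ℬ 𝒯 ψ) (t : T) {v : X.carrier ⊗[k] Y.carrier}
    (hv : v ∈ segSub X Y) : GrSeg.act k R S X.carrier Y.carrier (ψ t) v ∈ segSub X Y := by
  induction t using gr_induction 𝒯 with
  | h0 => simp
  | hh i t ht =>
    induction hv using Submodule.iSup_induction' with
    | mem n v hv => exact piece_le_segSub _ (act_piece (𝒜 := 𝒜) (ℬ := ℬ) X.gr Y.gr (psi_mem hT ht) hv)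
    | zero => simp
    | add a b _ _ ha hb => rw [map_add]; exact add_mem ha hb
  | hadd a b ha hb => simp only [map_add, LinearMap.add_apply]; exact add_mem ha hb

theorem sum_projPiece {v : X.carrier ⊗[k] Y.carrier} (hv : v ∈ segSub X Y) :
    ∃ F : Finset ℤ, v = ∑ n ∈ F, projPiece 𝒜 ℬ X.gr Y.gr n v := by
  classical
  induction hv using Submodule.iSup_induction' with
  | mem n v hv => exact ⟨{n}, by rw [Finset.sum_singleton, projPiece_of_mem X.gr Y.gr hv, if_pos rfl]⟩
  | zero => exact ⟨∅, rfl⟩
  | add a b _ _ ha hb =>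
    obtain ⟨F, hF⟩ := ha
    obtain ⟨G, hG⟩ := hb
    have key : ∀ {w : X.carrier ⊗[k] Y.carrier} {H : Finset ℤ}, w = ∑ n ∈ H, projPiece 𝒜 ℬ X.gr Y.gr n w →
        ∀ n ∉ H, projPiece 𝒜 ℬ X.gr Y.gr n w = 0 := by
      intro w H hw n hn
      rw [hw, map_sum]
      refine Finset.sum_eq_zero fun m hm => ?_
      rw [projPiece_of_mem X.gr Y.gr (projPiece_mem X.gr Y.gr m w), if_neg fun (e : m = n) => hn (e ▸ hm)]
    refine ⟨F ∪ G, ?_⟩
    simp only [map_add, Finset.sum_add_distrib]
    conv_lhs => rw [hF, hG]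
    congr 1
    · exact Finset.sum_subset Finset.subset_union_left fun n _ hn => key hF n hn
    · exact Finset.sum_subset Finset.subset_union_right fun n _ hn => key hG n hn

theorem projPiece_mem_segSub (n : ℤ) (v : X.carrier ⊗[k] Y.carrier) :
    projPiece 𝒜 ℬ X.gr Y.gr n v ∈ segSub X Y :=
  piece_le_segSub n (projPiece_mem X.gr Y.gr n v)

variable (hT : GrSeg.IsSegreRing 𝒜 ℬ 𝒯 ψ) (X Y)

/-- the carrier of the Segre product -/
@[nolint unusedArguments]
def Seg (_hT : GrSeg.IsSegreRing 𝒜 ℬ 𝒯 ψ) : Type u := segSub X Y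

noncomputable instance : AddCommGroup (Seg X Y hT) := inferInstanceAs (AddCommGroup (segSub X Y))

noncomputable instance : Module k (Seg X Y hT) := inferInstanceAs (Module k (segSub X Y))

variable {X Y}

/-- the inclusion into the tensor product -/
def sval : Seg X Y hT →ₗ[k] X.carrier ⊗[k] Y.carrier := (segSub X Y).subtype

theorem sval_injective : Function.Injective (sval (X := X) (Y := Y) hT) := Subtype.val_injective

theorem sval_mem (z : Seg X Y hT) : sval hT z ∈ segSub X Y := z.2

/-- an element of the Segre product -/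
def smk (v : X.carrier ⊗[k] Y.carrier) (hv : v ∈ segSub X Y) : Seg X Y hT := ⟨v, hv⟩

theorem sval_smk (v : X.carrier ⊗[k] Y.carrier) (hv : v ∈ segSub X Y) : sval hT (smk hT v hv) = v := rfl

noncomputable instance : SMul T (Seg X Y hT) :=
  ⟨fun t z => smk hT (GrSeg.act k R S X.carrier Y.carrier (ψ t) (sval hT z)) (act_mem_segSub hT t z.2)⟩

theorem sval_smul (t : T) (z : Seg X Y hT) :
    sval hT (t • z) = GrSeg.act k R S X.carrier Y.carrier (ψ t) (sval hT z) := rfl

theorem act_one_apply {M N : Type u} [AddCommGroup M] [Module R M] [Module k M] [IsScalarTower k R M]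
    [AddCommGroup N] [Module S N] [Module k N] [IsScalarTower k S N] (x : M ⊗[k] N) :
    GrSeg.act k R S M N 1 x = x := by
  induction x using TensorProduct.induction_on with
  | zero => simp
  | tmul a b => rw [Algebra.TensorProduct.one_def, GrSeg.act_tmul, one_smul, one_smul]
  | add u v hu hv => rw [map_add, hu, hv]

noncomputable instance : Module T (Seg X Y hT) where
  one_smul z := sval_injective hT (by rw [sval_smul, map_one, act_one_apply])
  mul_smul t t' z := sval_injective hT (by rw [sval_smul, sval_smul, sval_smul, map_mul, act_mul])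
  smul_zero t := sval_injective hT (by rw [sval_smul, map_zero, map_zero])
  smul_add t z w := sval_injective hT (by rw [sval_smul, map_add, map_add, map_add, sval_smul, sval_smul])
  add_smul t t' z := sval_injective hT (by
    rw [sval_smul, map_add, map_add, LinearMap.add_apply, map_add, sval_smul, sval_smul])
  zero_smul z := sval_injective hT (by rw [sval_smul, map_zero, map_zero, LinearMap.zero_apply, map_zero])

instance : IsScalarTower k T (Seg X Y hT) :=
  IsScalarTower.of_algebraMap_smul fun c z => sval_injective hT (by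
    rw [sval_smul, Algebra.algebraMap_eq_smul_one, map_smul, map_one, map_smul, LinearMap.smul_apply, act_one_apply,
      map_smul])

variable (X Y) in
theorem isInternal_seg : IsInternal (fun n => (GrSeg.segrePiece k X.gr Y.gr n).toAddSubgroup.comap
    (sval (X := X) (Y := Y) hT).toAddMonoidHom) :=
  isInternal_of_proj _
    (fun n => AddMonoidHom.mk'
      (fun z => smk hT (projPiece 𝒜 ℬ X.gr Y.gr n (sval hT z)) (projPiece_mem_segSub n _))
      fun a b => sval_injective hT (by simp [sval_smk]))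
    (fun n z hz => sval_injective hT (by
      change projPiece 𝒜 ℬ X.gr Y.gr n (sval hT z) = _
      exact (projPiece_of_mem X.gr Y.gr (show sval hT z ∈ _ from hz)).trans (if_pos rfl)))
    (fun n m hne z hz => sval_injective hT (by
      change projPiece 𝒜 ℬ X.gr Y.gr n (sval hT z) = _
      exact ((projPiece_of_mem X.gr Y.gr (show sval hT z ∈ _ from hz)).trans (if_neg hne)).trans (map_zero _).symm))
    (fun n z => projPiece_mem X.gr Y.gr n (sval hT z))
    (fun z => by
      obtain ⟨F, hF⟩ := sum_projPiece (sval_mem hT z)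
      refine ⟨F, sval_injective hT ?_⟩
      rw [map_sum]
      exact hF)

variable (X Y) in
/-- the Segre product of graded modules -/
abbrev segMod : GMod.{u} 𝒯 where
  carrier := Seg X Y hT
  gr n := (GrSeg.segrePiece k X.gr Y.gr n).toAddSubgroup.comap (sval hT).toAddMonoidHom
  dec := (isInternal_seg X Y hT).chooseDecomposition
  gsmul := ⟨fun {i g t z} ht hz => by
    change sval hT (t • z) ∈ GrSeg.segrePiece k X.gr Y.gr (i + g)
    rw [sval_smul]
    exact act_piece (𝒜 := 𝒜) (ℬ := ℬ) X.gr Y.gr (psi_mem hT ht) hz⟩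

instance segDec : DirectSum.Decomposition (segMod X Y hT).gr := (segMod X Y hT).dec

theorem mem_segMod_gr {n : ℤ} {z : Seg X Y hT} :
    z ∈ (segMod X Y hT).gr n ↔ sval hT z ∈ GrSeg.segrePiece k X.gr Y.gr n := Iff.rfl

theorem isSegreMod_segMod : GrSeg.IsSegreMod ψ X.gr Y.gr (segMod X Y hT).gr (sval hT) where
  injective := sval_injective hT
  image_piece n := by
    refine Set.Subset.antisymm (by rintro _ ⟨z, hz, rfl⟩; exact hz) fun v hv => ?_
    exact ⟨smk hT v (piece_le_segSub n hv), hv, rfl⟩
  map_smul t z := sval_smul hT t z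

section Map

variable {X' : GMod.{u} 𝒜} {Y' : GMod.{u} ℬ}

theorem tmap_piece {f : X.carrier →ₗ[R] X'.carrier} (hf : IsHom f) {g : Y.carrier →ₗ[S] Y'.carrier} (hg : IsHom g)
    {n : ℤ} {v : X.carrier ⊗[k] Y.carrier} (hv : v ∈ GrSeg.segrePiece k X.gr Y.gr n) :
    tmap f g v ∈ GrSeg.segrePiece k X'.gr Y'.gr n := by
  induction hv using Submodule.span_induction with
  | mem v hv =>
    obtain ⟨a, ha, b, hb, rfl⟩ := hv
    exact Submodule.subset_span ⟨f a, hf n a ha, g b, hg n b hb, rfl⟩
  | zero => simp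
  | add a b _ _ ha hb => rw [map_add]; exact add_mem ha hb
  | smul c a _ ha => rw [map_smul]; exact Submodule.smul_mem _ c ha

theorem tmap_mem {f : X.carrier →ₗ[R] X'.carrier} (hf : IsHom f) {g : Y.carrier →ₗ[S] Y'.carrier} (hg : IsHom g)
    {v : X.carrier ⊗[k] Y.carrier} (hv : v ∈ segSub X Y) : tmap f g v ∈ segSub X' Y' := by
  induction hv using Submodule.iSup_induction' with
  | mem n v hv => exact piece_le_segSub n (tmap_piece hf hg hv)
  | zero => simp
  | add a b _ _ ha hb => rw [map_add]; exact add_mem ha hb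

theorem tmap_act (f : X.carrier →ₗ[R] X'.carrier) (g : Y.carrier →ₗ[S] Y'.carrier) (z : R ⊗[k] S)
    (v : X.carrier ⊗[k] Y.carrier) :
    tmap f g (GrSeg.act k R S X.carrier Y.carrier z v) = GrSeg.act k R S X'.carrier Y'.carrier z (tmap f g v) := by
  induction z using TensorProduct.induction_on with
  | zero => simp
  | add a b ha hb => simp only [map_add, LinearMap.add_apply, ha, hb]
  | tmul a b =>
    induction v using TensorProduct.induction_on with
    | zero => simp
    | add p q hp hq => simp only [map_add, hp, hq]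
    | tmul p q => simp [GrSeg.act_tmul]

theorem tmap_projPiece {f : X.carrier →ₗ[R] X'.carrier} (hf : IsHom f) {g : Y.carrier →ₗ[S] Y'.carrier}
    (hg : IsHom g) (n : ℤ) (v : X.carrier ⊗[k] Y.carrier) :
    tmap f g (projPiece 𝒜 ℬ X.gr Y.gr n v) = projPiece 𝒜 ℬ X'.gr Y'.gr n (tmap f g v) := by
  induction v using TensorProduct.induction_on with
  | zero => simp
  | add p q hp hq => simp only [map_add, hp, hq]
  | tmul p q => simp [projPiece_tmul, hf.cmp, hg.cmp]

/-- functoriality -/
noncomputable def segMap (f : X.carrier →ₗ[R] X'.carrier) (hf : IsHom f) (g : Y.carrier →ₗ[S] Y'.carrier)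
    (hg : IsHom g) : (segMod X Y hT).carrier →ₗ[T] (segMod X' Y' hT).carrier where
  toFun z := smk hT (tmap f g (sval hT z)) (tmap_mem hf hg (sval_mem hT z))
  map_add' a b := sval_injective hT (by simp [sval_smk])
  map_smul' t z := sval_injective hT (by
    rw [sval_smk, sval_smul, tmap_act, RingHom.id_apply, sval_smul, sval_smk])

theorem sval_segMap (f : X.carrier →ₗ[R] X'.carrier) (hf : IsHom f) (g : Y.carrier →ₗ[S] Y'.carrier)
    (hg : IsHom g) (z : Seg X Y hT) : sval hT (segMap hT f hf g hg z) = tmap f g (sval hT z) := rfl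

theorem isHom_segMap {f : X.carrier →ₗ[R] X'.carrier} (hf : IsHom f) {g : Y.carrier →ₗ[S] Y'.carrier}
    (hg : IsHom g) : IsHom (X := segMod X Y hT) (Y := segMod X' Y' hT) (segMap hT f hf g hg) :=
  fun _ _ hz => tmap_piece hf hg hz

theorem segMap_injective {f : X.carrier →ₗ[R] X'.carrier} (hf : IsHom f) {g : Y.carrier →ₗ[S] Y'.carrier}
    (hg : IsHom g) (hfi : Function.Injective f) (hgi : Function.Injective g) :
    Function.Injective (segMap hT f hf g hg) := fun a b h => by
  refine sval_injective hT ?_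
  have h' := congrArg (sval hT) h
  rw [sval_segMap, sval_segMap] at h'
  have : Function.Injective (tmap (k := k) f g) := by
    change Function.Injective (TensorProduct.map _ _)
    exact TensorProduct.map_injective_of_flat_flat' (f.restrictScalars k) (g.restrictScalars k) hfi hgi
  exact this h'

theorem segMap_surjective {f : X.carrier →ₗ[R] X'.carrier} (hf : IsHom f) {g : Y.carrier →ₗ[S] Y'.carrier}
    (hg : IsHom g) (hfs : Function.Surjective f) (hgs : Function.Surjective g) :
    Function.Surjective (segMap hT f hf g hg) := fun z => by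
  obtain ⟨w, hw⟩ := TensorProduct.map_surjective (g := f.restrictScalars k) (g' := g.restrictScalars k) hfs hgs
    (sval hT z)
  obtain ⟨F, hF⟩ := sum_projPiece (sval_mem hT z)
  refine ⟨smk hT (∑ n ∈ F, projPiece 𝒜 ℬ X.gr Y.gr n w) (sum_mem fun n _ => projPiece_mem_segSub n w),
    sval_injective hT ?_⟩
  rw [sval_segMap, sval_smk, map_sum]
  conv_rhs => rw [hF]
  exact Finset.sum_congr rfl fun n _ => by rw [tmap_projPiece hf hg, ← hw]

/-- Exactness in the first variable. -/
theorem segMap_exact_left {X'' : GMod.{u} 𝒜} {f : X.carrier →ₗ[R] X'.carrier} (hf : IsHom f)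
    {f' : X'.carrier →ₗ[R] X''.carrier} (hf' : IsHom f') (h : Function.Exact f f') :
    Function.Exact (segMap hT f hf (LinearMap.id : Y.carrier →ₗ[S] Y.carrier) IsHom.id)
      (segMap hT f' hf' (LinearMap.id : Y.carrier →ₗ[S] Y.carrier) IsHom.id) := by
  intro z
  constructor
  · intro hz
    have hz' : tmap f' (LinearMap.id : Y.carrier →ₗ[S] Y.carrier) (sval hT z) = 0 :=
      (sval_segMap hT f' hf' _ IsHom.id z).symm.trans (by rw [hz, map_zero])
    have hex : Function.Exact ((f.restrictScalars k).rTensor Y.carrier) ((f'.restrictScalars k).rTensor Y.carrier) :=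
      Module.Flat.rTensor_exact _ h
    obtain ⟨w, hw⟩ := (hex _).1 hz'
    obtain ⟨F, hF⟩ := sum_projPiece (sval_mem hT z)
    refine ⟨smk hT (∑ n ∈ F, projPiece 𝒜 ℬ X.gr Y.gr n w) (sum_mem fun n _ => projPiece_mem_segSub n w),
      sval_injective hT ?_⟩
    rw [sval_segMap, sval_smk, map_sum]
    conv_rhs => rw [hF, ← hw]
    exact Finset.sum_congr rfl fun n _ => tmap_projPiece hf IsHom.id n w
  · rintro ⟨w, rfl⟩
    refine sval_injective hT ?_
    rw [sval_segMap, sval_segMap, map_zero]
    change TensorProduct.map _ _ (TensorProduct.map _ _ _) = 0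
    rw [TensorProduct.map_map, show f'.restrictScalars k ∘ₗ f.restrictScalars k = 0 from
      LinearMap.ext fun x => (h (f x)).2 ⟨x, rfl⟩, TensorProduct.map_zero_left, LinearMap.zero_apply]

theorem segMap_congr {f f' : X.carrier →ₗ[R] X'.carrier} (hf : IsHom f) (hf' : IsHom f')
    {g g' : Y.carrier →ₗ[S] Y'.carrier} (hg : IsHom g) (hg' : IsHom g') (h : f = f') (h' : g = g') :
    segMap hT f hf g hg = segMap hT f' hf' g' hg' := by subst h h'; rfl

theorem segMap_comp {X'' : GMod.{u} 𝒜} {Y'' : GMod.{u} ℬ} {f : X.carrier →ₗ[R] X'.carrier} (hf : IsHom f)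
    {g : Y.carrier →ₗ[S] Y'.carrier} (hg : IsHom g) {f' : X'.carrier →ₗ[R] X''.carrier} (hf' : IsHom f')
    {g' : Y'.carrier →ₗ[S] Y''.carrier} (hg' : IsHom g') :
    segMap hT f' hf' g' hg' ∘ₗ segMap hT f hf g hg = segMap hT (f' ∘ₗ f) (hf'.comp hf) (g' ∘ₗ g) (hg'.comp hg) :=
  LinearMap.ext fun _ => sval_injective hT (TensorProduct.map_map ..)

theorem segMap_id : segMap hT (LinearMap.id : X.carrier →ₗ[R] X.carrier) IsHom.id
    (LinearMap.id : Y.carrier →ₗ[S] Y.carrier) IsHom.id = LinearMap.id :=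
  LinearMap.ext fun z => sval_injective hT (by
    rw [sval_segMap]
    change TensorProduct.map LinearMap.id LinearMap.id _ = _
    rw [TensorProduct.map_id]
    rfl)

theorem segMap_sum_left {α : Type*} (s : Finset α) (f : α → (X.carrier →ₗ[R] X'.carrier)) (hf : ∀ a, IsHom (f a))
    {g : Y.carrier →ₗ[S] Y'.carrier} (hg : IsHom g) :
    segMap hT (∑ a ∈ s, f a) (IsHom.sum s fun a _ => hf a) g hg = ∑ a ∈ s, segMap hT (f a) (hf a) g hg := by
  classical
  refine LinearMap.ext fun z => sval_injective hT ?_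
  rw [sval_segMap, LinearMap.sum_apply, map_sum]
  simp only [sval_segMap]
  induction s using Finset.induction_on with
  | empty =>
    simp only [Finset.sum_empty]
    change TensorProduct.map _ _ _ = 0
    rw [LinearMap.restrictScalars_zero, TensorProduct.map_zero_left, LinearMap.zero_apply]
  | insert a s ha ih =>
    rw [Finset.sum_insert ha, Finset.sum_insert ha, ← ih]
    change TensorProduct.map _ _ _ = TensorProduct.map _ _ _ + TensorProduct.map _ _ _
    rw [LinearMap.restrictScalars_add, TensorProduct.map_add_left, LinearMap.add_apply]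

theorem segMap_sum_right {α : Type*} (s : Finset α) {f : X.carrier →ₗ[R] X'.carrier} (hf : IsHom f)
    (g : α → (Y.carrier →ₗ[S] Y'.carrier)) (hg : ∀ a, IsHom (g a)) :
    segMap hT f hf (∑ a ∈ s, g a) (IsHom.sum s fun a _ => hg a) = ∑ a ∈ s, segMap hT f hf (g a) (hg a) := by
  classical
  refine LinearMap.ext fun z => sval_injective hT ?_
  rw [sval_segMap, LinearMap.sum_apply, map_sum]
  simp only [sval_segMap]
  induction s using Finset.induction_on with
  | empty =>
    simp only [Finset.sum_empty]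
    change TensorProduct.map _ _ _ = 0
    rw [LinearMap.restrictScalars_zero, TensorProduct.map_zero_right, LinearMap.zero_apply]
  | insert a s ha ih =>
    rw [Finset.sum_insert ha, Finset.sum_insert ha, ← ih]
    change TensorProduct.map _ _ _ = TensorProduct.map _ _ _ + TensorProduct.map _ _ _
    rw [LinearMap.restrictScalars_add, TensorProduct.map_add_right, LinearMap.add_apply]

end Map

section LocTerm

variable {A : Type u} [CommRing A] [Algebra k A] {𝒞 : ℤ → Submodule k A} [GradedAlgebra 𝒞]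

/-- Modules built from modules with a bijective homogeneous element of positive degree. -/
inductive LocTerm : GMod.{u} 𝒞 → Prop
  | bij (X : GMod.{u} 𝒞) (e : ℤ) (he : 0 < e) (f : A) (hf : f ∈ 𝒞 e)
      (h : Function.Bijective fun x : X.carrier => f • x) : LocTerm X
  | factor (X : GMod.{u} 𝒞) {α : Type u} (s : Finset α) (P : α → GMod.{u} 𝒞)
      (i : ∀ a, X.carrier →ₗ[A] (P a).carrier) (hi : ∀ a, IsHom (i a))
      (p : ∀ a, (P a).carrier →ₗ[A] X.carrier) (hp : ∀ a, IsHom (p a))
      (hid : ∑ a ∈ s, p a ∘ₗ i a = LinearMap.id) (h : ∀ a, LocTerm (P a)) : LocTerm X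

theorem LocTerm.of_subsingleton (X : GMod.{u} 𝒞) [Subsingleton X.carrier] : LocTerm X :=
  LocTerm.factor X (∅ : Finset PEmpty.{u + 1}) (fun a => a.elim) (fun a => a.elim) (fun a => a.elim)
    (fun a => a.elim) (fun a => a.elim) (LinearMap.ext fun x => Subsingleton.elim _ _) fun a => a.elim

theorem LocTerm.prod {X Y : GMod.{u} 𝒞} (hX : LocTerm X) (hY : LocTerm Y) : LocTerm (GrLC.prod X Y) := by
  let P : ULift.{u} Bool → GMod.{u} 𝒞 := fun
    | ⟨true⟩ => X
    | ⟨false⟩ => Y
  refine LocTerm.factor _ (Finset.univ : Finset (ULift.{u} Bool)) P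
    (fun | ⟨true⟩ => LinearMap.fst A X.carrier Y.carrier | ⟨false⟩ => LinearMap.snd A X.carrier Y.carrier)
    (fun | ⟨true⟩ => fun _ _ h => h.1 | ⟨false⟩ => fun _ _ h => h.2)
    (fun | ⟨true⟩ => LinearMap.inl A X.carrier Y.carrier | ⟨false⟩ => LinearMap.inr A X.carrier Y.carrier)
    (fun | ⟨true⟩ => fun _ _ h => ⟨h, zero_mem _⟩ | ⟨false⟩ => fun _ _ h => ⟨zero_mem _, h⟩) ?_
    (fun | ⟨true⟩ => hX | ⟨false⟩ => hY)
  rw [show (Finset.univ : Finset (ULift.{u} Bool)) = {⟨true⟩, ⟨false⟩} by decide, Finset.sum_pair (by simp)]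
  exact LinearMap.ext fun x => Prod.ext (add_zero _) (zero_add _)

theorem LocTerm.pi {κ : Type u} [Fintype κ] (Z : κ → GMod.{u} 𝒞) (h : ∀ a, LocTerm (Z a)) :
    LocTerm (GrLC.pi Z) := by
  classical
  refine LocTerm.factor _ (Finset.univ : Finset κ) Z
    (fun a => (LinearMap.proj a : (∀ b, (Z b).carrier) →ₗ[A] (Z a).carrier))
    (fun a d v hv => hv a trivial)
    (fun a => (LinearMap.single A (fun b => (Z b).carrier) a : (Z a).carrier →ₗ[A] (∀ b, (Z b).carrier)))
    (fun a d v hv b _ => ?_) (LinearMap.ext fun (v : ∀ b, (Z b).carrier) => ?_) h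
  · change Pi.single (M := fun b => (Z b).carrier) a v b ∈ (Z b).gr d
    by_cases hb : b = a
    · subst hb; rw [Pi.single_eq_same]; exact hv
    · rw [Pi.single_eq_of_ne hb]; exact zero_mem _
  · refine (linearMap_sum_apply' (A := ∀ b, (Z b).carrier) (B := ∀ b, (Z b).carrier) _ _ v).trans ?_
    exact Finset.univ_sum_single v

theorem toLoc_bijective (x : HElt 𝒞) (M : Type u) [AddCommGroup M] [Module A M] :
    Function.Bijective fun q : LocalizedModule (Submonoid.powers x.val) M => x.val • q :=
  (Module.End.isUnit_iff _).1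
    (IsLocalizedModule.map_units (LocalizedModule.mkLinearMap (Submonoid.powers x.val) M) ⟨x.val, Submonoid.mem_powers _⟩)

/-- The higher terms of a Čech complex. -/
theorem locTerm_cech (Z : GMod.{u} 𝒞) : ∀ (l : List (HElt 𝒞)), (∀ y ∈ l, 0 < y.deg) → ∀ n : ℕ,
    LocTerm ((cech Z l).X (n + 1))
  | [], _, n => by
    have : Subsingleton ((cech Z ([] : List (HElt 𝒞))).X (n + 1)).carrier :=
      subsingleton_of_forall_eq 0 fun z => singleX_succ_eq_zero Z n z
    exact LocTerm.of_subsingleton _
  | x :: l, h, n => LocTerm.prod (locTerm_cech Z l (fun y hy => h y (List.mem_cons_of_mem _ hy)) n)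
      (LocTerm.bij _ x.deg (h x (List.mem_cons_self ..)) x.val x.mem (toLoc_bijective x _))

end LocTerm

variable [IsNoetherianRing T] {l : List (HElt 𝒯)} (hl : ∀ n : ℤ, 0 < n → ∀ t ∈ 𝒯 n, t ∈ (hspan l).toIdeal)

include hl

theorem van_segMod_of_bij {X : GMod.{u} 𝒜} {Y : GMod.{u} ℬ} {d e : ℤ} (hd : 0 < d) (he : 0 < e) {f : R}
    (hf : f ∈ 𝒜 d) (hfX : Function.Bijective fun x : X.carrier => f • x) {g : S} (hg : g ∈ ℬ e)
    (hgY : Function.Bijective fun y : Y.carrier => g • y) (i : ℕ) (n : ℤ) : Van l (segMod X Y hT) i n := by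
  obtain ⟨c, t, hc, ht, hb⟩ := exists_bijective X.gr Y.gr hT (isSegreMod_segMod hT) hd he hf hfX
    hg hgY
  have h := van_of_bijective (l := (⟨t, c, ht⟩ : HElt 𝒯) :: l) (X := segMod X Y hT) (List.mem_cons_self ..) hb i n
  exact (van_congr_list (hspan_cons_eq (x := (⟨t, c, ht⟩ : HElt 𝒯)) (hl c hc t ht)).symm _ i n).2 h

/-- Segre products of localisations have no local cohomology. -/
theorem van_segMod {X : GMod.{u} 𝒜} {Y : GMod.{u} ℬ} (hX : LocTerm X) (hY : LocTerm Y) (i : ℕ) (n : ℤ) :
    Van l (segMod X Y hT) i n := by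
  induction hX generalizing Y with
  | bij X d hd f hf hfX =>
    induction hY with
    | bij Y e he g hg hgY => exact van_segMod_of_bij hT hl hd he hf hfX hg hgY i n
    | factor Y s P ι hι π hπ hid _ ih =>
      refine van_of_sum_factor (X := segMod X Y hT) s (fun a => segMod X (P a) hT)
        (fun a => segMap hT LinearMap.id IsHom.id (ι a) (hι a)) (fun a => isHom_segMap hT _ (hι a))
        (fun a => segMap hT LinearMap.id IsHom.id (π a) (hπ a)) (fun a => isHom_segMap hT _ (hπ a)) ?_ fun a _ => ih a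
      rw [Finset.sum_congr rfl fun a _ => segMap_comp hT IsHom.id (hι a) IsHom.id (hπ a)]
      exact (segMap_sum_right hT s (IsHom.comp IsHom.id IsHom.id) (fun a => π a ∘ₗ ι a)
        fun a => (hπ a).comp (hι a)).symm.trans
          ((segMap_congr hT _ IsHom.id _ IsHom.id rfl hid).trans (segMap_id hT))
  | factor X s P ι hι π hπ hid _ ih =>
    refine van_of_sum_factor (X := segMod X Y hT) s (fun a => segMod (P a) Y hT)
      (fun a => segMap hT (ι a) (hι a) LinearMap.id IsHom.id) (fun a => isHom_segMap hT (hι a) _)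
      (fun a => segMap hT (π a) (hπ a) LinearMap.id IsHom.id) (fun a => isHom_segMap hT (hπ a) _) ?_ fun a _ => ih a hY
    rw [Finset.sum_congr rfl fun a _ => segMap_comp hT (hι a) IsHom.id (hπ a) IsHom.id]
    exact (segMap_sum_left hT s (fun a => π a ∘ₗ ι a) (fun a => (hπ a).comp (hι a))
      (IsHom.comp IsHom.id IsHom.id)).symm.trans
        ((segMap_congr hT _ IsHom.id _ IsHom.id hid rfl).trans (segMap_id hT))

end

end GrothLib.Segre
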