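import Groth.Agent.Lib.Segre.SegCM
import Groth.Agent.Lib.Segre.RingCase
import Groth.Agent.Lib.Depth.CM
import Groth.Agent.Lib.FiniteQuot.DepthDescent

/-!
# Cohen–Macaulay Segre products of rings
-/

universe u

open DirectSum
open scoped TensorProduct

namespace GrothLib.Segre

open GrothLib.GrLC
open _root_.GrLC (GMod StarInjRes)

theorem cmModule_self_iff {R : Type u} [CommRing R] [IsNoetherianRing R] (q : Ideal R) [q.IsPrime] :
    (Subsingleton (LocalizedModule q.primeCompl R) ∨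
      LocCoh.IsCohenMacaulayModule (Localization.AtPrime q) (LocalizedModule q.primeCompl R)) ↔
    LocCoh.IsCohenMacaulayLocalRing (Localization.AtPrime q) := by
  have : IsNoetherianRing (Localization.AtPrime q) :=
    IsLocalization.isNoetherianRing q.primeCompl _ inferInstance
  let e := LinearEquiv.extendScalarsOfIsLocalization q.primeCompl (Localization.AtPrime q)
    (IsLocalizedModule.iso q.primeCompl (Algebra.linearMap R (Localization.AtPrime q)))
  have h1 : ¬ Subsingleton (LocalizedModule q.primeCompl R) := fun h =>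
    not_subsingleton (Localization.AtPrime q) e.symm.toEquiv.subsingleton
  rw [or_iff_right h1, LocCoh.IsCohenMacaulayModule, Module.supportDim_eq_of_equiv e,
    GrothLib.Depth.depth_localization_self q]
  exact ⟨fun h => { supportDim_eq_depth := h }, fun h => h.supportDim_eq_depth⟩

theorem cmRing_iff_module {R : Type u} [CommRing R] [IsNoetherianRing R] : LocCoh.IsCohenMacaulayRing R ↔
    ∀ (q : Ideal R) [q.IsPrime], Subsingleton (LocalizedModule q.primeCompl R) ∨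
      LocCoh.IsCohenMacaulayModule (Localization.AtPrime q) (LocalizedModule q.primeCompl R) :=
  ⟨fun h q _ => (cmModule_self_iff q).2 (h.isCohenMacaulayLocalRing_localization q),
    fun h => { isCohenMacaulayLocalRing_localization := fun q _ => (cmModule_self_iff q).1 (h q) }⟩

theorem conc_ring {k R : Type u} [Field k] [CommRing R] [Algebra k R] {𝒜 : ℤ → Submodule k R} [GradedAlgebra 𝒜]
    [Algebra.FiniteType k R] (hpos : ∀ n : ℤ, n < 0 → 𝒜 n = ⊥) (h0 : 𝒜 0 = Submodule.span k {(1 : R)})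
    {m : HomogeneousIdeal 𝒜} (hm : m.toIdeal = Ideal.span (⋃ n ∈ Set.Ioi (0 : ℤ), (𝒜 n : Set R)))
    [LocCoh.IsCohenMacaulayRing R] (E : StarInjRes 𝒜 𝒜) {r : ℕ} (hd : ringKrullDim R = r) :
    Conc (resAgr E) m r :=
  conc_of_cm hpos h0 hm (resAgr E) ((Module.supportDim_self_eq_ringKrullDim (R := R)).trans hd) fun q _ =>
    cmRing_iff_module.1 inferInstance q

variable {k : Type u} [Field k] {R : Type u} [CommRing R] [Algebra k R] {S : Type u} [CommRing S] [Algebra k S]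
  {T : Type u} [CommRing T] [Algebra k T] {𝒜 : ℤ → Submodule k R} [GradedAlgebra 𝒜] {ℬ : ℤ → Submodule k S}
  [GradedAlgebra ℬ] {𝒯 : ℤ → Submodule k T} [GradedAlgebra 𝒯] {ψ : T →ₐ[k] R ⊗[k] S}
  (hT : GrSeg.IsSegreRing 𝒜 ℬ 𝒯 ψ)
  [Algebra.FiniteType k R] [Algebra.FiniteType k S]
  (hposR : ∀ n : ℤ, n < 0 → 𝒜 n = ⊥) (h0R : 𝒜 0 = Submodule.span k {(1 : R)})
  (hposS : ∀ n : ℤ, n < 0 → ℬ n = ⊥) (h0S : ℬ 0 = Submodule.span k {(1 : S)})
  {mR : HomogeneousIdeal 𝒜} (hmR : mR.toIdeal = Ideal.span (⋃ n ∈ Set.Ioi (0 : ℤ), (𝒜 n : Set R)))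
  {mS : HomogeneousIdeal ℬ} (hmS : mS.toIdeal = Ideal.span (⋃ n ∈ Set.Ioi (0 : ℤ), (ℬ n : Set S)))
  {mT : HomogeneousIdeal 𝒯} (hmT : mT.toIdeal = Ideal.span (⋃ n ∈ Set.Ioi (0 : ℤ), (𝒯 n : Set T)))
  {EM : StarInjRes 𝒜 (agr 𝒜)} {EN : StarInjRes ℬ (agr ℬ)} (EP : StarInjRes 𝒯 (agr 𝒯)) {r s : ℕ}
  [Nontrivial R] [Nontrivial S] (hcM : Conc EM mR r) (hcN : Conc EN mS s) (hr : 1 ≤ r) (hs : 1 ≤ s)

include hT hposR h0R hposS h0S hmR hmS hmT hcM hcN hr hs

theorem cmRing_segre_iff : LocCoh.IsCohenMacaulayRing T ↔ ∀ q, q < r + s - 1 → ∀ d, EP.Hcomp mT q d = ⊥ := by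
  have := segre_nontrivial hT
  have : IsNoetherianRing T := Groth.Agent.S18646.result k R 𝒜 hposR h0R S ℬ hposS h0S T 𝒯 ψ hT.1 hT.2
  exact cmRing_iff_module.trans
    (cm_segre_iff hT (isSegreMod_self hT) hposR h0R hposS h0S hmR hmS hmT EP hcM hcN hr hs)

end GrothLib.Segre
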