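import Mathlib.RingTheory.GradedAlgebra.Basic
import Mathlib.RingTheory.FiniteType
import Mathlib.RingTheory.TensorProduct.Finite
import Mathlib.LinearAlgebra.TensorProduct.Basic

/-! The diagonal part of a tensor product of graded algebras and finiteness of Segre products. -/

universe u

open scoped TensorProduct DirectSum

namespace GrothLib.Segre

/-- If `A → B` has a projection `π` of a `B`-module `M` onto an `A`-submodule `N`, compatible with a
retraction of scalars, and `M` is Noetherian, then so is `N`. -/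
theorem isNoetherian_of_retract {A B M N : Type*} [CommRing A] [CommRing B] [AddCommGroup M]
    [Module B M] [AddCommGroup N] [Module A N] (f : A →+* B) (i : N →+ M)
    (hi : ∀ (a : A) n, i (a • n) = f a • i n) (π : M →+ N) (hπ : ∀ n, π (i n) = n)
    (σ : B → A) (hσ : ∀ b n, π (b • i n) = σ b • n) [IsNoetherian B M] : IsNoetherian A N := by
  let F : Submodule A N → Submodule B M := fun L => Submodule.span B (i '' (L : Set N))
  have hF : ∀ L : Submodule A N, ∀ n, i n ∈ F L → n ∈ L := by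
    intro L n hn
    have : ∀ z ∈ F L, ∀ b : B, π (b • z) ∈ L := by
      intro z hz
      induction hz using Submodule.span_induction with
      | mem z hz =>
        obtain ⟨y, hy, rfl⟩ := hz
        exact fun b => (hσ b y).symm ▸ L.smul_mem _ hy
      | zero => exact fun b => by simp
      | add x y _ _ hx hy => exact fun b => by rw [smul_add, map_add]; exact add_mem (hx b) (hy b)
      | smul c x _ hx => exact fun b => by rw [smul_smul]; exact hx _
    simpa [hπ] using this _ hn 1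
  have hmono : StrictMono F := by
    intro L L' h
    refine lt_of_le_of_ne (Submodule.span_mono (Set.image_mono h.le)) fun e => ?_
    obtain ⟨n, hn, hn'⟩ := SetLike.exists_of_lt h
    exact hn' (hF L n (e ▸ Submodule.subset_span ⟨n, hn, rfl⟩))
  have : WellFoundedGT (Submodule B M) := inferInstance
  exact isNoetherian_iff.2 (Subrelation.wf (fun {x y} h => hmono h)
    (InvImage.wf F (wellFounded_gt (α := Submodule B M))))

section Diag

variable {k R S : Type u} [CommRing k] [CommRing R] [Algebra k R] (𝒜 : ℤ → Submodule k R)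
  [GradedAlgebra 𝒜] [CommRing S] [Algebra k S] (ℬ : ℤ → Submodule k S) [GradedAlgebra ℬ]

/-- The projection of `R ⊗ S` to its diagonal bidegrees. -/
noncomputable def diag : R ⊗[k] S →ₗ[k] R ⊗[k] S :=
  TensorProduct.lift <|
    (DirectSum.toModule k ℤ (S →ₗ[k] R ⊗[k] S) fun i =>
        (LinearMap.lcomp k (R ⊗[k] S) (GradedAlgebra.proj ℬ i)).comp
          ((TensorProduct.mk k R S).comp (𝒜 i).subtype)).comp
      (DirectSum.decomposeLinearEquiv 𝒜).toLinearMap

theorem diag_tmul {i j : ℤ} {a : R} {b : S} (ha : a ∈ 𝒜 i) (hb : b ∈ ℬ j) :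
    diag 𝒜 ℬ (a ⊗ₜ b) = if i = j then a ⊗ₜ b else 0 := by
  classical
  simp only [diag, TensorProduct.lift.tmul, LinearMap.comp_apply, LinearEquiv.coe_coe,
    DirectSum.decomposeLinearEquiv_apply]
  rw [DirectSum.decompose_of_mem 𝒜 ha]
  rw [show DirectSum.of (fun i => 𝒜 i) i ⟨a, ha⟩ = DirectSum.lof k ℤ (fun i => 𝒜 i) i ⟨a, ha⟩ from rfl,
    DirectSum.toModule_lof]
  simp only [LinearMap.comp_apply, Submodule.coe_subtype, LinearMap.lcomp_apply,
    GradedAlgebra.proj_apply, TensorProduct.mk_apply]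
  split_ifs with h
  · subst h
    rw [DirectSum.decompose_of_mem_same ℬ hb]
  · rw [DirectSum.decompose_of_mem_ne ℬ hb (Ne.symm h), TensorProduct.tmul_zero]

/-- The Segre product as a subspace. -/
def segre : Submodule k (R ⊗[k] S) :=
  Submodule.span k {x | ∃ n : ℤ, ∃ a ∈ 𝒜 n, ∃ b ∈ ℬ n, x = a ⊗ₜ[k] b}

theorem induction_tmul {P : R ⊗[k] S → Prop} (x : R ⊗[k] S) (h0 : P 0)
    (hadd : ∀ x y, P x → P y → P (x + y))
    (ht : ∀ i j a b, a ∈ 𝒜 i → b ∈ ℬ j → P (a ⊗ₜ b)) : P x := by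
  classical
  induction x using TensorProduct.induction_on with
  | zero => exact h0
  | add x y hx hy => exact hadd x y hx hy
  | tmul a b =>
    induction a using DirectSum.Decomposition.inductionOn 𝒜 with
    | zero => rwa [TensorProduct.zero_tmul]
    | homogeneous a =>
      induction b using DirectSum.Decomposition.inductionOn ℬ with
      | zero => rwa [TensorProduct.tmul_zero]
      | homogeneous b => exact ht _ _ _ _ a.2 b.2
      | add x y hx hy => rw [TensorProduct.tmul_add]; exact hadd _ _ hx hy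
    | add x y hx hy => rw [TensorProduct.add_tmul]; exact hadd _ _ hx hy

theorem diag_mem_segre (x : R ⊗[k] S) : diag 𝒜 ℬ x ∈ segre 𝒜 ℬ := by
  refine induction_tmul 𝒜 ℬ (P := fun x => diag 𝒜 ℬ x ∈ segre 𝒜 ℬ) x (by simp)
    (fun x y hx hy => by rw [map_add]; exact add_mem hx hy) fun i j a b ha hb => ?_
  rw [diag_tmul 𝒜 ℬ ha hb]
  split_ifs with h
  · exact Submodule.subset_span ⟨i, a, ha, b, h ▸ hb, rfl⟩
  · exact zero_mem _

theorem diag_mul (x : R ⊗[k] S) {z : R ⊗[k] S} (hz : z ∈ segre 𝒜 ℬ) :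
    diag 𝒜 ℬ (x * z) = diag 𝒜 ℬ x * z := by
  induction hz using Submodule.span_induction with
  | zero => simp
  | add u v _ _ hu hv => rw [mul_add, map_add, hu, hv, mul_add]
  | smul c u _ hu => rw [mul_smul_comm, map_smul, hu, mul_smul_comm]
  | mem z hz =>
    obtain ⟨m, c, hc, e, he, rfl⟩ := hz
    refine induction_tmul 𝒜 ℬ
      (P := fun x => diag 𝒜 ℬ (x * c ⊗ₜ e) = diag 𝒜 ℬ x * c ⊗ₜ e) x (by simp)
      (fun x y hx hy => by rw [add_mul, map_add, hx, hy, map_add, add_mul]) fun i j a b ha hb => ?_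
    rw [Algebra.TensorProduct.tmul_mul_tmul, diag_tmul 𝒜 ℬ (SetLike.mul_mem_graded ha hc)
      (SetLike.mul_mem_graded hb he), diag_tmul 𝒜 ℬ ha hb]
    by_cases h : i = j
    · rw [if_pos h, if_pos (by rw [h]), Algebra.TensorProduct.tmul_mul_tmul]
    · rw [if_neg h, if_neg (by omega), zero_mul]

theorem diag_of_mem {z : R ⊗[k] S} (hz : z ∈ segre 𝒜 ℬ) : diag 𝒜 ℬ z = z := by
  have := diag_mul 𝒜 ℬ 1 hz
  rw [Algebra.TensorProduct.one_def, diag_tmul 𝒜 ℬ SetLike.GradedOne.one_mem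
    SetLike.GradedOne.one_mem, if_pos rfl, ← Algebra.TensorProduct.one_def, one_mul] at this
  exact this

variable {T : Type u} [CommRing T] [Algebra k T] (𝒯 : ℤ → Submodule k T) [GradedAlgebra 𝒯]
  (ψ : T →ₐ[k] R ⊗[k] S)

theorem range_eq_segre (hdeg : ∀ n : ℤ, (𝒯 n).map ψ.toLinearMap =
    Submodule.span k {x : R ⊗[k] S | ∃ a ∈ 𝒜 n, ∃ b ∈ ℬ n, x = a ⊗ₜ[k] b}) :
    LinearMap.range ψ.toLinearMap = segre 𝒜 ℬ := by
  classical
  refine le_antisymm ?_ (Submodule.span_le.2 ?_)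
  · rintro _ ⟨t, rfl⟩
    induction t using DirectSum.Decomposition.inductionOn 𝒯 with
    | zero => simp
    | @homogeneous i t =>
      have := (hdeg i).le ⟨t, t.2, rfl⟩
      exact Submodule.span_mono (fun x (hx : ∃ a ∈ 𝒜 i, ∃ b ∈ ℬ i, x = a ⊗ₜ[k] b) => (⟨i, hx⟩ : ∃ n : ℤ, ∃ a ∈ 𝒜 n, ∃ b ∈ ℬ n, x = a ⊗ₜ[k] b)) this
    | add x y hx hy => rw [map_add]; exact add_mem hx hy
  · rintro x ⟨n, hx⟩
    obtain ⟨t, -, rfl⟩ := (hdeg n).ge (Submodule.subset_span hx)
    exact ⟨t, rfl⟩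

/-- A Segre product is Noetherian over every subring `A` which is the diagonal part of a subring `B'`
over which `R ⊗ S` is finite. -/
theorem isNoetherian_segre (hψ : Function.Injective ψ) (hdeg : ∀ n : ℤ, (𝒯 n).map ψ.toLinearMap =
    Submodule.span k {x : R ⊗[k] S | ∃ a ∈ 𝒜 n, ∃ b ∈ ℬ n, x = a ⊗ₜ[k] b})
    {A B' : Type*} [CommRing A] [CommRing B'] [Algebra A T] (j : B' →+* R ⊗[k] S) (hj : j.Finite)
    [IsNoetherianRing B'] (f : A →+* B') (hf : ∀ a, j (f a) = ψ (algebraMap A T a))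
    (hdiag : ∀ b, ∃ a, ψ (algebraMap A T a) = diag 𝒜 ℬ (j b)) : IsNoetherian A T := by
  algebraize [j]
  have : Module.Finite B' (R ⊗[k] S) := hj
  have hr : ∀ x, diag 𝒜 ℬ x ∈ Set.range ψ := fun x => by
    simpa using (range_eq_segre 𝒜 ℬ 𝒯 ψ hdeg).ge (diag_mem_segre 𝒜 ℬ x)
  choose ρ hρ using hr
  choose σ hσ using hdiag
  have hT : ∀ t, ψ t ∈ segre 𝒜 ℬ := fun t =>
    (range_eq_segre 𝒜 ℬ 𝒯 ψ hdeg).le ⟨t, rfl⟩
  refine isNoetherian_of_retract f ψ.toRingHom.toAddMonoidHom (M := R ⊗[k] S) ?_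
    { toFun := ρ, map_zero' := hψ (by rw [hρ, map_zero, map_zero])
      map_add' := fun x y => hψ (by rw [map_add, hρ, hρ, hρ, map_add]) }
    (fun t => hψ ((hρ _).trans (diag_of_mem 𝒜 ℬ (hT t)))) σ (fun b t => hψ ?_)
  · intro a t
    simp [Algebra.smul_def, RingHom.algebraMap_toAlgebra, hf]
  · refine (hρ _).trans ?_
    simp [Algebra.smul_def, RingHom.algebraMap_toAlgebra, hσ, diag_mul 𝒜 ℬ _ (hT t)]

end Diag

end GrothLib.Segre
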