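import Groth.Agent.Lib.Segre.Kunneth
import Groth.Agent.Lib.GrLC.TorsAcyclic

/-!
# Segre products with a module on which a positive degree element is bijective
-/

universe u

open DirectSum
open scoped TensorProduct

namespace GrothLib.Segre

open GrothLib.GrLC
open _root_.GrLC (GMod IsGrHom StarInjRes)

noncomputable section

variable {k : Type u} [Field k] {R : Type u} [CommRing R] [Algebra k R] {S : Type u} [CommRing S] [Algebra k S]
  {T : Type u} [CommRing T] [Algebra k T] {𝒜 : ℤ → Submodule k R} [GradedAlgebra 𝒜] {ℬ : ℤ → Submodule k S}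
  [GradedAlgebra ℬ] {𝒯 : ℤ → Submodule k T} [GradedAlgebra 𝒯] {ψ : T →ₐ[k] R ⊗[k] S}
  (hT : GrSeg.IsSegreRing 𝒜 ℬ 𝒯 ψ)

theorem exists_segMap_of_tmap {X X' : GMod.{u} 𝒜} {Y Y' : GMod.{u} ℬ} {f : X.carrier →ₗ[R] X'.carrier}
    (hf : IsHom f) {g : Y.carrier →ₗ[S] Y'.carrier} (hg : IsHom g) (z : Seg X' Y' hT)
    (h : sval hT z ∈ LinearMap.range (tmap (k := k) f g)) : z ∈ LinearMap.range (segMap hT f hf g hg) := by
  obtain ⟨w, hw⟩ := h
  obtain ⟨F, hF⟩ := sum_projPiece (sval_mem hT z)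
  refine ⟨smk hT (∑ n ∈ F, projPiece 𝒜 ℬ X.gr Y.gr n w) (sum_mem fun n _ => projPiece_mem_segSub n w),
    sval_injective hT ?_⟩
  rw [sval_segMap, sval_smk, map_sum]
  conv_rhs => rw [hF]
  exact Finset.sum_congr rfl fun n _ => by rw [tmap_projPiece hf hg, ← hw]

variable (C : GCx.{u} 𝒜) (Y : GMod.{u} ℬ)

/-- a complex tensored with a fixed module -/
abbrev segCx : GCx.{u} 𝒯 where
  X n := segMod (C.X n) Y hT
  d n := segMap hT (C.d n) (C.d_hom n) LinearMap.id IsHom.id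
  d_hom n := isHom_segMap hT (C.d_hom n) IsHom.id
  d_d n x := sval_injective hT (by
    rw [sval_segMap, sval_segMap, map_zero]
    change TensorProduct.map _ _ (TensorProduct.map _ _ _) = 0
    rw [TensorProduct.map_map, show (C.d (n + 1)).restrictScalars k ∘ₗ (C.d n).restrictScalars k = 0 from
      LinearMap.ext fun v => C.d_d n v, TensorProduct.map_zero_left, LinearMap.zero_apply])

/-- cocycle inclusion -/
abbrev incZ (n : ℕ) : (C.Zm n).carrier →ₗ[R] (C.X n).carrier := (C.cyc n).subtype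

theorem isHom_incZ (n : ℕ) : IsHom (X := C.Zm n) (incZ C n) :=
  isHom_subtype (C.X n) _ (C.isHomogeneous_cyc n)

/-- coboundary inclusion -/
abbrev incB (n : ℕ) : (C.Bm n).carrier →ₗ[R] (C.X n).carrier := (C.bdy n).subtype

theorem isHom_incB (n : ℕ) : IsHom (X := C.Bm n) (incB C n) :=
  isHom_subtype (C.X n) _ (C.isHomogeneous_bdy n)

theorem cyc_segCx (n : ℕ) : (segCx hT C Y).cyc n =
    LinearMap.range (segMap hT (Y := Y) (incZ C n) (isHom_incZ C n) LinearMap.id IsHom.id) :=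
  LinearMap.exact_iff.1 (segMap_exact_left hT (isHom_incZ C n) (C.d_hom n)
    (fun x => ⟨fun h => ⟨⟨x, h⟩, rfl⟩, by rintro ⟨z, rfl⟩; exact z.2⟩))

theorem bdy_segCx : ∀ n : ℕ, (segCx hT C Y).bdy n =
    LinearMap.range (segMap hT (Y := Y) (incB C n) (isHom_incB C n) LinearMap.id IsHom.id)
  | 0 => by
    refine Eq.trans (GCx.bdy_zero _) (LinearMap.range_eq_bot.2 (LinearMap.ext fun z => sval_injective hT ?_)).symm
    rw [sval_segMap, LinearMap.zero_apply, map_zero]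
    change TensorProduct.map _ _ _ = 0
    rw [show (incB C 0).restrictScalars k = 0 from LinearMap.ext fun x => (Submodule.mem_bot R).1 x.2,
      TensorProduct.map_zero_left, LinearMap.zero_apply]
  | n + 1 => by
    rw [GCx.bdy_succ]
    have hs : Function.Surjective (segMap hT (Y := Y) (C.toB n) (fun g x hx => C.d_hom n g x hx)
        LinearMap.id IsHom.id) :=
      segMap_surjective hT _ _ (fun z => by obtain ⟨x, hx⟩ := z.2; exact ⟨x, Subtype.ext hx⟩)
        Function.surjective_id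
    conv_rhs => rw [← LinearMap.range_comp_of_range_eq_top _ (LinearMap.range_eq_top.2 hs), segMap_comp]
    rfl

theorem exists_pow_smul_bdy_cech [IsNoetherianRing R] {X : GMod.{u} 𝒜} {l : List (HElt 𝒜)}
    {i : ℕ} {z : ((cech X l).X i).carrier} (hz : z ∈ (cech X l).cyc i) {f : R} (hf : f ∈ (hspan l).toIdeal) :
    ∃ K : ℕ, f ^ K • z ∈ (cech X l).bdy i := by
  let J : Ideal R := Submodule.comap (LinearMap.toSpanSingleton R ((cech X l).X i).carrier z) ((cech X l).bdy i)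
  have hle : (hspan l).toIdeal ≤ J.radical := Ideal.span_le.2 fun r hr => by
    obtain ⟨y, hy, rfl⟩ := hr
    exact exists_pow_smul_mem_bdy hz hy
  exact hle hf

variable {C Y}

theorem torsion_segCx (htors : ∀ n, ∀ z ∈ C.cyc n, ∀ c : ℤ, 0 < c → ∀ f ∈ 𝒜 c, ∃ K : ℕ, f ^ K • z ∈ C.bdy n)
    (n : ℕ) {z : ((segCx hT C Y).X n).carrier} (hz : z ∈ (segCx hT C Y).cyc n) :
    TorsElt (𝒯 := 𝒯) (X := (segCx hT C Y).X n) ((segCx hT C Y).bdy n) z := by
  rw [cyc_segCx] at hz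
  obtain ⟨w, rfl⟩ := hz
  refine torsElt_of_tmul hT fun c hc f hf g hg t ht => ?_
  let W := LinearMap.range (tmap (k := k) (incB C n) (LinearMap.id : Y.carrier →ₗ[S] Y.carrier))
  have hW : ∀ z' : R ⊗[k] S, ∀ v ∈ W, GrSeg.act k R S (C.X n).carrier Y.carrier z' v ∈ W := by
    rintro z' _ ⟨v, rfl⟩
    exact ⟨_, tmap_act (incB C n) LinearMap.id z' v⟩
  have key : ∀ v : (C.Zm n).carrier ⊗[k] Y.carrier, ∃ K : ℕ,
      GrSeg.act k R S (C.X n).carrier Y.carrier ((f ⊗ₜ[k] g) ^ K) (tmap (incZ C n) LinearMap.id v) ∈ W := by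
    intro v
    induction v using TensorProduct.induction_on with
    | zero => exact ⟨0, by simp⟩
    | tmul a b =>
      obtain ⟨K, hK⟩ := htors n a.1 a.2 c hc f hf
      refine ⟨K, ⟨(⟨f ^ K • a.1, hK⟩ : C.bdy n) ⊗ₜ[k] (g ^ K • b), ?_⟩⟩
      rw [Algebra.TensorProduct.tmul_pow, TensorProduct.map_tmul, TensorProduct.map_tmul, GrSeg.act_tmul]
      rfl
    | add a b ha hb =>
      obtain ⟨K, hK⟩ := ha
      obtain ⟨K', hK'⟩ := hb
      refine ⟨K + K', ?_⟩
      rw [map_add, map_add]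
      refine add_mem ?_ ?_
      · rw [add_comm K, pow_add, act_mul]; exact hW _ _ hK
      · rw [pow_add, act_mul]; exact hW _ _ hK'
  obtain ⟨K, hK⟩ := key (sval hT w)
  refine ⟨K, ?_⟩
  rw [bdy_segCx]
  refine exists_segMap_of_tmap hT (isHom_incB C n) IsHom.id _ ?_
  rw [sval_smul, map_pow, ht, sval_segMap]
  exact hK

theorem iso_H_segCx (n : ℕ) : GrLC.Iso ((segCx hT C Y).H n) (segMod (C.H n) Y hT) := by
  let iZ := segMap hT (Y := Y) (incZ C n) (isHom_incZ C n) LinearMap.id IsHom.id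
  have hiZ : Function.Injective iZ :=
    segMap_injective hT _ _ (Submodule.subtype_injective _) Function.injective_id
  let q := segMap hT (Y := Y) (C.qH n) (C.isHom_qH n) LinearMap.id IsHom.id
  let e := LinearEquiv.ofInjective iZ hiZ
  let π : (segCx hT C Y).cyc n →ₗ[T] (segMod (C.H n) Y hT).carrier :=
    q ∘ₗ (e.symm.toLinearMap ∘ₗ Submodule.inclusion (cyc_segCx hT C Y n).le)
  have hπ : ∀ (w : (segMod (C.Zm n) Y hT).carrier) (h : iZ w ∈ (segCx hT C Y).cyc n),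
      π ⟨iZ w, h⟩ = q w := fun w h => congrArg q ((LinearEquiv.symm_apply_eq e).2 (Subtype.ext rfl))
  refine iso_subquot_of_surj _ _ π ?_ ?_ ?_
  · rintro g ⟨z, hz⟩ hzg
    obtain ⟨w, rfl⟩ := (cyc_segCx hT C Y n).le hz
    have hiZh : IsHom (X := segMod (C.Zm n) Y hT) (Y := segMod (C.X n) Y hT) iZ :=
      isHom_segMap hT (isHom_incZ C n) IsHom.id
    have hw : w ∈ (segMod (C.Zm n) Y hT).gr g := by
      have h1 : GrLC.cmp (segMod (C.Zm n) Y hT).gr g w = w := hiZ (by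
        rw [hiZh.cmp]; exact cmp_of_mem _ hzg)
      rw [← h1]; exact cmp_mem _ g w
    exact (congrArg (· ∈ (segMod (C.H n) Y hT).gr g) (hπ w hz)).mpr
      (isHom_segMap hT (C.isHom_qH n) IsHom.id g w hw)
  · intro y
    obtain ⟨w, hw⟩ := segMap_surjective hT (C.isHom_qH n) IsHom.id
      (Submodule.mkQ_surjective ((C.bdy n).comap (C.cyc n).subtype)) Function.surjective_id y
    exact ⟨⟨iZ w, (cyc_segCx hT C Y n).ge ⟨w, rfl⟩⟩, (hπ w _).trans hw⟩
  · have hex : Function.Exact (segMap hT (Y := Y) (C.inBZ n) (fun _ _ hx => hx) LinearMap.id IsHom.id) q :=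
      segMap_exact_left hT (X := C.Bm n) (X' := C.Zm n) (X'' := C.H n) (fun _ _ hx => hx) (C.isHom_qH n) fun x =>
        ⟨fun h => ⟨(⟨x.1, (Submodule.Quotient.mk_eq_zero ((C.bdy n).comap (C.cyc n).subtype)).1 h⟩ : C.bdy n), rfl⟩,
          by rintro ⟨z, rfl⟩; exact (Submodule.Quotient.mk_eq_zero ((C.bdy n).comap (C.cyc n).subtype)).2 z.2⟩
    have hcomp : ∀ b, iZ (segMap hT (Y := Y) (C.inBZ n) (fun _ _ hx => hx) LinearMap.id IsHom.id b) =
        segMap hT (Y := Y) (incB C n) (isHom_incB C n) LinearMap.id IsHom.id b := fun b =>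
      sval_injective hT (by
        rw [sval_segMap, sval_segMap, sval_segMap]
        exact TensorProduct.map_map ..)
    ext ⟨z, hz⟩
    obtain ⟨w, rfl⟩ := (cyc_segCx hT C Y n).le hz
    rw [LinearMap.mem_ker, hπ w hz, Submodule.mem_comap, bdy_segCx]
    constructor
    · intro h
      obtain ⟨b, hb⟩ := (hex w).1 h
      exact ⟨b, by rw [← hcomp, hb]; rfl⟩
    · rintro ⟨b, hb⟩
      exact (hex w).2 ⟨b, hiZ ((hcomp b).trans hb)⟩

variable {M : Type u} [AddCommGroup M] [Module R M] [Module k M] [IsScalarTower k R M] {ℳ : ℤ → AddSubgroup M}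
  [Decomposition ℳ] [SetLike.GradedSMul 𝒜 ℳ]
  {N : Type u} [AddCommGroup N] [Module S N] [Module k N] [IsScalarTower k S N] {𝒩 : ℤ → AddSubgroup N}
  [Decomposition 𝒩] [SetLike.GradedSMul ℬ 𝒩]
  {P : Type u} [AddCommGroup P] [Module T P] [Module k P] [IsScalarTower k T P] {𝒬 : ℤ → AddSubgroup P}
  [Decomposition 𝒬] {φ : P →ₗ[k] M ⊗[k] N} (hP : GrSeg.IsSegreMod ψ ℳ 𝒩 𝒬 φ) [SetLike.GradedSMul 𝒯 𝒬]
  [IsNoetherianRing R] [IsNoetherianRing T]
  (EM : StarInjRes 𝒜 ℳ) (EP : StarInjRes 𝒯 𝒬)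
  {mR : HomogeneousIdeal 𝒜} (hmR : mR.toIdeal = Ideal.span (⋃ n ∈ Set.Ioi (0 : ℤ), (𝒜 n : Set R)))
  {mT : HomogeneousIdeal 𝒯} (hmT : mT.toIdeal = Ideal.span (⋃ n ∈ Set.Ioi (0 : ℤ), (𝒯 n : Set T)))
  (hposR : ∀ n : ℤ, n < 0 → 𝒜 n = ⊥) (hN : LocTerm (gmod ℬ 𝒩))

include hT hP hmR hmT hposR hN

theorem iso_EH_segMod (q : ℕ) : GrLC.Iso (EH EP mT q) (segMod (EH EM mR q) (gmod ℬ 𝒩) hT) := by
  have hposT : ∀ n : ℤ, n < 0 → ∀ r ∈ 𝒯 n, r = 0 := fun n hn r hr => by
    rwa [segre_neg hT hposR hn, Submodule.mem_bot] at hr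
  obtain ⟨lR, hlR, hRpos, hRgen⟩ := exists_pos_irrel_list
    (fun n hn r hr => by rwa [hposR n hn, Submodule.mem_bot] at hr) mR hmR
  obtain ⟨lT, hlT, hTpos, hTgen⟩ := exists_pos_irrel_list hposT mT hmT
  let C := cech (gmod 𝒜 ℳ) lR
  let A := segCx hT C (gmod ℬ 𝒩)
  have hac : ∀ n i g, Van lT (A.X (n + 1)) i g := fun n i g =>
    van_segMod hT hTgen (locTerm_cech _ lR hRpos n) hN i g
  have htor : ∀ n, ∀ z ∈ A.cyc n, ∀ y ∈ lT, ∃ K : ℕ, y.val ^ K • z ∈ A.bdy n := fun n z hz y hy =>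
    torsion_segCx hT (fun n z hz c hc f hf => exists_pow_smul_bdy_cech hz (hRgen c hc f hf)) n hz
      y.deg (hTpos y hy) y.val y.mem
  obtain ⟨e, he⟩ := iso_segMod hT hP
  have h1 := (cechMap e.toLinearMap he lT).iso_of_bijective (cechMap_bijective _ he e.bijective lT) q
  have hi : IsHom (X := segMod (gmod 𝒜 ℳ) (gmod ℬ 𝒩) hT) (Y := A.X 0)
      (segMap hT (inc0 (gmod 𝒜 ℳ) lR) (isHom_inc0 _ lR) LinearMap.id IsHom.id) :=
    isHom_segMap hT _ _
  have h2 := (cechMap _ hi lT).iso_of_bijective (cechMap_bijective _ hi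
    ⟨segMap_injective hT _ _ (inc0_bijective _ lR).1 Function.injective_id,
      segMap_surjective hT _ _ (inc0_bijective _ lR).2 Function.surjective_id⟩ lT) q
  refine ((iso_cech EP hlT q).trans (h1.trans (h2.trans (GCx.iso_cech_of_acyclic hac htor q)))).trans
    ((iso_H_segCx hT q).trans ?_)
  obtain ⟨f, hf⟩ := (iso_cech EM hlR q).symm
  exact ⟨LinearEquiv.ofBijective (segMap hT f.toLinearMap hf LinearMap.id IsHom.id)
    ⟨segMap_injective hT _ _ f.injective Function.injective_id,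
      segMap_surjective hT _ _ f.surjective Function.surjective_id⟩, isHom_segMap hT hf IsHom.id⟩

omit hP hmR hmT hposR hN in
/-- A graded isomorphism onto the bundled Segre product is a presentation. -/
theorem exists_isSegreMod_of_equiv {X : GMod.{u} 𝒜} {Y : GMod.{u} ℬ} {ℳ' : ℤ → AddSubgroup X.carrier}
    {𝒩' : ℤ → AddSubgroup Y.carrier} (hX : ∀ n x, x ∈ ℳ' n ↔ x ∈ X.gr n) (hY : ∀ n y, y ∈ 𝒩' n ↔ y ∈ Y.gr n)
    {Q : Type u} [AddCommGroup Q] [Module T Q] [Module k Q] [IsScalarTower k T Q] {𝒬' : ℤ → AddSubgroup Q}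
    [Decomposition 𝒬'] (f : Q ≃ₗ[T] (segMod X Y hT).carrier)
    (hf : ∀ n, ∀ p ∈ 𝒬' n, f p ∈ (segMod X Y hT).gr n)
    (hf' : ∀ n, ∀ z ∈ (segMod X Y hT).gr n, f.symm z ∈ 𝒬' n) :
    ∃ φ' : Q →ₗ[k] X.carrier ⊗[k] Y.carrier, GrSeg.IsSegreMod ψ ℳ' 𝒩' 𝒬' φ' := by
  have hpiece : ∀ n, GrSeg.segrePiece k X.gr Y.gr n = GrSeg.segrePiece k ℳ' 𝒩' n := fun n =>
    congrArg (Submodule.span k) (Set.ext fun v => exists_congr fun a =>
      and_congr (hX n a).symm (exists_congr fun b => and_congr (hY n b).symm Iff.rfl))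
  refine ⟨{ toFun := fun p => sval hT (f p)
            map_add' := fun a b => by rw [map_add, map_add]
            map_smul' := fun c p => ?_ }, ⟨?_, fun n => ?_, fun t p => ?_⟩⟩
  · rw [RingHom.id_apply, ← algebraMap_smul T c p, map_smul, algebraMap_smul, map_smul]
  · exact fun a b h => f.injective (sval_injective hT h)
  · refine Set.Subset.antisymm ?_ fun v hv => ?_
    · rintro _ ⟨p, hp, rfl⟩
      exact (hpiece n).le (hf n p hp)
    · have hv' := (hpiece n).ge hv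
      refine ⟨f.symm (smk hT v (piece_le_segSub n hv')), hf' n _ hv', ?_⟩
      exact congrArg (sval hT) (f.apply_symm_apply _)
  · exact (congrArg (sval hT) (map_smul f t p)).trans (sval_smul hT t (f p))

end

end GrothLib.Segre
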