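import Groth.Agent.Lib.Segre.CMCriterion

/-!
# Graded modules with cohomology in one spot: where it is nonzero
-/

universe u

open DirectSum RingTheory.Sequence
open scoped TensorProduct Pointwise

namespace GrothLib.Segre

open GrothLib.GrLC
open _root_.GrLC (GMod StarInjRes)

variable {k T : Type u} [Field k] [CommRing T] [Algebra k T] {𝒯 : ℤ → Submodule k T} [GradedAlgebra 𝒯]
  [Algebra.FiniteType k T] [Nontrivial T]
  (hpos : ∀ n : ℤ, n < 0 → 𝒯 n = ⊥) (h0 : 𝒯 0 = Submodule.span k {(1 : T)})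
  {m : HomogeneousIdeal 𝒯} (hm : m.toIdeal = Ideal.span (⋃ n ∈ Set.Ioi (0 : ℤ), (𝒯 n : Set T)))
  {l : List (HElt 𝒯)} (hl : (hspan l).toIdeal = m.toIdeal)

include hpos h0 hm hl

local notation "Loc" X => LocalizedModule m.toIdeal.primeCompl (GMod.carrier X)

theorem van_iff_Hcomp (X : GMod.{u} 𝒯) (i : ℕ) (g : ℤ) :
    (starInjRes 𝒯 X.gr).Hcomp m i g = ⊥ ↔ Van l X i g := by
  have : IsNoetherianRing T := Algebra.FiniteType.isNoetherianRing k T
  exact (Hcomp_eq_bot_iff_van _ hl i g).trans ((iso_gmod_gr X).van_iff i g)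

variable [m.toIdeal.IsPrime]

theorem van_of_localDim_lt (X : GMod.{u} 𝒯) {i : ℕ}
    (h : Module.supportDim (Localization.AtPrime m.toIdeal) (Loc X) < (i : WithBot ℕ∞)) (g : ℤ) : Van l X i g := by
  have : IsNoetherianRing T := Algebra.FiniteType.isNoetherianRing k T
  have : IsNoetherianRing (Localization.AtPrime m.toIdeal) :=
    IsLocalization.isNoetherianRing m.toIdeal.primeCompl _ inferInstance
  rw [← van_iff_Hcomp hpos h0 hm hl]
  by_contra hc
  exact not_nontrivial_iff_subsingleton.2 (LC.subsingleton_of_supportDim_lt i _ _ _ h)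
    ((nontrivial_H_iff hpos h0 hm (starInjRes 𝒯 X.gr) i).2 ⟨g, hc⟩)

theorem exists_localDim (X : GMod.{u} 𝒯) [Module.Finite T X.carrier] [Nontrivial X.carrier] :
    ∃ d : ℕ, Module.supportDim (Localization.AtPrime m.toIdeal) (Loc X) = (d : WithBot ℕ∞) ∧
      ∃ g, ¬ Van l X d g := by
  have : IsNoetherianRing T := Algebra.FiniteType.isNoetherianRing k T
  have : IsNoetherianRing (Localization.AtPrime m.toIdeal) :=
    IsLocalization.isNoetherianRing m.toIdeal.primeCompl _ inferInstance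
  have : Module.Finite (Localization.AtPrime m.toIdeal) (Loc X) :=
    Module.Finite.of_isLocalizedModule m.toIdeal.primeCompl (LocalizedModule.mkLinearMap m.toIdeal.primeCompl _)
  have hnt : Nontrivial (Loc X) := nontrivial_localized hpos h0 hm X
  obtain ⟨D, hD⟩ : ∃ D : ℕ∞, (D : WithBot ℕ∞) = Module.supportDim (Localization.AtPrime m.toIdeal) (Loc X) :=
    WithBot.ne_bot_iff_exists.1 (Module.supportDim_ne_bot_of_nontrivial _ _)
  obtain ⟨d, rfl⟩ : ∃ d : ℕ, (d : ℕ∞) = D := ENat.ne_top_iff_exists.1 fun e => by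
    have h2 := (Module.supportDim_le_ringKrullDim (Localization.AtPrime m.toIdeal) (Loc X)).trans_lt ringKrullDim_lt_top
    rw [← hD, e] at h2
    exact lt_irrefl _ h2
  refine ⟨d, hD.symm, ?_⟩
  obtain ⟨g, hg⟩ := (nontrivial_H_iff hpos h0 hm (starInjRes 𝒯 X.gr) d).1
    (LC.not_finite_and_nontrivial_H_maximal d _ hD.symm).1
  exact ⟨g, fun h => hg ((van_iff_Hcomp hpos h0 hm hl X d g).2 h)⟩

theorem localDim_le (X : GMod.{u} 𝒯) [Module.Finite T X.carrier] [Nontrivial X.carrier] {n : ℕ}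
    (h : ∀ i, n < i → ∀ g, Van l X i g) :
    Module.supportDim (Localization.AtPrime m.toIdeal) (Loc X) ≤ (n : WithBot ℕ∞) := by
  obtain ⟨d, hd, g, hg⟩ := exists_localDim hpos h0 hm hl X
  rw [hd]
  exact_mod_cast not_lt.1 fun hlt => hg (h d hlt g)

theorem localDim_quot_le (X : GMod.{u} 𝒯) [Module.Finite T X.carrier] {x : T} (hxm : x ∈ m.toIdeal)
    (hxr : IsSMulRegular X.carrier x) {X' : GMod.{u} 𝒯} (eQ : QuotSMulTop x X.carrier ≃ₗ[T] X'.carrier) {n : ℕ}
    (hdim : Module.supportDim (Localization.AtPrime m.toIdeal) (Loc X) ≤ ((n + 1 : ℕ) : WithBot ℕ∞)) :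
    Module.supportDim (Localization.AtPrime m.toIdeal) (Loc X') ≤ (n : WithBot ℕ∞) := by
  have : IsNoetherianRing T := Algebra.FiniteType.isNoetherianRing k T
  have hX' : Module.Finite T X'.carrier := Module.Finite.equiv eQ
  let A := Localization.AtPrime m.toIdeal
  let xA : A := algebraMap T A x
  have : IsNoetherianRing A := IsLocalization.isNoetherianRing m.toIdeal.primeCompl _ inferInstance
  have : Module.Finite A (Loc X) :=
    Module.Finite.of_isLocalizedModule m.toIdeal.primeCompl (LocalizedModule.mkLinearMap m.toIdeal.primeCompl _)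
  have hs : Module.support A (Loc X') = Module.support A (QuotSMulTop xA (Loc X)) := by
    ext P
    rw [mem_support_localized_iff, ← LinearEquiv.support_eq eQ, Module.support_quotSMulTop,
      Module.support_quotSMulTop, Set.mem_inter_iff, Set.mem_inter_iff, mem_support_localized_iff]
    simp only [xA, PrimeSpectrum.mem_zeroLocus, Set.singleton_subset_iff, SetLike.mem_coe,
      PrimeSpectrum.comap_asIdeal, Ideal.mem_comap]
    tauto
  have hxr' : IsSMulRegular (Loc X) xA :=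
    (isWeaklyRegular_singleton_iff _ _).1 (((isWeaklyRegular_singleton_iff X.carrier x).2 hxr).of_isLocalizedModule
      A m.toIdeal.primeCompl (LocalizedModule.mkLinearMap m.toIdeal.primeCompl X.carrier))
  have h1 := LC.supportDim_quotSMulTop_add_one
    (x := xA) ((IsLocalization.AtPrime.to_map_mem_maximal_iff A m.toIdeal x).2 hxm) hxr'
  refine LC.le_of_add_one_le_add_one ?_
  rw [Module.supportDim, hs, ← Module.supportDim, h1]
  exact hdim

/-- A regular element cuts the top spot down: cohomology in the spot below, one spot and all lattices. -/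
theorem exists_not_van_sub (r : ℕ) : ∀ (X : GMod.{u} 𝒯), Module.Finite T X.carrier →
    (∀ i, i ≠ r → ∀ g, Van l X i g) → ∀ (L : ℕ), 0 < L → ∀ (d : ℤ), (∃ v ∈ X.gr d, v ≠ 0) →
    ∃ e : ℕ, 0 < e ∧ L ∣ e ∧ ∃ J : ℕ, (r = 0 → J = 0 ∧ ¬ Van l X r d) ∧
      (1 ≤ r → ∀ j, J ≤ j → ¬ Van l X r (d - (j : ℤ) * e)) := by
  have : IsNoetherianRing T := Algebra.FiniteType.isNoetherianRing k T
  induction r with
  | zero =>
    intro X hX hc L hL d ⟨v, hv, hv0⟩
    have hnt : Nontrivial X.carrier := ⟨⟨v, 0, hv0⟩⟩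
    obtain ⟨θ, -, -, N, hN⟩ := exists_params hpos h0 hm hl 0 X hX (fun i hi => absurd hi (Nat.not_lt_zero i))
      (localDim_le hpos h0 hm hl X fun i hi => hc i hi.ne')
    refine ⟨L, hL, dvd_rfl, 0, fun _ => ⟨rfl, fun h => hv0 ((van_zero_iff d).1 h v hv ⟨N, fun r hr => ?_⟩)⟩,
      fun h => absurd h (by omega)⟩
    have := hN r (hl ▸ hr) v
    simpa using this
  | succ r ih =>
    intro X hX hc L hL d ⟨v, hv, hv0⟩
    have hnt : Nontrivial X.carrier := ⟨⟨v, 0, hv0⟩⟩
    obtain ⟨x₀, hx₀d, hx₀m, hx₀r⟩ := exists_regular_elt hpos h0 hm hl X (hc 0 (Nat.succ_ne_zero r).symm)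
    let x : HElt 𝒯 := ⟨x₀.val ^ L, L • x₀.deg, x₀.pow_mem L⟩
    obtain ⟨e, he⟩ : ∃ e : ℕ, (e : ℤ) = x.deg := ⟨x.deg.toNat, Int.toNat_of_nonneg (nsmul_nonneg hx₀d.le L)⟩
    have hxd : x.deg = (L : ℤ) * x₀.deg := nsmul_eq_mul L x₀.deg
    have hepos : 0 < e := by
      have : 0 < x.deg := by rw [hxd]; exact mul_pos (Int.natCast_pos.2 hL) hx₀d
      omega
    have hLe : L ∣ e := by
      have : (L : ℤ) ∣ (e : ℤ) := ⟨x₀.deg, he.trans hxd⟩
      exact_mod_cast this
    have hxm : x.val ∈ m.toIdeal := Ideal.pow_mem_of_mem _ hx₀m L hL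
    have hxr : IsSMulRegular X.carrier x.val := hx₀r.pow L
    let P := LinearMap.range (mulShift X x)
    let X' : GMod.{u} 𝒯 := GrLC.quot X P (isHomogeneous_range (isHom_mulShift X x))
    let q : X.carrier →ₗ[T] X'.carrier := Submodule.mkQ P
    have hq : IsHom q := isHom_mkQ X _ (isHomogeneous_range (isHom_mulShift X x))
    have hqs : Function.Surjective q := Submodule.mkQ_surjective P
    have hex : Function.Exact (mulShift X x) q := fun w => Submodule.Quotient.mk_eq_zero P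
    have hX' : Module.Finite T X'.carrier := Module.Finite.of_surjective q hqs
    have hxl : (hspan (x :: l)).toIdeal = (hspan l).toIdeal := hspan_cons_eq (hl.ge hxm)
    have tr : ∀ (Y : GMod.{u} 𝒯) i g, Van l Y i g ↔ Van (x :: l) Y i g := fun Y i g =>
      van_congr_list hxl.symm Y i g
    have ht : ∀ y ∈ x :: l, ∀ w : X.carrier, x.val • w = 0 → ∃ n : ℕ, y.val ^ n • w = 0 := fun y _ w hw =>
      ⟨0, by rw [hxr (hw.trans (smul_zero _).symm), smul_zero]⟩
    have hsm : x.val • (⊤ : Submodule T X.carrier) = P := by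
      ext w
      constructor
      · rintro ⟨a, -, rfl⟩; exact ⟨a, rfl⟩
      · rintro ⟨a, rfl⟩; exact ⟨a, trivial, rfl⟩
    have hdim' : Module.supportDim (Localization.AtPrime m.toIdeal) (Loc X') ≤ (r : WithBot ℕ∞) :=
      localDim_quot_le hpos h0 hm hl X hxm hxr (Submodule.quotEquivOfEq _ _ hsm : _ ≃ₗ[T] X'.carrier)
        (localDim_le hpos h0 hm hl X fun i hi => hc i hi.ne')
    have hc' : ∀ i, i ≠ r → ∀ g, Van l X' i g := by
      intro i hi g
      rcases lt_or_gt_of_ne hi with h | h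
      · exact (tr _ _ _).2 (van_cut q hq hqs hex ht ((tr _ _ _).1 (hc i (by omega) g))
          ((tr _ _ _).1 (hc (i + 1) (by omega) _)))
      · exact van_of_localDim_lt hpos h0 hm hl X' (hdim'.trans_lt (by exact_mod_cast h)) g
    have hsurj : ∀ g, Van l X (r + 1) (g - e) → Van l X (r + 1) g := fun g hg => by
      rw [tr] at hg ⊢
      exact (ses_cut q hq hqs hex (x :: l)).vanish_mid
        ((ses_ker (x :: l)).vanish_right ((van_shift _ _ _).2 (by rwa [← he, ← sub_eq_add_neg])) (van_ker ht))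
        ((tr _ _ _).1 (hc' (r + 1) (by omega) g))
    have hdrop : ∀ g, Van l X (r + 1) (g - e) → Van l X' r g := fun g hg =>
      (tr _ _ _).2 (van_cut q hq hqs hex ht ((tr _ _ _).1 (hc r (by omega) g))
        ((tr _ _ _).1 (by rwa [← he, ← sub_eq_add_neg])))
    have hex' : ∃ i : ℕ, ∃ w ∈ X'.gr (d - (i : ℤ) * e), w ≠ 0 := by
      obtain ⟨lb, hlb⟩ := exists_lower_bound (𝒜 := 𝒯) (fun n hn r hr => eq_zero_of_neg 𝒯 hpos hn hr) X
      suffices ∀ (s : ℕ) (d : ℤ), d - lb < s → (∃ v ∈ X.gr d, v ≠ 0) →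
          ∃ i : ℕ, ∃ w ∈ X'.gr (d - (i : ℤ) * e), w ≠ 0 from
        this ((d - lb).toNat + 1) d (by omega) ⟨v, hv, hv0⟩
      intro s
      induction s with
      | zero => exact fun d hd ⟨v, hv, hv0⟩ => absurd (hlb d (by omega) v hv) hv0
      | succ s ihs =>
        intro d hd ⟨v, hv, hv0⟩
        by_cases hqv : q v = 0
        · obtain ⟨u', rfl⟩ := (hex v).1 hqv
          obtain ⟨u, hu'⟩ : ∃ u : X.carrier, u = u' := ⟨u', rfl⟩
          have hu0 : cmp X.gr (d - e) u ≠ 0 := by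
            intro hu
            refine hv0 ?_
            have h := cmp_of_mem X.gr hv
            change x.val • (show X.carrier from u') = 0
            change cmp X.gr d (x.val • (show X.carrier from u')) = x.val • (show X.carrier from u') at h
            rw [← hu'] at h ⊢
            rw [← h, cmp_smul_of_mem X.gr x.mem, ← he, hu, smul_zero]
          obtain ⟨i, hi⟩ := ihs (d - e) (by omega) ⟨cmp X.gr (d - e) u, cmp_mem _ _ u, hu0⟩
          exact ⟨i + 1, by rw [show d - ((i + 1 : ℕ) : ℤ) * e = d - e - (i : ℤ) * e by push_cast; ring]; exact hi⟩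
        · exact ⟨0, q v, by rw [Nat.cast_zero, zero_mul, sub_zero]; exact hq d v hv, hqv⟩
    obtain ⟨i, hi⟩ := hex'
    obtain ⟨e', -, ⟨c, hc2⟩, J, hJ0, hJ1⟩ := ih X' hX' hc' e hepos _ hi
    obtain ⟨j₀, hj₀⟩ : ∃ j₀ : ℕ, ¬ Van l X (r + 1) (d - (j₀ : ℤ) * e) := by
      rcases Nat.eq_zero_or_pos r with hr | hr
      · refine ⟨i + 1, fun h => (hJ0 hr).2 (hdrop _ ?_)⟩
        rwa [show d - (i : ℤ) * e - e = d - ((i + 1 : ℕ) : ℤ) * e by push_cast; ring]
      · refine ⟨i + J * c + 1, fun h => hJ1 hr J le_rfl (hdrop _ ?_)⟩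
        rwa [show d - (i : ℤ) * e - (J : ℤ) * (e' : ℤ) - e = d - ((i + J * c + 1 : ℕ) : ℤ) * e by
          rw [hc2]; push_cast; ring]
    refine ⟨e, hepos, hLe, j₀, fun h => absurd h (Nat.succ_ne_zero r), fun _ j hj => ?_⟩
    induction j, hj using Nat.le_induction with
    | base => exact hj₀
    | succ j _ hjn =>
      refine fun h => hjn (hsurj _ ?_)
      rwa [show d - (j : ℤ) * e - e = d - ((j + 1 : ℕ) : ℤ) * e by push_cast; ring]

end GrothLib.Segre
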