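import Mathlib.LinearAlgebra.Basis.VectorSpace
import Mathlib.LinearAlgebra.Dual.Lemmas
import Mathlib.LinearAlgebra.Dimension.Constructions
import Mathlib.LinearAlgebra.TensorProduct.Map
import Mathlib.RingTheory.Flat.Basic
import Mathlib.Algebra.BigOperators.NatAntidiagonal
import Mathlib.Tactic.NoncommRing

/-!
# Graded differential vector spaces: splitting and the Künneth formula
-/

universe u v

open Finset
open scoped TensorProduct

namespace GrothLib.Segre

section Idem

variable {k : Type*} [Field k] {V : Type*} [AddCommGroup V] [Module k V]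

/-- The range of a sum of orthogonal idempotents is the product of the ranges. -/
noncomputable def rangeSumEquiv {α : Type*} [Fintype α] [DecidableEq α] (P : α → Module.End k V)
    (hP : ∀ a b, P a * P b = if a = b then P a else 0) :
    LinearMap.range (∑ a, P a : Module.End k V) ≃ₗ[k] (∀ a, LinearMap.range (P a)) where
  toFun z a := ⟨P a z.1, ⟨z.1, rfl⟩⟩
  map_add' z w := by ext a; exact map_add _ _ _
  map_smul' c z := by ext a; exact map_smul _ _ _
  invFun f := ⟨∑ a, (f a).1, ⟨∑ a, (f a).1, by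
    rw [LinearMap.sum_apply]
    refine Finset.sum_congr rfl fun a _ => ?_
    rw [map_sum, Finset.sum_eq_single a]
    · obtain ⟨y, hy⟩ := (f a).2
      rw [← hy, ← Module.End.mul_apply, hP, if_pos rfl]
    · intro b _ hb
      obtain ⟨y, hy⟩ := (f b).2
      rw [← hy, ← Module.End.mul_apply, hP, if_neg hb.symm, LinearMap.zero_apply]
    · simp⟩⟩
  left_inv z := by
    obtain ⟨_, y, rfl⟩ := z
    refine Subtype.ext ?_
    change ∑ a, P a ((∑ b, P b) y) = (∑ b, P b) y
    simp only [LinearMap.sum_apply, map_sum, ← Module.End.mul_apply, hP]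
    exact Finset.sum_congr rfl fun a _ => by simp [apply_ite (fun f : Module.End k V => f y)]
  right_inv f := by
    funext a
    refine Subtype.ext ?_
    change P a (∑ b, (f b).1) = (f a).1
    rw [map_sum, Finset.sum_eq_single a]
    · obtain ⟨y, hy⟩ := (f a).2
      rw [← hy, ← Module.End.mul_apply, hP, if_pos rfl]
    · intro b _ hb
      obtain ⟨y, hy⟩ := (f b).2
      rw [← hy, ← Module.End.mul_apply, hP, if_neg hb.symm, LinearMap.zero_apply]
    · simp

variable {U : Type*} [AddCommGroup U] [Module k U]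

/-- The range of a tensor product of maps. -/
noncomputable def rangeMapEquiv {V' U' : Type*} [AddCommGroup V'] [Module k V'] [AddCommGroup U'] [Module k U']
    (A : V →ₗ[k] V') (B : U →ₗ[k] U') :
    LinearMap.range A ⊗[k] LinearMap.range B ≃ₗ[k] LinearMap.range (TensorProduct.map A B) :=
  (LinearEquiv.ofInjective (TensorProduct.mapIncl (LinearMap.range A) (LinearMap.range B))
    (Module.Flat.tensorProduct_mapIncl_injective_of_right _ _)).trans
    (LinearEquiv.ofEq _ _ (by rw [TensorProduct.range_mapIncl, TensorProduct.range_map]))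

theorem exists_dual_eq_one {p : Submodule k V} {x : V} (hx : x ∉ p) :
    ∃ f : Module.Dual k V, f x = 1 ∧ ∀ y ∈ p, f y = 0 := by
  obtain ⟨f, hf, hfp⟩ := Submodule.exists_dual_map_eq_bot_of_notMem hx inferInstance
  refine ⟨(f x)⁻¹ • f, by simp [hf], fun y hy => ?_⟩
  have : f y ∈ p.map f := Submodule.mem_map_of_mem hy
  rw [hfp, Submodule.mem_bot] at this
  simp [this]

/-- A tensor of vectors outside is outside. -/
theorem tmul_notMem_map₂ {p : Submodule k V} {x : V} (hx : x ∉ p) {y : U} (hy : y ≠ 0) (q : Submodule k U) :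
    x ⊗ₜ[k] y ∉ Submodule.map₂ (TensorProduct.mk k V U) p q := by
  obtain ⟨f, hf, hfp⟩ := exists_dual_eq_one hx
  obtain ⟨f', hf'⟩ := Module.Projective.exists_dual_ne_zero k hy
  intro h
  let Φ : V ⊗[k] U →ₗ[k] k := LinearMap.mul' k k ∘ₗ TensorProduct.map f f'
  have h0 : ∀ z ∈ Submodule.map₂ (TensorProduct.mk k V U) p q, Φ z = 0 := by
    intro z hz
    refine (Submodule.map₂_le.2 fun a ha b _ => ?_ : _ ≤ LinearMap.ker Φ) hz
    simp [Φ, hfp a ha]
  have := h0 _ h
  simp [Φ, hf] at this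
  exact hf' this

theorem subsingleton_tensor_iff : Subsingleton (V ⊗[k] U) ↔ Subsingleton V ∨ Subsingleton U := by
  constructor
  · intro h
    by_contra hc
    push Not at hc
    obtain ⟨hV, hU⟩ := hc
    obtain ⟨x, hx⟩ := exists_ne (0 : V)
    obtain ⟨y, hy⟩ := exists_ne (0 : U)
    exact tmul_notMem_map₂ (p := ⊥) (by simpa using hx) hy ⊥
      ((Subsingleton.elim (x ⊗ₜ[k] y) 0).symm ▸ zero_mem _)
  · rintro (h | h) <;> infer_instance

end Idem

variable (k : Type u) [Field k] (V : Type v) [AddCommGroup V] [Module k V]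

/-- A bounded graded differential vector space. -/
structure GDiff where
  /-- the number of spots -/
  L : ℕ
  /-- differential -/
  d : Module.End k V
  /-- projections -/
  π : ℕ → Module.End k V
  d_d : d * d = 0
  π_π : ∀ a b, π a * π b = if a = b then π a else 0
  sum_π : ∑ a ∈ range L, π a = 1
  d_π : ∀ a, d * π a = π (a + 1) * d
  π_zero_d : π 0 * d = 0

namespace GDiff

variable {k V} (C : GDiff k V)

theorem π_self (a : ℕ) : C.π a * C.π a = C.π a := by rw [C.π_π, if_pos rfl]

theorem π_ne {a b : ℕ} (h : a ≠ b) : C.π a * C.π b = 0 := by rw [C.π_π, if_neg h]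

theorem π_eq_zero {a : ℕ} (h : C.L ≤ a) : C.π a = 0 := by
  rw [← mul_one (C.π a), ← C.sum_π, Finset.mul_sum]
  exact Finset.sum_eq_zero fun b hb => C.π_ne (by rw [Finset.mem_range] at hb; omega)

theorem ext_π {W : Type*} [AddCommGroup W] [Module k W] {f f' : V →ₗ[k] W}
    (h : ∀ a, f ∘ₗ C.π a = f' ∘ₗ C.π a) : f = f' := by
  refine LinearMap.ext fun x => ?_
  conv_lhs => rw [← Module.End.one_apply (R := k) x, ← C.sum_π]
  conv_rhs => rw [← Module.End.one_apply (R := k) x, ← C.sum_π]
  simp only [LinearMap.sum_apply, map_sum]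
  exact Finset.sum_congr rfl fun a _ => LinearMap.congr_fun (h a) x

/-- the sign -/
def σ : Module.End k V := ∑ a ∈ range C.L, (-1 : k) ^ a • C.π a

theorem σ_π (a : ℕ) : C.σ * C.π a = (-1 : k) ^ a • C.π a := by
  rw [σ, Finset.sum_mul]
  rcases lt_or_ge a C.L with h | h
  · rw [Finset.sum_eq_single a (fun b _ hb => by rw [smul_mul_assoc, C.π_ne hb, smul_zero])
      (fun h' => absurd (Finset.mem_range.2 h) h'), smul_mul_assoc, C.π_self]
  · simp [C.π_eq_zero h]

theorem π_σ (a : ℕ) : C.π a * C.σ = (-1 : k) ^ a • C.π a := by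
  rw [σ, Finset.mul_sum]
  rcases lt_or_ge a C.L with h | h
  · rw [Finset.sum_eq_single a (fun b _ hb => by rw [mul_smul_comm, C.π_ne hb.symm, smul_zero])
      (fun h' => absurd (Finset.mem_range.2 h) h'), mul_smul_comm, C.π_self]
  · simp [C.π_eq_zero h]

theorem ext_end {f f' : Module.End k V} (h : ∀ a, f * C.π a = f' * C.π a) : f = f' := C.ext_π h

theorem σ_σ : C.σ * C.σ = 1 := C.ext_end fun a => by
  rw [mul_assoc, C.σ_π, mul_smul_comm, C.σ_π, smul_smul, ← mul_pow, neg_one_mul, neg_neg, one_pow, one_smul, one_mul]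

theorem σ_d : C.σ * C.d = -(C.d * C.σ) := C.ext_end fun a => by
  rw [mul_assoc, C.d_π, ← mul_assoc, C.σ_π, smul_mul_assoc, neg_mul, mul_assoc, C.σ_π, mul_smul_comm, C.d_π,
    pow_succ, mul_neg, mul_one, neg_smul]

/-- A generalised inverse of the differential of degree `-1`. -/
theorem exists_g : ∃ g : Module.End k V, C.d * g * C.d = C.d ∧ C.d * g * g = 0 ∧
    (∀ a, C.π a * g = g * C.π (a + 1)) ∧ g * C.π 0 = 0 := by
  obtain ⟨s, hs⟩ := C.d.rangeRestrict.exists_rightInverse_of_surjective C.d.range_rangeRestrict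
  obtain ⟨g₀, hg₀⟩ := s.exists_extend
  have h₀ : C.d * g₀ * C.d = C.d := LinearMap.ext fun x => by
    have h1 : g₀ (C.d x) = s ⟨C.d x, x, rfl⟩ := LinearMap.congr_fun hg₀ ⟨C.d x, x, rfl⟩
    rw [Module.End.mul_apply, Module.End.mul_apply, h1]
    exact congrArg Subtype.val (LinearMap.congr_fun hs ⟨C.d x, x, rfl⟩)
  let g₁ := ∑ a ∈ range C.L, C.π a * g₀ * C.π (a + 1)
  have hl : ∀ a, C.π a * g₁ = C.π a * g₀ * C.π (a + 1) := fun a => by
    rw [Finset.mul_sum]
    rcases lt_or_ge a C.L with h | h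
    · rw [Finset.sum_eq_single a (fun b _ hb => by rw [← mul_assoc, ← mul_assoc, C.π_ne hb.symm, zero_mul, zero_mul])
        (fun h' => absurd (Finset.mem_range.2 h) h'), ← mul_assoc, ← mul_assoc, C.π_self]
    · rw [Finset.sum_eq_zero (fun b hb => ?_), C.π_eq_zero h, zero_mul, zero_mul]
      rw [← mul_assoc, ← mul_assoc, C.π_eq_zero h, zero_mul, zero_mul, zero_mul]
  have hr : ∀ a, g₁ * C.π (a + 1) = C.π a * g₀ * C.π (a + 1) := fun a => by
    rw [Finset.sum_mul]
    rcases lt_or_ge a C.L with h | h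
    · rw [Finset.sum_eq_single a (fun b _ hb => by rw [mul_assoc, C.π_ne (by omega), mul_zero])
        (fun h' => absurd (Finset.mem_range.2 h) h'), mul_assoc, C.π_self]
    · rw [Finset.sum_eq_zero (fun b hb => ?_), C.π_eq_zero h, zero_mul, zero_mul]
      rw [C.π_eq_zero (le_trans h (Nat.le_succ a)), mul_zero]
  have hg₁0 : g₁ * C.π 0 = 0 := by
    rw [Finset.sum_mul]
    exact Finset.sum_eq_zero fun b _ => by rw [mul_assoc, C.π_ne (Nat.succ_ne_zero b), mul_zero]
  have hcomm : ∀ a, C.π a * g₁ = g₁ * C.π (a + 1) := fun a => (hl a).trans (hr a).symm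
  have h₁ : C.d * g₁ * C.d = C.d := C.ext_end fun a => by
    simp only [mul_assoc] at h₀ ⊢
    rw [C.d_π, ← mul_assoc g₁, hr]
    simp only [mul_assoc]
    rw [← C.d_π, ← mul_assoc C.d (C.π a)]
    nth_rewrite 1 [C.d_π]
    rw [mul_assoc, ← mul_assoc C.d g₀, ← mul_assoc (C.d * g₀), mul_assoc C.d g₀, h₀, C.d_π, ← mul_assoc, C.π_self]
  have hP : ∀ a, C.π a * (C.d * g₁) = C.d * g₁ * C.π a := by
    intro a
    rcases a with _ | a
    · rw [← mul_assoc, C.π_zero_d, zero_mul, mul_assoc, hg₁0, mul_zero]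
    · rw [← mul_assoc, ← C.d_π, mul_assoc, hcomm, mul_assoc]
  have hdd : C.d * (1 - C.d * g₁) = C.d := by rw [mul_sub, mul_one, ← mul_assoc, C.d_d, zero_mul, sub_zero]
  refine ⟨(1 - C.d * g₁) * g₁, ?_, ?_, fun a => ?_, by rw [mul_assoc, hg₁0, mul_zero]⟩
  · rw [← mul_assoc, hdd, h₁]
  · rw [← mul_assoc C.d (1 - C.d * g₁), hdd, ← mul_assoc, mul_sub, mul_one, ← mul_assoc (C.d * g₁), h₁, sub_self,
      zero_mul]
  · rw [← mul_assoc, mul_sub, mul_one, hP, ← one_mul (C.π a), ← mul_assoc (C.d * g₁) 1, mul_one, ← sub_mul,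
      mul_assoc, hcomm, mul_assoc]

/-- the generalised inverse -/
noncomputable def g : Module.End k V := C.exists_g.choose

theorem d_g_d : C.d * C.g * C.d = C.d := C.exists_g.choose_spec.1

theorem d_g_g : C.d * C.g * C.g = 0 := C.exists_g.choose_spec.2.1

theorem π_g (a : ℕ) : C.π a * C.g = C.g * C.π (a + 1) := C.exists_g.choose_spec.2.2.1 a

theorem g_π_zero : C.g * C.π 0 = 0 := C.exists_g.choose_spec.2.2.2

/-- the idempotent onto harmonic vectors -/
noncomputable def e : Module.End k V := 1 - C.d * C.g - C.g * C.d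

theorem d_e : C.d * C.e = 0 := by
  rw [e, mul_sub, mul_sub, mul_one, ← mul_assoc, ← mul_assoc, C.d_g_d, C.d_d, zero_mul, sub_zero, sub_self]

theorem e_d : C.e * C.d = 0 := by
  rw [e, sub_mul, sub_mul, one_mul, C.d_g_d, sub_self, mul_assoc, C.d_d, mul_zero, sub_zero]

theorem e_e : C.e * C.e = C.e := by
  have h1 : C.e * (C.d * C.g) = 0 := by rw [← mul_assoc, C.e_d, zero_mul]
  have h2 : C.e * (C.g * C.d) = 0 := by
    rw [e, sub_mul, sub_mul, one_mul, ← mul_assoc (C.d * C.g), C.d_g_g, zero_mul, sub_zero, mul_assoc C.g C.d,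
      ← mul_assoc C.d C.g, C.d_g_d, sub_self]
  nth_rewrite 2 [e]
  rw [mul_sub, mul_sub, mul_one, h1, h2, sub_zero, sub_zero]

theorem π_e (a : ℕ) : C.π a * C.e = C.e * C.π a := by
  have h1 : C.π a * (C.d * C.g) = C.d * C.g * C.π a := by
    rcases a with _ | a
    · rw [← mul_assoc, C.π_zero_d, zero_mul, mul_assoc, C.g_π_zero, mul_zero]
    · rw [← mul_assoc, ← C.d_π, mul_assoc, C.π_g, mul_assoc]
  have h2 : C.π a * (C.g * C.d) = C.g * C.d * C.π a := by
    rw [← mul_assoc, C.π_g, mul_assoc, ← C.d_π, mul_assoc]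
  rw [e, mul_sub, mul_sub, mul_one, sub_mul, sub_mul, one_mul, h1, h2]

theorem σ_g : C.σ * C.g = -(C.g * C.σ) := C.ext_end fun a => by
  rw [neg_mul, mul_assoc C.g, C.σ_π, mul_smul_comm]
  rcases a with _ | a
  · rw [mul_assoc, C.g_π_zero, mul_zero, smul_zero, neg_zero]
  · rw [mul_assoc, ← C.π_g, ← mul_assoc, C.σ_π, smul_mul_assoc, pow_succ, mul_neg, mul_one, neg_smul, neg_neg]

theorem σ_e : C.σ * C.e = C.e * C.σ := C.ext_end fun a => by
  rw [mul_assoc C.e, C.σ_π, mul_smul_comm, mul_assoc, ← C.π_e, ← mul_assoc, C.σ_π, smul_mul_assoc]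

theorem π_eq_π_iff {a : ℕ} {z : V} : z ∈ LinearMap.range (C.π a) ↔ C.π a z = z :=
  ⟨fun ⟨y, hy⟩ => by rw [← hy, ← Module.End.mul_apply, C.π_self], fun h => ⟨z, h⟩⟩

/-- A cocycle differs from its harmonic part by a coboundary. -/
theorem sub_e_eq {z : V} (hd : C.d z = 0) : z - C.e z = C.d (C.g z) := by
  simp [e, hd]

end GDiff

section Tensor

variable {k : Type u} [Field k] {V : Type v} [AddCommGroup V] [Module k V] {U : Type v} [AddCommGroup U] [Module k U]
  (C : GDiff k V) (C' : GDiff k U)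

/-- the tensor product of endomorphisms -/
noncomputable abbrev tM (A : Module.End k V) (B : Module.End k U) : Module.End k (V ⊗[k] U) := TensorProduct.map A B

theorem tM_mul (A A' : Module.End k V) (B B' : Module.End k U) : tM A B * tM A' B' = tM (A * A') (B * B') :=
  (TensorProduct.map_mul ..).symm

theorem tM_zero_left (B : Module.End k U) : tM (0 : Module.End k V) B = 0 := TensorProduct.map_zero_left B

theorem tM_zero_right (A : Module.End k V) : tM A (0 : Module.End k U) = 0 := TensorProduct.map_zero_right A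

/-- the differential of the tensor product -/
noncomputable def tD : Module.End k (V ⊗[k] U) := tM C.d 1 + tM C.σ C'.d

/-- the projections of the tensor product -/
noncomputable def tπ (n : ℕ) : Module.End k (V ⊗[k] U) := ∑ p ∈ antidiagonal n, tM (C.π p.1) (C'.π p.2)

/-- the harmonic projection of the tensor product -/
noncomputable def tE : Module.End k (V ⊗[k] U) := tM C.e C'.e

/-- the homotopy -/
noncomputable def tH : Module.End k (V ⊗[k] U) := tM C.g 1 + tM (C.σ * C.e) C'.g

theorem tD_tH : tD C C' * tH C C' + tH C C' * tD C C' = 1 - tE C C' := by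
  have h1 : C.d * (C.σ * C.e) = 0 := by
    rw [C.σ_e, ← mul_assoc, C.d_e, zero_mul]
  have h2 : C.σ * C.e * C.d = 0 := by rw [mul_assoc, C.e_d, mul_zero]
  have h3 : C.σ * (C.σ * C.e) = C.e := by rw [← mul_assoc, C.σ_σ, one_mul]
  have h4 : C.σ * C.e * C.σ = C.e := by rw [C.σ_e, mul_assoc, C.σ_σ, mul_one]
  have h5 : tM (C.σ * C.g) C'.d + tM (C.g * C.σ) C'.d = 0 := by
    rw [← TensorProduct.map_add_left, C.σ_g, neg_add_cancel]
    exact TensorProduct.map_zero_left _
  have h6 : tM (C.d * C.g) (1 : Module.End k U) + tM (C.g * C.d) 1 = 1 - tM C.e 1 := by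
    rw [← TensorProduct.map_add_left, eq_sub_iff_add_eq, ← TensorProduct.map_add_left,
      show C.d * C.g + C.g * C.d + C.e = 1 by rw [GDiff.e]; abel]
    exact TensorProduct.map_one
  have h7 : tM C.e (C'.d * C'.g) + tM C.e (C'.g * C'.d) = tM C.e 1 - tE C C' := by
    rw [← TensorProduct.map_add_right, eq_sub_iff_add_eq, tE, ← TensorProduct.map_add_right,
      show C'.d * C'.g + C'.g * C'.d + C'.e = 1 by rw [GDiff.e]; abel]
  rw [tD, tH]
  simp only [add_mul, mul_add, tM_mul, mul_one, one_mul, h1, h2, h3, h4, tM_zero_left, zero_add, add_zero]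
  calc _ = (tM (C.d * C.g) (1 : Module.End k U) + tM (C.g * C.d) 1) + (tM (C.σ * C.g) C'.d + tM (C.g * C.σ) C'.d)
        + (tM C.e (C'.d * C'.g) + tM C.e (C'.g * C'.d)) := by abel
    _ = _ := by rw [h5, h6, h7]; abel

theorem tD_tE : tD C C' * tE C C' = 0 := by
  rw [tD, tE, add_mul, tM_mul, tM_mul, C.d_e, C'.d_e, tM_zero_left, tM_zero_right, add_zero]

theorem tE_tD : tE C C' * tD C C' = 0 := by
  rw [tD, tE, mul_add, tM_mul, tM_mul, C.e_d, C'.e_d, tM_zero_left, tM_zero_right, add_zero]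

theorem tE_tπ (n : ℕ) : tE C C' * tπ C C' n = tπ C C' n * tE C C' := by
  rw [tπ, tE, Finset.mul_sum, Finset.sum_mul]
  exact Finset.sum_congr rfl fun p _ => by rw [tM_mul, tM_mul, C.π_e, C'.π_e]

theorem tπ_self (n : ℕ) : tπ C C' n * tπ C C' n = tπ C C' n := by
  classical
  rw [tπ, Finset.sum_mul]
  refine Finset.sum_congr rfl fun p hp => ?_
  rw [Finset.mul_sum, Finset.sum_eq_single p, tM_mul, C.π_self, C'.π_self]
  · intro q hq hne
    rw [tM_mul, C.π_ne (a := p.1) (b := q.1), tM_zero_left]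
    intro h
    rw [Finset.mem_antidiagonal] at hp hq
    exact hne (Prod.ext h.symm (by omega))
  · exact fun h => absurd hp h

theorem tπ_zero_tD : tπ C C' 0 * tD C C' = 0 := by
  rw [tπ, Finset.Nat.antidiagonal_zero, Finset.sum_singleton, tD, mul_add, tM_mul, tM_mul, C.π_zero_d, C'.π_zero_d,
    tM_zero_left, tM_zero_right, add_zero]

theorem tD_tπ (n : ℕ) : tD C C' * tπ C C' n = tπ C C' (n + 1) * tD C C' := by
  simp only [tπ, tD, Finset.mul_sum, Finset.sum_mul, add_mul, mul_add, tM_mul, one_mul, mul_one,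
    Finset.sum_add_distrib]
  congr 1
  · rw [Finset.Nat.sum_antidiagonal_succ, C.π_zero_d, tM_zero_left, zero_add]
    exact Finset.sum_congr rfl fun p _ => by rw [C.d_π]
  · rw [Finset.Nat.sum_antidiagonal_succ', C'.π_zero_d, tM_zero_right, zero_add]
    exact Finset.sum_congr rfl fun p _ => by rw [C.σ_π, C.π_σ, C'.d_π]

/-- A cocycle of the tensor product is its harmonic part up to a coboundary. -/
theorem sub_tE_eq {z : V ⊗[k] U} (hd : tD C C' z = 0) : z - tE C C' z = tD C C' (tH C C' z) := by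
  have h := LinearMap.congr_fun (tD_tH C C') z
  simp only [LinearMap.add_apply, Module.End.mul_apply, LinearMap.sub_apply, Module.End.one_apply, hd, map_zero,
    add_zero] at h
  exact h.symm

theorem eq_tE_of_zero {z : V ⊗[k] U} (hd : tD C C' z = 0) (hz : tπ C C' 0 z = z) : tE C C' z = z := by
  have h := congrArg (tπ C C' 0) (sub_tE_eq C C' hd)
  rw [← Module.End.mul_apply, tπ_zero_tD, LinearMap.zero_apply, map_sub, hz, ← Module.End.mul_apply, ← tE_tπ,
    Module.End.mul_apply, hz, sub_eq_zero] at h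
  exact h.symm

theorem sub_tE_mem {n : ℕ} {z : V ⊗[k] U} (hd : tD C C' z = 0) (hz : tπ C C' (n + 1) z = z) :
    ∃ w, tπ C C' n w = w ∧ z - tE C C' z = tD C C' w := by
  refine ⟨tπ C C' n (tH C C' z), by rw [← Module.End.mul_apply, tπ_self], ?_⟩
  rw [← Module.End.mul_apply, tD_tπ, Module.End.mul_apply, ← sub_tE_eq C C' hd, map_sub, hz,
    ← Module.End.mul_apply (tπ C C' (n + 1)), ← tE_tπ, Module.End.mul_apply, hz]

/-- the harmonic vectors in a spot split up -/
noncomputable def harmonicEquiv (n : ℕ) : LinearMap.range (tE C C' * tπ C C' n) ≃ₗ[k]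
    ∀ p : antidiagonal n, LinearMap.range (C.e * C.π p.1.1) ⊗[k] LinearMap.range (C'.e * C'.π p.1.2) := by
  classical
  exact (LinearEquiv.ofEq _ (LinearMap.range (∑ p : antidiagonal n, tM (C.e * C.π p.1.1) (C'.e * C'.π p.1.2)))
      (by
        rw [tπ, tE, Finset.mul_sum, ← Finset.sum_coe_sort]
        simp only [tM_mul])).trans
    ((rangeSumEquiv (fun p : antidiagonal n => tM (C.e * C.π p.1.1) (C'.e * C'.π p.1.2)) fun p q => by
        rw [tM_mul]
        by_cases h : p = q
        · subst h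
          rw [if_pos rfl, mul_assoc, ← mul_assoc (C.π _), C.π_e, ← mul_assoc, ← mul_assoc, C.e_e, mul_assoc, C.π_self,
            mul_assoc, ← mul_assoc (C'.π _), C'.π_e, ← mul_assoc, ← mul_assoc, C'.e_e, mul_assoc, C'.π_self]
        · rw [if_neg h, mul_assoc, ← mul_assoc (C.π _), C.π_e, mul_assoc C.e (C.π p.1.1), C.π_ne fun e =>
            h (Subtype.ext (Prod.ext e (by
              have := Finset.mem_antidiagonal.1 p.2; have := Finset.mem_antidiagonal.1 q.2; omega)))]
          simp).trans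
      (LinearEquiv.piCongrRight fun p => (rangeMapEquiv _ _).symm))

theorem subsingleton_harmonic_iff (n : ℕ) : Subsingleton (LinearMap.range (tE C C' * tπ C C' n)) ↔
    ∀ a b : ℕ, a + b = n → Subsingleton (LinearMap.range (C.e * C.π a)) ∨ Subsingleton (LinearMap.range (C'.e * C'.π b)) := by
  rw [(harmonicEquiv C C' n).toEquiv.subsingleton_congr]
  constructor
  · intro h a b hab
    rw [← subsingleton_tensor_iff (k := k)]
    classical
    exact ⟨fun x y => by
      have := congrFun (h.elim (Function.update 0 ⟨(a, b), Finset.mem_antidiagonal.2 hab⟩ x)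
        (Function.update 0 ⟨(a, b), Finset.mem_antidiagonal.2 hab⟩ y)) ⟨(a, b), Finset.mem_antidiagonal.2 hab⟩
      simpa using this⟩
  · intro h
    have : ∀ p : antidiagonal n, Subsingleton
        (LinearMap.range (C.e * C.π p.1.1) ⊗[k] LinearMap.range (C'.e * C'.π p.1.2)) := fun p =>
      subsingleton_tensor_iff.2 (h _ _ (Finset.mem_antidiagonal.1 p.2))
    infer_instance

theorem finrank_harmonic (n : ℕ) (hV : ∀ a, Module.Finite k (LinearMap.range (C.e * C.π a)))
    (hU : ∀ b, Module.Finite k (LinearMap.range (C'.e * C'.π b))) :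
    Module.finrank k (LinearMap.range (tE C C' * tπ C C' n)) = ∑ p ∈ antidiagonal n,
      Module.finrank k (LinearMap.range (C.e * C.π p.1)) * Module.finrank k (LinearMap.range (C'.e * C'.π p.2)) := by
  rw [(harmonicEquiv C C' n).finrank_eq, Module.finrank_pi_fintype, ← Finset.sum_coe_sort (antidiagonal n)]
  exact Finset.sum_congr rfl fun p _ => Module.finrank_tensorProduct

end Tensor

end GrothLib.Segre
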