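import Groth.Agent.Lib.Segre.Basic
import Groth.Agent.Lib.Segre.Normalization
import Mathlib.RingTheory.TensorProduct.MvPolynomial
import Mathlib.RingTheory.AlgebraicIndependent.TranscendenceBasis
import Mathlib.RingTheory.Algebraic.Integral
import Mathlib.RingTheory.Flat.Basic

/-! The dimension of a Segre product. -/

universe u

open scoped TensorProduct
open MvPolynomial

namespace GrothLib.Segre

variable {k : Type u} [Field k]

/-- The subalgebra `k[x_i y_j]` of `k[x,y]` has dimension `r + s - 1`. -/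
theorem ringKrullDim_segre_polynomial (r s : ℕ) :
    ringKrullDim (aeval (fun p : Fin (r + 1) × Fin (s + 1) =>
      (X (Sum.inl p.1) * X (Sum.inr p.2) : MvPolynomial (Fin (r + 1) ⊕ Fin (s + 1)) k))
        : MvPolynomial (Fin (r + 1) × Fin (s + 1)) k →ₐ[k] _).range = ((r + 1 + s : ℕ) : WithBot ℕ∞) := by
  classical
  let w : Fin (r + 1) × Fin (s + 1) → MvPolynomial (Fin (r + 1) ⊕ Fin (s + 1)) k := fun p => X (Sum.inl p.1) * X (Sum.inr p.2)
  let A : Subalgebra k (MvPolynomial (Fin (r + 1) ⊕ Fin (s + 1)) k) := (aeval w : MvPolynomial (Fin (r + 1) × Fin (s + 1)) k →ₐ[k] MvPolynomial (Fin (r + 1) ⊕ Fin (s + 1)) k).range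
  have : Algebra.FiniteType k A :=
    Algebra.FiniteType.of_surjective (aeval w).rangeRestrict (AlgHom.rangeRestrict_surjective _)
  let v : Fin (r + 1) ⊕ Fin s → A :=
    Sum.elim (fun i => ⟨w (i, 0), X (i, 0), aeval_X _ _⟩) (fun j => ⟨w (0, j.succ), X (0, j.succ), aeval_X _ _⟩)
  let L := FractionRing (MvPolynomial (Fin (r + 1) ⊕ Fin s) k)
  let x : Fin (r + 1) ⊕ Fin s → L := fun i => algebraMap (MvPolynomial (Fin (r + 1) ⊕ Fin s) k) L (X i)
  have hx : AlgebraicIndependent k x :=
    (algebraicIndependent_X (Fin (r + 1) ⊕ Fin s) k).map'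
      (f := IsScalarTower.toAlgHom k (MvPolynomial (Fin (r + 1) ⊕ Fin s) k) L) (IsFractionRing.injective _ _)
  have hx0 : x (Sum.inl 0) ≠ 0 := by
    simpa [x] using (IsFractionRing.injective (MvPolynomial (Fin (r + 1) ⊕ Fin s) k) L).ne
      (X_ne_zero (R := k) (Sum.inl (0 : Fin (r + 1)) : Fin (r + 1) ⊕ Fin s))
  let τ : MvPolynomial (Fin (r + 1) ⊕ Fin (s + 1)) k →ₐ[k] L := aeval (Sum.elim (fun i => x (Sum.inl i))
    (Fin.cases 1 fun j => x (Sum.inr j) / x (Sum.inl 0)))
  have hv : AlgebraicIndependent k v := by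
    refine AlgebraicIndependent.of_comp (τ.comp A.val) ?_
    convert hx using 1
    funext i
    rcases i with i | j
    · simp only [Function.comp_apply, AlgHom.comp_apply, Subalgebra.coe_val, v, w, Sum.elim_inl, τ,
        map_mul, aeval_X, Sum.elim_inr, Fin.cases_zero, mul_one]
    · simp only [Function.comp_apply, AlgHom.comp_apply, Subalgebra.coe_val, v, w, Sum.elim_inr, τ,
        map_mul, aeval_X, Sum.elim_inl, Fin.cases_succ, mul_div_cancel₀ _ hx0]
  have halg : Algebra.IsAlgebraic (Algebra.adjoin k (Set.range v)) A := by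
    let K := Algebra.adjoin k (Set.range v)
    let C := Subalgebra.algebraicClosure K A
    suffices h : ∀ a : A, a ∈ C from ⟨fun a => h a⟩
    have hgen : ∀ p, (⟨w p, X p, aeval_X _ _⟩ : A) ∈ C := by
      intro ⟨i, j⟩
      let a : K := ⟨v (Sum.inl 0), Algebra.subset_adjoin ⟨_, rfl⟩⟩
      let b : Fin (s + 1) → K := Fin.cases a fun j => ⟨v (Sum.inr j), Algebra.subset_adjoin ⟨_, rfl⟩⟩
      let c : K := ⟨v (Sum.inl i), Algebra.subset_adjoin ⟨_, rfl⟩⟩
      have ha : a ≠ 0 := fun h => by
        have := congrArg (fun z : K => ((z : A) : MvPolynomial (Fin (r + 1) ⊕ Fin (s + 1)) k)) h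
        simp only [a, v, w, Sum.elim_inl] at this
        exact mul_ne_zero (X_ne_zero _) (X_ne_zero _) this
      letI : CommRing K := Subalgebra.toCommRing K
      refine ⟨Polynomial.C a * Polynomial.X + Polynomial.C (-(c * b j)), fun h => ha ?_, ?_⟩
      · simpa using congrArg (fun q : Polynomial K => q.coeff 1) h
      · rw [map_add, map_mul, Polynomial.aeval_C, Polynomial.aeval_X, Polynomial.aeval_C, map_neg,
          add_neg_eq_zero]
        apply Subtype.ext
        induction j using Fin.cases <;>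
          simp only [a, b, c, v, w, Sum.elim_inl, Sum.elim_inr, Fin.cases_zero, Fin.cases_succ,
            Subalgebra.algebraMap_def, Algebra.algebraMap_self, RingHom.id_apply, MulMemClass.coe_mul, map_mul] <;> ring
    rintro ⟨_, q, rfl⟩
    have : ((aeval w).rangeRestrict : MvPolynomial (Fin (r + 1) × Fin (s + 1)) k →ₐ[k] A).range ≤
        C.restrictScalars k := by
      suffices h : (Algebra.adjoin k (Set.range (X (R := k) (σ := Fin (r + 1) × Fin (s + 1))))).map
          (aeval w).rangeRestrict ≤ C.restrictScalars k by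
        simpa [MvPolynomial.adjoin_range_X, Algebra.map_top] using h
      rw [AlgHom.map_adjoin, Algebra.adjoin_le_iff]
      rintro _ ⟨_, ⟨p, rfl⟩, rfl⟩
      show (aeval w).rangeRestrict (X p) ∈ C
      have hp : (aeval w).rangeRestrict (X (R := k) p) = ⟨w p, X (R := k) p, aeval_X _ _⟩ := Subtype.ext (aeval_X w p)
      rw [hp]
      exact hgen p
    exact this ⟨q, rfl⟩
  obtain ⟨n, hn, hn'⟩ := GrothLib.Dim.exists_nat_trdeg_eq_and_ringKrullDim_eq k A
  have h1 : Cardinal.lift.{u} (Cardinal.mk (Fin (r + 1) ⊕ Fin s)) ≤ Cardinal.lift.{0} (Algebra.trdeg k A) :=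
    hv.lift_cardinalMk_le_trdeg
  have h2 : Algebra.trdeg k A ≤ Cardinal.mk (Set.range v) := Algebra.IsAlgebraic.trdeg_le_cardinalMk k (Set.range v)
  rw [hn] at h1 h2
  simp only [Cardinal.mk_fintype, Set.card_range_of_injective hv.injective, Fintype.card_sum,
    Fintype.card_fin, Cardinal.lift_natCast, Nat.cast_le] at h1 h2
  rw [show n = r + 1 + s by omega] at hn'
  exact hn'

variable {R S : Type u} [CommRing R] [Algebra k R] (𝒜 : ℤ → Submodule k R)
  [GradedAlgebra 𝒜] [CommRing S] [Algebra k S] (ℬ : ℤ → Submodule k S) [GradedAlgebra ℬ]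

theorem monomial_eq_prod_multiset {σ : Type*} (α : σ →₀ ℕ) (c : k) :
    monomial α c = c • ((Finsupp.toMultiset α).map X).prod := by
  rw [monomial_eq, Finsupp.toMultiset_map, Finsupp.prod_toMultiset, Finsupp.prod_mapDomain_index
    (by simp) (by simp [pow_add]), smul_eq_C_mul]

theorem prod_map_mem_graded {ι : Type*} {d : ℤ} {f : ι → R} (hf : ∀ i, f i ∈ 𝒜 d) (α : Multiset ι) :
    (α.map f).prod ∈ 𝒜 ((α.card : ℤ) * d) := by
  induction α using Multiset.induction_on with
  | empty => simpa using SetLike.GradedOne.one_mem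
  | cons a α ih =>
    rw [Multiset.map_cons, Multiset.prod_cons, Multiset.card_cons,
      show ((α.card + 1 : ℕ) : ℤ) * d = d + (α.card : ℤ) * d by push_cast; ring]
    exact SetLike.mul_mem_graded (hf a) ih

theorem ringKrullDim_segre (hposR : ∀ n : ℤ, n < 0 → 𝒜 n = ⊥)
    (h0R : 𝒜 0 = Submodule.span k {(1 : R)}) [Algebra.FiniteType k R]
    (hposS : ∀ n : ℤ, n < 0 → ℬ n = ⊥) (h0S : ℬ 0 = Submodule.span k {(1 : S)})
    [Algebra.FiniteType k S] {T : Type u} [CommRing T] [Algebra k T] (𝒯 : ℤ → Submodule k T)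
    [GradedAlgebra 𝒯] (ψ : T →ₐ[k] R ⊗[k] S) (hψ : Function.Injective ψ)
    (hdeg : ∀ n : ℤ, (𝒯 n).map ψ.toLinearMap =
      Submodule.span k {x : R ⊗[k] S | ∃ a ∈ 𝒜 n, ∃ b ∈ ℬ n, x = a ⊗ₜ[k] b})
    (r s : ℕ) (hr : ringKrullDim R = ((r + 1 : ℕ) : WithBot ℕ∞))
    (hs : ringKrullDim S = ((s + 1 : ℕ) : WithBot ℕ∞)) :
    ringKrullDim T = ((r + 1 + s : ℕ) : WithBot ℕ∞) := by
  classical
  obtain ⟨e, he, hR⟩ := exists_normalization 𝒜 hposR h0R _ hr
  obtain ⟨e', he', hS⟩ := exists_normalization ℬ hposS h0S _ hs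
  obtain ⟨f, hf, hfi, hff⟩ := hR e' he'
  obtain ⟨g, hg, hgi, hgf⟩ := hS e he
  rw [mul_comm e' e] at hg
  let d : ℤ := ((e * e' : ℕ) : ℤ)
  have hd : d ≠ 0 := by
    have := Nat.mul_pos he he'
    simp only [d]; omega
  let φR : MvPolynomial (Fin (r + 1)) k →ₐ[k] R := aeval f
  let φS : MvPolynomial (Fin (s + 1)) k →ₐ[k] S := aeval g
  let Q := MvPolynomial (Fin (r + 1)) k ⊗[k] MvPolynomial (Fin (s + 1)) k
  let j : Q →ₐ[k] R ⊗[k] S := Algebra.TensorProduct.map φR φS
  have hji : Function.Injective j :=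
    TensorProduct.map_injective_of_flat_flat φR.toLinearMap φS.toLinearMap hfi hgi
  have hjf : j.toRingHom.Finite :=
    RingHom.Finite.tensorProductMap (f := φR) (g := φS) hff hgf
  have hT := range_eq_segre 𝒜 ℬ 𝒯 ψ hdeg
  have hz : ∀ p : Fin (r + 1) × Fin (s + 1), ∃ t, ψ t = f p.1 ⊗ₜ g p.2 := fun p =>
    hT.ge (Submodule.subset_span ⟨d, _, hf p.1, _, hg p.2, rfl⟩)
  choose z hz using hz
  let θ : MvPolynomial (Fin (r + 1) × Fin (s + 1)) k →ₐ[k] Q := aeval fun p => X p.1 ⊗ₜ X p.2
  let φ : MvPolynomial (Fin (r + 1) × Fin (s + 1)) k →ₐ[k] T := aeval z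
  have hcomm : ψ.comp φ = j.comp θ := MvPolynomial.algHom_ext fun p => by
    simp only [AlgHom.comp_apply, φ, θ, aeval_X, hz]
    show _ = Algebra.TensorProduct.map φR φS (X p.1 ⊗ₜ[k] X p.2)
    rw [Algebra.TensorProduct.map_tmul]; exact (congr_arg₂ _ (aeval_X f _) (aeval_X g _)).symm
  have hmon : ∀ (α : Multiset (Fin (r + 1))) (β : Multiset (Fin (s + 1))), α.card = β.card →
      (α.map (X (R := k))).prod ⊗ₜ[k] (β.map (X (R := k))).prod ∈ θ.range := by
    intro α
    induction α using Multiset.induction_on with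
    | empty =>
      intro β h
      rw [Multiset.card_eq_zero.1 h.symm]
      simp only [Multiset.map_zero, Multiset.prod_zero, ← Algebra.TensorProduct.one_def]
      exact one_mem _
    | cons a α ih =>
      intro β h
      obtain ⟨b, hb⟩ := Multiset.card_pos_iff_exists_mem.1 (show 0 < β.card by rw [← h]; simp)
      obtain ⟨β', rfl⟩ := Multiset.exists_cons_of_mem hb
      simp only [Multiset.card_cons, add_left_inj] at h
      rw [Multiset.map_cons, Multiset.map_cons, Multiset.prod_cons, Multiset.prod_cons,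
        ← Algebra.TensorProduct.tmul_mul_tmul]
      exact mul_mem ⟨X (a, b), aeval_X _ _⟩ (ih β' h)
  have hjprod : ∀ (α : Multiset (Fin (r + 1))) (β : Multiset (Fin (s + 1))),
      j ((α.map X).prod ⊗ₜ (β.map X).prod) = (α.map f).prod ⊗ₜ (β.map g).prod := fun α β => by
    show Algebra.TensorProduct.map φR φS ((α.map X).prod ⊗ₜ[k] (β.map X).prod) = _
    rw [Algebra.TensorProduct.map_tmul, map_multiset_prod, map_multiset_prod, Multiset.map_map,
      Multiset.map_map]
    exact congr_arg₂ _ (congrArg _ (Multiset.map_congr rfl fun i _ => aeval_X f i))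
      (congrArg _ (Multiset.map_congr rfl fun i _ => aeval_X g i))
  have hdiag : ∀ q, diag 𝒜 ℬ (j q) ∈ LinearMap.range (j.comp θ).toLinearMap := by
    intro q
    induction q using TensorProduct.induction_on with
    | zero => simp
    | add a b ha hb => rw [map_add, map_add]; exact add_mem ha hb
    | tmul p p' =>
      induction p using MvPolynomial.induction_on' with
      | add a b ha hb => rw [TensorProduct.add_tmul, map_add, map_add]; exact add_mem ha hb
      | monomial α c =>
        induction p' using MvPolynomial.induction_on' with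
        | add a b ha hb => rw [TensorProduct.tmul_add, map_add, map_add]; exact add_mem ha hb
        | monomial β c' =>
          rw [monomial_eq_prod_multiset, monomial_eq_prod_multiset, TensorProduct.tmul_smul,
            ← TensorProduct.smul_tmul', map_smul, map_smul, map_smul, map_smul]
          refine Submodule.smul_mem _ _ (Submodule.smul_mem _ _ ?_)
          rw [hjprod, diag_tmul 𝒜 ℬ (prod_map_mem_graded 𝒜 hf _) (prod_map_mem_graded ℬ hg _)]
          split_ifs with h
          · obtain ⟨u, hu⟩ := hmon (Finsupp.toMultiset α) (Finsupp.toMultiset β)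
              (Nat.cast_injective (R := ℤ) (mul_right_cancel₀ hd h))
            exact ⟨u, by
              show j (θ u) = _
              rw [show θ u = _ from hu, hjprod]⟩
          · exact zero_mem _
  algebraize [φ.toRingHom]
  have hφf : IsNoetherian (MvPolynomial (Fin (r + 1) × Fin (s + 1)) k) T := by
    haveI : IsNoetherianRing Q :=
      isNoetherianRing_of_ringEquiv _ (MvPolynomial.tensorEquivSum k (Fin (r + 1)) (Fin (s + 1))
        k).toRingEquiv.symm
    refine isNoetherian_segre 𝒜 ℬ 𝒯 ψ hψ hdeg j.toRingHom hjf θ.toRingHom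
      (fun a => (AlgHom.congr_fun hcomm a).symm) fun q => ?_
    obtain ⟨u, hu⟩ := hdiag q
    exact ⟨u, (AlgHom.congr_fun hcomm u).trans hu⟩
  let A := φ.range
  let : Algebra A T := A.toAlgebra
  have : Module.Finite A T := by
    have h : φ.toRingHom.Finite := inferInstanceAs (Module.Finite _ T)
    have h' : (A.val : A →ₐ[k] T).toRingHom.Finite :=
      RingHom.Finite.of_comp_finite (f := φ.rangeRestrict.toRingHom) h
    exact h'
  rw [GrothLib.Dim.ringKrullDim_eq_of_isIntegral (R := A) (S := T) Subtype.val_injective]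
  let ε := MvPolynomial.tensorEquivSum k (Fin (r + 1)) (Fin (s + 1)) k
  have e1 : A.map ψ = θ.range.map j := by rw [← AlgHom.range_comp, ← AlgHom.range_comp, hcomm]
  have hεθ : ε.toAlgHom.comp θ = aeval (fun p : Fin (r + 1) × Fin (s + 1) =>
      (X (Sum.inl p.1) * X (Sum.inr p.2) : MvPolynomial (Fin (r + 1) ⊕ Fin (s + 1)) k)) :=
    MvPolynomial.algHom_ext fun p => by simp [θ, ε]
  have e2 : θ.range.map ε.toAlgHom = (aeval (fun p : Fin (r + 1) × Fin (s + 1) =>
      (X (Sum.inl p.1) * X (Sum.inr p.2) : MvPolynomial (Fin (r + 1) ⊕ Fin (s + 1)) k))).range := by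
    rw [← AlgHom.range_comp, hεθ]
  rw [ringKrullDim_eq_of_ringEquiv ((Subalgebra.equivMapOfInjective A ψ hψ).toRingEquiv.trans
      ((Subalgebra.equivOfEq _ _ e1).toRingEquiv.trans
        ((Subalgebra.equivMapOfInjective θ.range j hji).toRingEquiv.symm.trans
          ((Subalgebra.equivMapOfInjective θ.range ε.toAlgHom ε.injective).toRingEquiv.trans
            (Subalgebra.equivOfEq _ _ e2).toRingEquiv))))]
  exact ringKrullDim_segre_polynomial r s

end GrothLib.Segre
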