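import Groth.Agent.Lib.Segre.OneDim
import Groth.Agent.Lib.Segre.GorTools
import Groth.Agent.Lib.Segre.CMRing
import Groth.Agent.Lib.GrLC.CanonGor
import Groth.Agent.Lib.Gor.Quotient
import Groth.Agent.Lib.Gor.Liaison
import Groth.Agent.Lib.GorEquiv.Basic
import Groth.Agent.S18672

/-!
# One-dimensional standard graded rings: regular elements, and the socle of a Gorenstein one
-/

universe u

open DirectSum

namespace GrothLib.Segre

open GrothLib.GrLC
open _root_.GrLC (GMod StarInjRes)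

noncomputable section

variable {k R : Type u} [Field k] [CommRing R] [Algebra k R] {𝒜 : ℤ → Submodule k R} [GradedAlgebra 𝒜]
  [Algebra.FiniteType k R] [Nontrivial R]
  (hpos : ∀ n : ℤ, n < 0 → 𝒜 n = ⊥) (h0 : 𝒜 0 = Submodule.span k {(1 : R)})
  (hstd : Ideal.span (⋃ n ∈ Set.Ioi (0 : ℤ), (𝒜 n : Set R)) = Ideal.span ((𝒜 1 : Submodule k R) : Set R))
  {m : HomogeneousIdeal 𝒜} (hm : m.toIdeal = Ideal.span (⋃ n ∈ Set.Ioi (0 : ℤ), (𝒜 n : Set R)))
  (hdim : ringKrullDim R = 1)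

include hpos h0 hm hdim in
/-- A homogeneous regular element of positive degree. -/
theorem exists_regular_homogeneous [LocCoh.IsCohenMacaulayRing R] :
    ∃ (q : ℕ) (f : R), 0 < q ∧ f ∈ 𝒜 (q : ℤ) ∧ ∀ x, f * x = 0 → x = 0 := by
  haveI := isMaximal hpos h0 hm
  haveI : m.toIdeal.IsPrime := Ideal.IsMaximal.isPrime inferInstance
  let I := starInjRes 𝒜 𝒜
  have hd : ringKrullDim R = ((1 : ℕ) : WithBot ℕ∞) := hdim.trans Nat.cast_one.symm
  have hc := conc_ring hpos h0 hm I hd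
  obtain ⟨l, hl⟩ := exists_hspan (𝒜 := 𝒜) (a := m)
  let X := gmod 𝒜 (agr 𝒜)
  haveI : Module.Finite R X.carrier := inferInstanceAs (Module.Finite R R)
  haveI : IsNoetherianRing R := Algebra.FiniteType.isNoetherianRing k R
  obtain ⟨θ, hθ, hreg, -⟩ := exists_params hpos h0 hm hl 1 X inferInstance
    (fun i hi g => (Hcomp_eq_bot_iff_van (resAgr I) hl i g).1 (hc.vanish i hi.ne g))
    ((Module.supportDim_le_ringKrullDim _ _).trans
      (le_of_eq (ringKrullDim_localization (pos' hpos) (isStarLocal_irrel hpos h0 hm) hd)))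
  rw [List.ofFn_succ, RingTheory.Sequence.isWeaklyRegular_cons_iff] at hreg
  have hr : IsSMulRegular R (θ 0).val := hreg.1
  refine ⟨(θ 0).deg.toNat, (θ 0).val, by have := hθ 0; omega, ?_, fun x hx => hr (hx.trans (mul_zero _).symm)⟩
  rw [Int.toNat_of_nonneg (hθ 0).le]
  exact (θ 0).mem

include hpos h0 hstd hm in
omit [Nontrivial R] in
theorem piece_le_pow : ∀ g : ℕ, ∀ z ∈ 𝒜 (g : ℤ), z ∈ m.toIdeal ^ g := by
  intro g
  induction g with
  | zero => intro z _; rw [pow_zero, Ideal.one_eq_top]; exact Submodule.mem_top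
  | succ g ih =>
    intro z hz
    have hz' : z ∈ Ideal.span ((𝒜 1 : Submodule k R) : Set R) := hstd.le (Ideal.subset_span
      (Set.mem_iUnion₂.2 ⟨((g + 1 : ℕ) : ℤ), by simp only [Set.mem_Ioi]; omega, hz⟩))
    rw [← cmp_of_mem 𝒜 hz]
    clear hz
    suffices h : ∀ y ∈ Ideal.span ((𝒜 1 : Submodule k R) : Set R), ∀ c,
        cmp 𝒜 ((g + 1 : ℕ) : ℤ) (c * y) ∈ m.toIdeal ^ (g + 1) by
      simpa using h z hz' 1
    intro y hy
    induction hy using Submodule.span_induction with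
    | mem y hy =>
      intro c
      rw [← smul_eq_mul c y, cmp_smul_mem (𝒜 := 𝒜) 𝒜 c hy, smul_eq_mul,
        show ((g + 1 : ℕ) : ℤ) - 1 = (g : ℤ) by push_cast; ring, pow_succ]
      exact Ideal.mul_mem_mul (ih _ (cmp_mem 𝒜 _ c))
        (hm.ge (Ideal.subset_span (Set.mem_iUnion₂.2 ⟨1, (one_pos : (0 : ℤ) < 1), hy⟩)))
    | zero => intro c; rw [mul_zero, map_zero]; exact zero_mem _
    | add u v _ _ hu hv => intro c; rw [mul_add, map_add]; exact add_mem (hu c) (hv c)
    | smul e u _ hu => intro c; rw [smul_eq_mul, ← mul_assoc]; exact hu (c * e)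

include hpos h0 hstd hm hdim in
/-- One one-dimensional piece in positive degree forces all of them to be one-dimensional. -/
theorem exists_line [LocCoh.IsCohenMacaulayRing R] {d : ℕ} (hd : 0 < d) {z : R}
    (hR : 𝒜 (d : ℤ) ≤ Submodule.span k {z}) : ∃ a ∈ 𝒜 1, ¬ IsNilpotent a ∧ 𝒜 1 ≤ Submodule.span k {a} := by
  obtain ⟨a, ha, hnil⟩ := exists_not_isNilpotent hpos h0 hstd hm hdim
  have hpow : ∀ i : ℕ, a ^ i ∈ 𝒜 (i : ℤ) := fun i => by simpa using SetLike.pow_mem_graded i ha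
  have hane : a ^ d ≠ 0 := fun h => hnil ⟨d, h⟩
  obtain ⟨α, hα⟩ := Submodule.mem_span_singleton.1 (hR (hpow d))
  have hline : ∀ r ∈ 𝒜 (d : ℤ), ∃ c : k, r = c • a ^ d := fun r hr => by
    obtain ⟨c, rfl⟩ := Submodule.mem_span_singleton.1 (hR hr)
    have hα0 : α ≠ 0 := fun h => hane (by rw [← hα, h, zero_smul])
    exact ⟨c / α, by rw [← hα, smul_smul, div_mul_cancel₀ _ hα0]⟩
  obtain ⟨q, f, hq, hfd, hf⟩ := exists_regular_homogeneous hpos h0 hm hdim
  have hreg : ∀ r : R, a * r = 0 → r = 0 := fun r hr => by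
    obtain ⟨N, hN⟩ : ∃ N, m.toIdeal ^ N ≤ (⊥ : Submodule R R).colon {r} := by
      haveI : IsNoetherianRing R := Algebra.FiniteType.isNoetherianRing k R
      refine Ideal.exists_pow_le_of_le_radical_of_fg ?_ (IsNoetherian.noetherian _)
      rw [hm, hstd, Ideal.span_le]
      intro b hb
      refine ⟨d, Submodule.mem_colon_singleton.2 ((Submodule.mem_bot R).2 ?_)⟩
      obtain ⟨c, hc⟩ := hline (b ^ d) (by simpa using SetLike.pow_mem_graded d hb)
      rw [smul_eq_mul, hc, smul_mul_assoc,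
        show a ^ d * r = a ^ (d - 1) * (a * r) by rw [← mul_assoc, ← pow_succ, Nat.sub_add_cancel hd],
        hr, mul_zero, smul_zero]
    by_cases hfm : f ∈ m.toIdeal
    · have h1 : f ^ N * r = 0 :=
        (Submodule.mem_bot R).1 (Submodule.mem_colon_singleton.1 (hN (Ideal.pow_mem_pow hfm N)))
      clear hN
      induction N with
      | zero => rwa [pow_zero, one_mul] at h1
      | succ N ih => exact ih (hf _ (by rwa [pow_succ', mul_assoc] at h1))
    · exact absurd (hm.ge (Ideal.subset_span (Set.mem_iUnion₂.2 ⟨(q : ℤ), by simp only [Set.mem_Ioi]; omega, hfd⟩))) hfm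
  refine ⟨a, ha, hnil, fun x hx => ?_⟩
  obtain ⟨c, hc⟩ := hline (a ^ (d - 1) * x) (by
    have := SetLike.mul_mem_graded (hpow (d - 1)) hx
    rwa [show ((d - 1 : ℕ) : ℤ) + 1 = (d : ℤ) by omega] at this)
  refine Submodule.mem_span_singleton.2 ⟨c, (sub_eq_zero.1 ?_).symm⟩
  have h1 : a ^ (d - 1) * (x - c • a) = 0 := by
    rw [mul_sub, hc, mul_smul_comm, ← pow_succ, Nat.sub_add_cancel hd, sub_self]
  generalize d - 1 = i at h1
  induction i with
  | zero => rwa [pow_zero, one_mul] at h1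
  | succ i ih => exact ih (hreg _ (by rwa [← mul_assoc, ← pow_succ']))

include hpos h0 hstd hm hdim in
/-- One one-dimensional piece in positive degree forces a polynomial ring. -/
theorem nonempty_algEquiv_of_le_span [LocCoh.IsCohenMacaulayRing R] {d : ℕ} (hd : 0 < d) {z : R}
    (hR : 𝒜 (d : ℤ) ≤ Submodule.span k {z}) : Nonempty (R ≃ₐ[k] Polynomial k) :=
  let ⟨_, ha, _, hle⟩ := exists_line hpos h0 hstd hm hdim hd hR
  nonempty_algEquiv_polynomial hpos h0 hstd hm hdim ha hle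

include hpos h0 hstd hm hdim in
/-- The evaluation at one of a ring with one-dimensional pieces. -/
theorem exists_eval {a : R} (ha : a ∈ 𝒜 1) (hnil : ¬ IsNilpotent a) (hle : 𝒜 1 ≤ Submodule.span k {a}) :
    ∃ ev : R →ₐ[k] k, ev a = 1 := by
  classical
  have hpow : ∀ i : ℕ, a ^ i ∈ 𝒜 (i : ℤ) := fun i => by simpa using SetLike.pow_mem_graded i ha
  have hinj : Function.Injective (Polynomial.aeval (R := k) a) := by
    rw [injective_iff_map_eq_zero]
    intro p hp
    ext i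
    have h := congrArg (cmp 𝒜 (i : ℤ)) hp
    rw [Polynomial.aeval_eq_sum_range, map_sum, map_zero] at h
    rw [Polynomial.coeff_zero]
    by_cases hi : i ∈ Finset.range (p.natDegree + 1)
    · rw [Finset.sum_eq_single i (fun j _ hj => cmp_of_mem_ne 𝒜 (Submodule.smul_mem _ _ (hpow j)) (by exact_mod_cast hj))
        (fun h' => absurd hi h'), cmp_of_mem 𝒜 (Submodule.smul_mem _ _ (hpow i))] at h
      exact (smul_eq_zero.1 h).resolve_right fun h' => hnil ⟨i, h'⟩
    · exact Polynomial.coeff_eq_zero_of_natDegree_lt (by simpa [Nat.lt_succ_iff] using hi)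
  have hsurj : Function.Surjective (Polynomial.aeval (R := k) a) := fun x => by
    obtain ⟨S, hS⟩ := exists_sum_cmp 𝒜 x
    suffices x ∈ (Polynomial.aeval (R := k) a).range from this
    rw [hS]
    refine sum_mem fun g _ => ?_
    rcases lt_or_ge g 0 with hg | hg
    · rw [(Submodule.mem_bot k).1 ((hpos g hg).le (cmp_mem 𝒜 g x))]
      exact zero_mem _
    · obtain ⟨n, rfl⟩ := Int.eq_ofNat_of_zero_le hg
      obtain ⟨c, hc⟩ := Submodule.mem_span_singleton.1 (piece_le_span_pow hpos h0 hstd hm ha hle n (cmp_mem 𝒜 _ x))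
      exact ⟨c • Polynomial.X ^ n, by
        change Polynomial.aeval a (c • Polynomial.X ^ n) = _
        rw [← hc, map_smul, map_pow, Polynomial.aeval_X]⟩
  let e := AlgEquiv.ofBijective (Polynomial.aeval (R := k) a) ⟨hinj, hsurj⟩
  refine ⟨(Polynomial.aeval (1 : k)).comp e.symm.toAlgHom, ?_⟩
  change Polynomial.aeval (1 : k) (e.symm a) = 1
  rw [show e.symm a = Polynomial.X from e.symm_apply_eq.2 (Polynomial.aeval_X a).symm, Polynomial.aeval_X]

include hstd in
omit [Algebra.FiniteType k R] [Nontrivial R] in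
/-- A standard graded ring is multiplicatively generated in degree one. -/
theorem piece_succ_le (i : ℕ) : 𝒜 ((i + 1 : ℕ) : ℤ) ≤ 𝒜 (i : ℤ) * 𝒜 1 := fun z hz => by
  have hz' : z ∈ Ideal.span ((𝒜 1 : Submodule k R) : Set R) := hstd.le (Ideal.subset_span
    (Set.mem_iUnion₂.2 ⟨((i + 1 : ℕ) : ℤ), by simp only [Set.mem_Ioi]; omega, hz⟩))
  rw [← cmp_of_mem 𝒜 hz, ← one_mul z]
  suffices h : ∀ v ∈ Ideal.span ((𝒜 1 : Submodule k R) : Set R), ∀ c : R,
      cmp 𝒜 ((i + 1 : ℕ) : ℤ) (c * v) ∈ 𝒜 (i : ℤ) * 𝒜 1 from h z hz' 1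
  intro v hv
  induction hv using Submodule.span_induction with
  | mem v hv =>
    intro c
    rw [← smul_eq_mul c v, cmp_smul_mem (𝒜 := 𝒜) 𝒜 c hv, smul_eq_mul]
    refine Submodule.mul_mem_mul ?_ hv
    rw [show ((i + 1 : ℕ) : ℤ) - 1 = (i : ℤ) by omega]
    exact cmp_mem 𝒜 _ c
  | zero => intro c; rw [mul_zero, map_zero]; exact zero_mem _
  | add a b _ _ ha hb => intro c; rw [mul_add, map_add]; exact add_mem (ha c) (hb c)
  | smul e a _ ha => intro c; rw [smul_eq_mul, ← mul_assoc]; exact ha (c * e)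

include hpos h0 hm hdim in
/-- Modulo a homogeneous regular element the irrelevant ideal is nilpotent. -/
theorem exists_pow_le_span {q : ℤ} {f : R} (hfd : f ∈ 𝒜 q) (hfm : f ∈ m.toIdeal) (hf : ∀ x, f * x = 0 → x = 0) :
    ∃ N, m.toIdeal ^ N ≤ Ideal.span {f} := by
  haveI : IsNoetherianRing R := Algebra.FiniteType.isNoetherianRing k R
  have h := ringKrullDim_quotient_succ_le_of_nonZeroDivisor
    (mem_nonZeroDivisors_iff_left.2 fun x hx => hf x hx : f ∈ nonZeroDivisors R)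
  rw [hdim] at h
  have hJ : Ideal.span {f} ≠ ⊤ := fun e =>
    (isMaximal hpos h0 hm).ne_top (top_le_iff.1 (e.ge.trans ((Ideal.span_singleton_le_iff_mem _).2 hfm)))
  haveI : Nontrivial (R ⧸ Ideal.span {f}) := Ideal.Quotient.nontrivial_iff.2 hJ
  have h1 : ringKrullDim (R ⧸ Ideal.span {f}) ≤ 0 := by
    by_contra hlt
    have h2 : (1 : WithBot ℕ∞) ≤ ringKrullDim (R ⧸ Ideal.span {f}) := by
      cases hx : ringKrullDim (R ⧸ Ideal.span {f}) with
      | bot =>
        have h9 := ringKrullDim_nonneg_of_nontrivial (R := R ⧸ Ideal.span {f})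
        rw [hx] at h9
        exact absurd (le_bot_iff.1 h9) (by simp)
      | coe n =>
        rw [hx] at hlt
        change ((1 : ℕ∞) : WithBot ℕ∞) ≤ (n : WithBot ℕ∞)
        rw [WithBot.coe_le_coe]
        exact Order.one_le_iff_pos.2 (lt_of_not_ge fun hn => hlt (by exact_mod_cast hn))
    have h3 := (add_le_add_left h2 1).trans h
    norm_cast at h3
  haveI : Ring.KrullDimLE 0 (R ⧸ Ideal.span {f}) := Ring.krullDimLE_iff.2 h1
  refine Ideal.exists_pow_le_of_le_radical_of_fg ?_ (IsNoetherian.noetherian _)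
  rw [Ideal.radical_eq_sInf]
  refine le_sInf fun P ⟨hfP, hP⟩ => ?_
  have hc : (P.homogeneousCore 𝒜).toIdeal.IsPrime := Ideal.IsPrime.homogeneousCore hP
  have hfc : f ∈ (P.homogeneousCore 𝒜).toIdeal :=
    Ideal.mem_homogeneousCore_of_homogeneous_of_mem ⟨q, hfd⟩ (hfP (Ideal.subset_span rfl))
  have hmax : ((P.homogeneousCore 𝒜).toIdeal.map (Ideal.Quotient.mk (Ideal.span {f}))).IsMaximal := by
    refine Ring.krullDimLE_zero_iff.1 inferInstance _ (Ideal.map_isPrime_of_surjective Ideal.Quotient.mk_surjective ?_)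
    rw [Ideal.mk_ker]
    exact (Ideal.span_singleton_le_iff_mem _).2 hfc
  have hmax' : (P.homogeneousCore 𝒜).toIdeal.IsMaximal := by
    have := Ideal.comap_isMaximal_of_surjective (Ideal.Quotient.mk (Ideal.span {f})) Ideal.Quotient.mk_surjective (K := _) (H := hmax)
    rwa [Ideal.comap_map_of_surjective _ Ideal.Quotient.mk_surjective, ← RingHom.ker_eq_comap_bot, Ideal.mk_ker,
      sup_eq_left.2 ((Ideal.span_singleton_le_iff_mem _).2 hfc)] at this
  rw [← hmax'.eq_of_le (isMaximal hpos h0 hm).ne_top (le_of_ne_top hpos h0 hm hc.ne_top)]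
  exact Ideal.toIdeal_homogeneousCore_le 𝒜 P

include hpos h0 hstd hm hdim in
/-- Modulo a homogeneous regular element a Gorenstein ring has a one-dimensional top. -/
theorem exists_socle_degree [LocCoh.IsGorensteinRing R] {q : ℕ} {f : R} (hq : 0 < q) (hfd : f ∈ 𝒜 (q : ℤ))
    (hf : ∀ x, f * x = 0 → x = 0) :
    ∃ D : ℕ, Module.finrank k (𝒜 (D : ℤ)) = Module.finrank k (𝒜 ((D : ℤ) - q)) + 1 ∧
      (D = 0 → Module.finrank k (𝒜 1) ≤ 1) := by
  classical
  haveI := isMaximal hpos h0 hm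
  haveI : IsNoetherianRing R := Algebra.FiniteType.isNoetherianRing k R
  have hfm : f ∈ m.toIdeal := hm.ge (Ideal.subset_span (Set.mem_iUnion₂.2 ⟨(q : ℤ), by simp only [Set.mem_Ioi]; omega, hfd⟩))
  obtain ⟨N, hN⟩ := exists_pow_le_span hpos h0 hm hdim hfd hfm hf
  let J := Ideal.span {f}
  have hJh : J.IsHomogeneous 𝒜 := Ideal.homogeneous_span _ _ fun x hx => by
    rw [Set.mem_singleton_iff.1 hx]; exact ⟨(q : ℤ), hfd⟩
  have hJle : J ≤ m.toIdeal := (Ideal.span_singleton_le_iff_mem _).2 hfm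
  have hex : ∃ g : ℕ, ∃ z ∈ 𝒜 (g : ℤ), z ∉ J :=
    ⟨0, 1, by simpa using SetLike.GradedOne.one_mem (A := 𝒜), fun h => (inferInstance : m.toIdeal.IsMaximal).ne_top ((Ideal.eq_top_iff_one _).2 (hJle h))⟩
  have hbound : ∀ g : ℕ, (∃ z ∈ 𝒜 (g : ℤ), z ∉ J) → g ≤ N := fun g ⟨z, hz, hzJ⟩ => by
    by_contra h
    exact hzJ (hN (Ideal.pow_le_pow_right (by omega) (piece_le_pow hpos h0 hstd hm g z hz)))
  let P : ℕ → Prop := fun g => ∃ z ∈ 𝒜 (g : ℤ), z ∉ J
  obtain ⟨g₀, hg₀⟩ := hex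
  have hD : P (Nat.findGreatest P N) := Nat.findGreatest_spec (hbound g₀ hg₀) hg₀
  set D := Nat.findGreatest P N with hDdef
  have hmax : ∀ g : ℕ, D < g → ∀ z ∈ 𝒜 (g : ℤ), z ∈ J := fun g hg z hz => by
    by_contra hzJ
    exact absurd (Nat.le_findGreatest (hbound g ⟨z, hz, hzJ⟩) ⟨z, hz, hzJ⟩ : g ≤ D) (by omega)
  obtain ⟨w, hw, hwJ⟩ := hD
  have hkill : ∀ z ∈ 𝒜 (D : ℤ), ∀ a ∈ m.toIdeal, a * z ∈ J := fun z hz a ha => by
    induction (hm.le ha) using Submodule.span_induction with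
    | mem a ha' =>
      obtain ⟨i, hi, ha'⟩ := Set.mem_iUnion₂.1 ha'
      obtain ⟨i, rfl⟩ := Int.eq_ofNat_of_zero_le (show (0 : ℤ) ≤ i from le_of_lt (show (0 : ℤ) < i from hi))
      have := SetLike.mul_mem_graded ha' hz
      exact hmax (i + D) (by have : (0 : ℤ) < i := hi; omega) _ (by push_cast; exact this)
    | zero => rw [zero_mul]; exact zero_mem _
    | add u v _ _ hu hv =>
      rw [add_mul]
      exact add_mem (hu (hm.ge ‹_›)) (hv (hm.ge ‹_›))
    | smul c u _ hu => rw [smul_eq_mul, mul_assoc]; exact J.mul_mem_left c (hu (hm.ge ‹_›))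
  let A := Localization.AtPrime m.toIdeal
  haveI := LocCoh.IsGorensteinRing.isGorensteinLocalRing_localization (A := R) m.toIdeal
  let fA : A := algebraMap R A f
  have hfA : fA ∈ IsLocalRing.maximalIdeal A := (IsLocalization.AtPrime.to_map_mem_maximal_iff A m.toIdeal f).2 hfm
  have hfAreg : IsSMulRegular A fA := isSMulRegular_iff_right_eq_zero_of_smul.2 fun y hy => by
    obtain ⟨⟨b, s⟩, rfl⟩ := IsLocalization.mk'_surjective m.toIdeal.primeCompl y
    rw [smul_eq_mul, IsLocalization.mul_mk'_eq_mk'_of_mul] at hy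
    obtain ⟨t, ht⟩ := (IsLocalization.mk'_eq_zero_iff _ _).1 hy
    refine (IsLocalization.mk'_eq_zero_iff _ _).2 ⟨t, hf _ ?_⟩
    rw [← ht]; ring
  haveI := GrothLib.Gor.isLocalRing_quotient hfA hfAreg
  haveI := GrothLib.Gor.isGorensteinLocalRing_quotient hfA hfAreg
  let B := A ⧸ Ideal.span {fA}
  let π : R →+* B := (Ideal.Quotient.mk _).comp (algebraMap R A)
  have hπ : ∀ x, π x = 0 → ∃ s : R, s ∉ m.toIdeal ∧ s * x ∈ J := fun x hx => by
    have h1 : algebraMap R A x ∈ Ideal.map (algebraMap R A) J := by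
      rw [Ideal.map_span, Set.image_singleton]
      exact Ideal.Quotient.eq_zero_iff_mem.1 hx
    obtain ⟨s, hs, hsx⟩ := (IsLocalization.algebraMap_mem_map_algebraMap_iff m.toIdeal.primeCompl A J x).1 h1
    exact ⟨s, hs, hsx⟩
  have hzmem : ∀ {z : R} {g : ℤ}, z ∈ 𝒜 g → ∀ s ∉ m.toIdeal, s * z ∈ J → z ∈ J := fun {z g} hz s hs hsz =>
    mem_of_smul_mem (pos' hpos) (isUnit_cmp_zero (pos' hpos) (isField_deg0 h0) (irr' hm) hs) (gmod 𝒜 𝒜)
      (W := (J : Submodule R R)) (fun i x hx => by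
        have e := cmp_eq_proj (gmod 𝒜 𝒜) (g := i) (cmp (M := R) 𝒜 i) (fun y hy => cmp_of_mem 𝒜 hy)
          (fun h hne y hy => cmp_of_mem_ne 𝒜 hy hne) x
        exact (congrArg (· ∈ (J : Submodule R R)) e).mpr (hJh i hx)) hsz
  have hwne : π w ≠ 0 := fun h => by
    obtain ⟨s, hs, hsw⟩ := hπ w h
    exact hwJ (hzmem hw s hs hsw)
  have hB0 : ringKrullDim B = 0 := by
    haveI : Nontrivial B := ⟨⟨π w, 0, hwne⟩⟩
    refine le_antisymm ?_ ringKrullDim_nonneg_of_nontrivial
    have : Ring.KrullDimLE 0 B := Ring.krullDimLE_zero_iff.2 fun P hP => by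
      have hle : IsLocalRing.maximalIdeal B ≤ P := by
        rw [← IsLocalRing.map_maximalIdeal_of_surjective (Ideal.Quotient.mk (Ideal.span {fA})) Ideal.Quotient.mk_surjective,
          ← Localization.AtPrime.map_eq_maximalIdeal, Ideal.map_map, Ideal.map_le_iff_le_comap]
        intro a ha
        refine hP.mem_of_pow_mem N ?_
        rw [← map_pow]
        have h1 : a ^ N ∈ J := hN (Ideal.pow_mem_pow ha N)
        obtain ⟨c, hc⟩ := Ideal.mem_span_singleton'.1 h1
        rw [← hc, map_mul, show π f = 0 from Ideal.Quotient.eq_zero_iff_mem.2 (Ideal.subset_span rfl), mul_zero]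
        exact zero_mem _
      rw [← (IsLocalRing.maximalIdeal.isMaximal B).eq_of_le hP.ne_top hle]
      exact IsLocalRing.maximalIdeal.isMaximal B
    exact Ring.krullDimLE_iff.1 this
  have hline : ∀ z ∈ 𝒜 (D : ℤ), ∃ c : k, z - c • w ∈ J := by
    intro z hz
    have hzK : π z ∈ Ideal.span {π w} := by
      refine GrothLib.Gor.mem_of_mul_annihilator hB0 _ _ fun a ha => ?_
      obtain ⟨a', rfl⟩ := Ideal.Quotient.mk_surjective a
      obtain ⟨⟨b, s⟩, rfl⟩ := IsLocalization.mk'_surjective m.toIdeal.primeCompl a'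
      have h1 := ha _ (Ideal.subset_span rfl)
      have hbm : b ∈ m.toIdeal := by
        by_contra hb
        refine hwne ((IsUnit.mul_right_eq_zero ?_).1 h1)
        exact ((IsLocalization.AtPrime.isUnit_mk'_iff A m.toIdeal b s).2 hb).map _
      change Ideal.Quotient.mk _ (IsLocalization.mk' A b s) * Ideal.Quotient.mk _ (algebraMap R A z) = 0
      rw [← map_mul, Ideal.Quotient.eq_zero_iff_mem, mul_comm, IsLocalization.mul_mk'_eq_mk'_of_mul,
        IsLocalization.mk'_eq_mul_mk'_one]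
      refine Ideal.mul_mem_right _ _ ?_
      have h2 : algebraMap R A (z * b) ∈ Ideal.map (algebraMap R A) J :=
        Ideal.mem_map_of_mem _ (by rw [mul_comm]; exact hkill z hz b hbm)
      rwa [Ideal.map_span, Set.image_singleton] at h2
    obtain ⟨b, hb⟩ := Ideal.mem_span_singleton'.1 hzK
    obtain ⟨b', rfl⟩ := Ideal.Quotient.mk_surjective b
    obtain ⟨⟨c, s⟩, rfl⟩ := IsLocalization.mk'_surjective m.toIdeal.primeCompl b'
    have h3 : π ((s : R) * z - c * w) = 0 := by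
      change Ideal.Quotient.mk _ (IsLocalization.mk' A c s) * π w = π z at hb
      rw [map_sub, map_mul, map_mul, ← hb, ← mul_assoc, show π (s : R) * Ideal.Quotient.mk _ (IsLocalization.mk' A c s) = π c from by
        change Ideal.Quotient.mk _ _ * _ = Ideal.Quotient.mk _ _
        rw [← map_mul, IsLocalization.mk'_spec'], sub_self]
    obtain ⟨t, ht, htJ⟩ := hπ _ h3
    have h4 := hJh (D : ℤ) htJ
    change cmp 𝒜 (D : ℤ) (t * ((s : R) * z - c * w)) ∈ J at h4
    rw [mul_sub, map_sub, ← mul_assoc, ← mul_assoc, ← smul_eq_mul (t * (s : R)) z, ← smul_eq_mul (t * c) w,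
      cmp_smul_mem (𝒜 := 𝒜) 𝒜 _ hz, cmp_smul_mem (𝒜 := 𝒜) 𝒜 _ hw, sub_self] at h4
    obtain ⟨α, hα⟩ := Submodule.mem_span_singleton.1 (h0.le (cmp_mem 𝒜 0 (t * (s : R))))
    obtain ⟨γ, hγ⟩ := Submodule.mem_span_singleton.1 (h0.le (cmp_mem 𝒜 0 (t * c)))
    rw [← hα, ← hγ, smul_eq_mul, smul_eq_mul, smul_one_mul, smul_one_mul] at h4
    have hα0 : α ≠ 0 := fun h => by
      have hu := isUnit_cmp_zero (pos' hpos) (isField_deg0 h0) (irr' hm) (m.toIdeal.primeCompl.mul_mem ht s.2)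
      rw [← hα, h, zero_smul] at hu
      exact not_isUnit_zero hu
    refine ⟨α⁻¹ * γ, ?_⟩
    have h5 := Submodule.smul_mem (J.restrictScalars k) α⁻¹ h4
    rwa [smul_sub, smul_smul, inv_mul_cancel₀ hα0, one_smul, smul_smul] at h5
  have hfin : ∀ n : ℤ, Module.Finite k (𝒜 n) := fun n =>
    haveI := GrothLib.GrDual.finiteDimensional_piece (k := k) (M := R) (𝒜 := 𝒜) hpos h0 𝒜 n
    Module.Finite.equiv (LinearEquiv.ofEq (GrothLib.GrDual.pieceK 𝒜 𝒜 n) (𝒜 n) (Submodule.ext fun _ => Iff.rfl))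
  haveI := hfin ((D : ℤ) - q)
  haveI := hfin 1
  refine ⟨D, ?_, fun hD0 => ?_⟩
  · let Φ : (𝒜 ((D : ℤ) - q)) × k →ₗ[k] 𝒜 (D : ℤ) :=
      { toFun := fun x => ⟨f * (x.1 : R) + x.2 • w, add_mem (by
            have := SetLike.mul_mem_graded hfd x.1.2
            rwa [add_sub_cancel] at this) (Submodule.smul_mem _ _ hw)⟩
        map_add' := fun x y => Subtype.ext (by
          simp only [Prod.fst_add, Prod.snd_add, Submodule.coe_add, mul_add, add_smul]; abel)
        map_smul' := fun c x => Subtype.ext (by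
          simp [mul_smul_comm, smul_add, smul_smul]) }
    have hΦ : Function.Bijective Φ := by
      refine ⟨(injective_iff_map_eq_zero Φ).2 fun x hx => ?_, fun y => ?_⟩
      · have hx' : f * (x.1 : R) + x.2 • w = 0 := congrArg Subtype.val hx
        have hx2 : x.2 = 0 := by
          by_contra hne
          refine hwJ ?_
          have h6 : x.2 • w ∈ J := Ideal.mem_span_singleton'.2 ⟨-(x.1 : R), by linear_combination -hx'⟩
          have := Submodule.smul_mem (J.restrictScalars k) x.2⁻¹ h6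
          rwa [smul_smul, inv_mul_cancel₀ hne, one_smul] at this
        rw [hx2, zero_smul, add_zero] at hx'
        exact Prod.ext (Subtype.ext (hf _ hx')) hx2
      · obtain ⟨c, hc⟩ := hline y y.2
        obtain ⟨d, hd⟩ := Ideal.mem_span_singleton.1 hc
        refine ⟨(⟨cmp 𝒜 ((D : ℤ) - q) d, cmp_mem 𝒜 _ d⟩, c), Subtype.ext ?_⟩
        change f * cmp 𝒜 ((D : ℤ) - q) d + c • w = (y : R)
        have h7 := congrArg (cmp 𝒜 (D : ℤ)) hd
        rw [map_sub, cmp_of_mem 𝒜 y.2, cmp_of_mem 𝒜 (Submodule.smul_mem _ c hw), ← smul_eq_mul f d,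
          cmp_smul_of_mem (𝒜 := 𝒜) 𝒜 hfd, smul_eq_mul] at h7
        rw [← h7, sub_add_cancel]
    rw [← (LinearEquiv.ofBijective Φ hΦ).finrank_eq, Module.finrank_prod, Module.finrank_self]
  · have h1 : ∀ z ∈ 𝒜 1, ∃ d, z = f * cmp 𝒜 (1 - (q : ℤ)) d := fun z hz => by
      obtain ⟨d, rfl⟩ := Ideal.mem_span_singleton.1 (hmax 1 (by omega) z (by simpa using hz))
      refine ⟨d, ?_⟩
      have h8 := cmp_smul_of_mem (𝒜 := 𝒜) 𝒜 hfd d (1 : ℤ)
      rwa [smul_eq_mul, smul_eq_mul, cmp_of_mem 𝒜 hz] at h8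
    have hle : 𝒜 1 ≤ Submodule.span k {f} := fun z hz => by
      obtain ⟨d, rfl⟩ := h1 z hz
      rcases lt_or_ge (1 - (q : ℤ)) 0 with h | h
      · rw [pos' hpos _ h _ (cmp_mem 𝒜 _ d), mul_zero]; exact zero_mem _
      · obtain ⟨c, hc⟩ := Submodule.mem_span_singleton.1 (h0.le (by
          have := cmp_mem 𝒜 (1 - (q : ℤ)) d
          rwa [show (1 : ℤ) - q = 0 by omega] at this))
        refine Submodule.mem_span_singleton.2 ⟨c, ?_⟩
        rw [show (1 : ℤ) - q = 0 by omega, ← hc, mul_smul_comm, mul_one]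
    exact (Submodule.finrank_mono hle).trans ((finrank_span_le_card ({f} : Set R)).trans (by simp))

end

end GrothLib.Segre
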