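import Groth.Agent.Lib.Depth.CM
import Groth.Agent.Lib.CMFree.FiniteFlat
import Groth.Agent.Lib.GrLC.LocalDim
import Groth.Agent.S14424
import Mathlib.Algebra.MvPolynomial.Equiv
import Mathlib.RingTheory.Regular.Flat
import Mathlib.RingTheory.Ideal.GoingUp
import Mathlib.RingTheory.QuotSMulTop

/-!
# Modules free over a polynomial ring through a regular sequence are Cohen–Macaulay
-/

universe u

open RingTheory.Sequence

open scoped Pointwise

namespace GrothLib.Segre

variable {k T : Type u} [Field k] [CommRing T] [Algebra k T]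

/-- A family independent modulo a regular sequence is independent over the polynomial ring. -/
theorem indep_aeval : ∀ (d : ℕ) (θ : Fin d → T) (P : Type u) [AddCommGroup P] [Module T P] [Module k P]
    [IsScalarTower k T P], IsWeaklyRegular P (List.ofFn θ) → ∀ {n : ℕ} (e : Fin n → P),
    (∀ c : Fin n → k, ∑ i, c i • e i ∈ Ideal.ofList (List.ofFn θ) • (⊤ : Submodule T P) → c = 0) →
    ∀ c : Fin n → MvPolynomial (Fin d) k, ∑ i, MvPolynomial.aeval θ (c i) • e i = 0 → c = 0 := by
  intro d
  induction d with
  | zero =>
    intro θ P _ _ _ _ _ n e he c hc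
    have hC : ∀ i, c i = MvPolynomial.C (MvPolynomial.coeff 0 (c i)) := fun i =>
      MvPolynomial.eq_C_of_isEmpty (c i)
    have h : (fun i => MvPolynomial.coeff 0 (c i)) = 0 := he _ (by
      have e' : ∑ i, MvPolynomial.coeff 0 (c i) • e i = 0 := by
        rw [← hc]
        refine Finset.sum_congr rfl fun i _ => ?_
        conv_rhs => rw [hC i, MvPolynomial.aeval_C, algebraMap_smul]
      rw [e']
      exact zero_mem _)
    funext i
    rw [hC i, show MvPolynomial.coeff 0 (c i) = 0 from congrFun h i, map_zero, Pi.zero_apply]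
  | succ d ih =>
    intro θ P _ _ _ _ hreg n e he c hc
    rw [List.ofFn_succ] at hreg he
    obtain ⟨hx, hreg'⟩ := (isWeaklyRegular_cons_iff P _ _).1 hreg
    let P' := QuotSMulTop (θ 0) P
    let q : P →ₗ[T] P' := Submodule.mkQ _
    have he' : ∀ a : Fin n → k, ∑ i, a i • q (e i) ∈
        Ideal.ofList (List.ofFn fun i => θ i.succ) • (⊤ : Submodule T P') → a = 0 := by
      intro a ha
      refine he a ?_
      have h1 : q (∑ i, a i • e i) ∈ Ideal.ofList (List.ofFn fun i => θ i.succ) • (⊤ : Submodule T P') := by
        rw [map_sum]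
        refine (congrArg (· ∈ _) (Finset.sum_congr rfl fun i _ => ?_)).mpr ha
        exact LinearMap.map_smul_of_tower q (a i) (e i)
      rw [← LinearMap.range_eq_top.2 (Submodule.mkQ_surjective _ : Function.Surjective q), ← Submodule.map_top,
        ← Submodule.map_smul''] at h1
      obtain ⟨y, hy, e1⟩ := h1
      rw [Ideal.ofList_cons_smul]
      have hd : ∑ i, a i • e i - y ∈ θ 0 • (⊤ : Submodule T P) :=
        (Submodule.Quotient.eq _).1 e1.symm
      have := add_mem (Submodule.mem_sup_left hd) (Submodule.mem_sup_right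
        (S := θ 0 • (⊤ : Submodule T P)) hy)
      rwa [sub_add_cancel] at this
    let F := MvPolynomial.finSuccEquiv k d
    let ev : Polynomial (MvPolynomial (Fin d) k) →+* T :=
      (MvPolynomial.aeval θ : MvPolynomial (Fin (d + 1)) k →ₐ[k] T).toRingHom.comp F.symm.toRingEquiv.toRingHom
    have hevX : ev Polynomial.X = θ 0 := by
      change MvPolynomial.aeval θ (F.symm Polynomial.X) = θ 0
      rw [← MvPolynomial.finSuccEquiv_X_zero, AlgEquiv.symm_apply_apply, MvPolynomial.aeval_X]
    have hevC : ∀ r, ev (Polynomial.C r) = MvPolynomial.aeval (fun i => θ i.succ) r := by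
      intro r
      induction r using MvPolynomial.induction_on with
      | C a =>
        change MvPolynomial.aeval θ (F.symm (Polynomial.C (MvPolynomial.C a))) = _
        have : F.symm (Polynomial.C (MvPolynomial.C a)) = MvPolynomial.C a :=
          (AlgEquiv.symm_apply_eq F).2 (by simp [F, MvPolynomial.finSuccEquiv_apply])
        rw [this, MvPolynomial.aeval_C, MvPolynomial.aeval_C]
      | add a b ha hb => rw [map_add, map_add, map_add, ha, hb]
      | mul_X a i ha =>
        rw [map_mul, map_mul, map_mul, ha, MvPolynomial.aeval_X]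
        congr 1
        change MvPolynomial.aeval θ (F.symm (Polynomial.C (MvPolynomial.X i))) = _
        rw [← MvPolynomial.finSuccEquiv_X_succ, AlgEquiv.symm_apply_apply, MvPolynomial.aeval_X]
    have key : ∀ (N : ℕ) (p : Fin n → Polynomial (MvPolynomial (Fin d) k)), (∀ i j, N ≤ j → (p i).coeff j = 0) →
        ∑ i, ev (p i) • e i = 0 → p = 0 := by
      intro N
      induction N with
      | zero => intro p hp _; funext i; ext1 j; rw [hp i j (Nat.zero_le j)]; simp
      | succ N ihN =>
        intro p hp hsum
        have hsplit : ∀ i, ev (p i) • e i =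
            θ 0 • (ev (p i).divX • e i) + MvPolynomial.aeval (fun j => θ j.succ) ((p i).coeff 0) • e i := by
          intro i
          conv_lhs => rw [← Polynomial.X_mul_divX_add (p i)]
          rw [map_add, map_mul, hevX, hevC, add_smul, mul_smul]
        simp only [hsplit, Finset.sum_add_distrib, ← Finset.smul_sum] at hsum
        have h0 : (fun i => (p i).coeff 0) = 0 := by
          refine ih (fun j => θ j.succ) P' hreg' (fun i => q (e i)) he' _ ?_
          have h := congrArg q hsum
          rw [map_add, map_zero, map_sum] at h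
          have hq : q (θ 0 • ∑ i, ev (p i).divX • e i) = 0 :=
            (Submodule.Quotient.mk_eq_zero _).2 ⟨_, trivial, rfl⟩
          rw [hq, zero_add] at h
          simpa only [map_smul] using h
        simp only [fun i => congrFun h0 i, Pi.zero_apply, map_zero, zero_smul, Finset.sum_const_zero, add_zero] at hsum
        have h1 := ihN (fun i => (p i).divX)
          (fun i j hj => by rw [Polynomial.coeff_divX]; exact hp i _ (by omega))
          (hx (hsum.trans (smul_zero _).symm))
        funext i
        rw [← Polynomial.X_mul_divX_add (p i), show (p i).divX = 0 from congrFun h1 i,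
          show (p i).coeff 0 = 0 from congrFun h0 i, mul_zero, map_zero, add_zero, Pi.zero_apply]
    have h2 := key (Finset.univ.sup fun i => (F (c i)).natDegree + 1) (fun i => F (c i))
      (fun i j hj => Polynomial.coeff_eq_zero_of_natDegree_lt (lt_of_lt_of_le (Nat.lt_succ_self _)
        ((Finset.le_sup (f := fun i => (F (c i)).natDegree + 1) (Finset.mem_univ i)).trans hj)))
      (by
        refine (Finset.sum_congr rfl fun i _ => ?_).trans hc
        change MvPolynomial.aeval θ (F.symm (F (c i))) • e i = _
        rw [AlgEquiv.symm_apply_apply])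
    funext i
    exact F.injective ((congrFun h2 i).trans (map_zero F).symm)

variable [IsNoetherianRing T] {P : Type u} [AddCommGroup P] [Module T P] [Module k P] [IsScalarTower k T P]
  [Module.Finite T P]

/-- A module free over a polynomial subring is Cohen–Macaulay at each prime. -/
theorem cm_of_free {d n : ℕ} (θ : Fin d → T) (e : Fin n → P)
    (hbij : Function.Bijective fun c : Fin n → MvPolynomial (Fin d) k => ∑ i, MvPolynomial.aeval θ (c i) • e i)
    (q : Ideal T) [q.IsPrime] :
    Subsingleton (LocalizedModule q.primeCompl P) ∨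
      LocCoh.IsCohenMacaulayModule (Localization.AtPrime q) (LocalizedModule q.primeCompl P) := by
  classical
  rcases subsingleton_or_nontrivial (LocalizedModule q.primeCompl P) with h | h
  · exact Or.inl h
  refine Or.inr ?_
  let A := MvPolynomial (Fin d) k
  letI : Algebra A T := (MvPolynomial.aeval θ : A →ₐ[k] T).toRingHom.toAlgebra
  letI : Module A P := Module.compHom P (algebraMap A T)
  haveI : IsScalarTower A T P := IsScalarTower.of_algebraMap_smul fun _ _ => rfl
  let Φ : (Fin n → A) →ₗ[A] P :=
    { toFun := fun c => ∑ i, c i • e i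
      map_add' := fun a b => by simp only [Pi.add_apply, add_smul, Finset.sum_add_distrib]
      map_smul' := fun a b => by simp only [Pi.smul_apply, smul_eq_mul, mul_smul, Finset.smul_sum, RingHom.id_apply] }
  let Φe : (Fin n → A) ≃ₗ[A] P := LinearEquiv.ofBijective Φ hbij
  haveI : Module.Free A P := Module.Free.of_equiv Φe
  haveI : Module.Finite A P := Module.Finite.equiv Φe
  let p : Ideal A := q.comap (algebraMap A T)
  have hA : LocCoh.IsCohenMacaulayRing A :=
    CMFree.isCohenMacaulayRing_of_finite_free_mvPolynomial k (Fin d) A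
  have hp : p ≠ ⊤ := Ideal.IsPrime.ne_top inferInstance
  obtain ⟨t, ht⟩ := ENat.ne_top_iff_exists.1 (Ideal.height_ne_top (I := p) hp)
  obtain ⟨rs, hlen, hmem, hreg⟩ := (Depth.le_idealDepth_iff_exists p (M := A)
    (by rw [Ideal.smul_top_eq_map, Algebra.algebraMap_self, Ideal.map_id]; exact hp) t).1
    (by rw [(Groth.Agent.S14424.result A).1 hA p hp, ← ht])
  have hregP : IsWeaklyRegular P rs :=
    ((TensorProduct.lid A P).isWeaklyRegular_congr rs).1 (hreg.isWeaklyRegular_rTensor (M₂ := P))
  have hregT : IsWeaklyRegular P (rs.map (algebraMap A T)) := (isWeaklyRegular_map_algebraMap_iff T P rs).2 hregP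
  have hregq := hregT.of_isLocalizedModule (Localization.AtPrime q) q.primeCompl
    (LocalizedModule.mkLinearMap q.primeCompl P)
  have : Module.Finite (Localization.AtPrime q) (LocalizedModule q.primeCompl P) :=
    Module.Finite.of_isLocalizedModule q.primeCompl (LocalizedModule.mkLinearMap q.primeCompl P)
  have : IsNoetherianRing (Localization.AtPrime q) := IsLocalization.isNoetherianRing q.primeCompl _ inferInstance
  have hdepth : (t : ℕ∞) ≤ LocCoh.depth (Localization.AtPrime q) (LocalizedModule q.primeCompl P) :=
    (Depth.le_idealDepth_iff_exists _ (Depth.smul_top_ne_top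
      (IsLocalRing.maximalIdeal.isMaximal (Localization.AtPrime q)).ne_top) t).2
      ⟨_, by rw [List.length_map, List.length_map, hlen], fun r hr => by
        obtain ⟨r', hr', rfl⟩ := List.mem_map.1 hr
        obtain ⟨r'', hr'', rfl⟩ := List.mem_map.1 hr'
        exact (IsLocalization.AtPrime.to_map_mem_maximal_iff (Localization.AtPrime q) q _).2 (hmem r'' hr''), hregq⟩
  refine le_antisymm ?_ (Depth.depth_le_supportDim _ _)
  refine le_trans ?_ (WithBot.coe_le_coe.2 hdepth)
  rw [GrLC.supportDim_localized, show ((t : ℕ∞) : WithBot ℕ∞) = (p.height : WithBot ℕ∞) by rw [ht],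
    ← IsLocalization.AtPrime.ringKrullDim_eq_height p (Localization.AtPrime p)]
  let J := Module.annihilator T P
  let B := T ⧸ J
  let ν : B →ₗ[T] Module.End T P :=
    Submodule.liftQ J (LinearMap.lsmul T P) fun r hr => LinearMap.ext fun v => Module.mem_annihilator.1 hr v
  let μ : B →ₗ[A] Module.End A P :=
    { toFun := fun b => (ν b).restrictScalars A
      map_add' := fun a b => by rw [map_add]; rfl
      map_smul' := fun a b => LinearMap.ext fun v => by
        change ν (a • b) v = a • ν b v
        rw [← algebraMap_smul T a b, map_smul, LinearMap.smul_apply, algebraMap_smul] }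
  have hμ : Function.Injective μ := by
    refine (injective_iff_map_eq_zero μ).2 fun b hb => ?_
    obtain ⟨r, rfl⟩ := Ideal.Quotient.mk_surjective b
    exact Ideal.Quotient.eq_zero_iff_mem.2 (Module.mem_annihilator.2 fun v => LinearMap.congr_fun hb v)
  haveI : Module.Finite A B := Module.Finite.of_injective μ hμ
  have hint : ∀ x : T, IsIntegral A (Ideal.Quotient.mk J x) := fun x => IsIntegral.of_finite A _
  let f : {Q : PrimeSpectrum T // Q ∈ Module.support T P ∧ Q.asIdeal ≤ q} → PrimeSpectrum (Localization.AtPrime p) :=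
    fun Q => (IsLocalization.AtPrime.primeSpectrumOrderIso (Localization.AtPrime p) p).symm
      ⟨PrimeSpectrum.comap (algebraMap A T) Q.1, Ideal.comap_mono Q.2.2⟩
  refine Order.krullDim_le_of_strictMono f fun Q Q' hlt => ?_
  refine OrderIso.strictMono _ (Subtype.mk_lt_mk.2 ?_)
  have hQ : J ≤ Q.1.asIdeal := Module.mem_support_iff_of_finite.1 Q.2.1
  have hQ' : J ≤ Q'.1.asIdeal := hQ.trans hlt.le
  obtain ⟨x, hx', hx⟩ := SetLike.exists_of_lt (show Q.1.asIdeal < Q'.1.asIdeal from hlt)
  haveI : (Q.1.asIdeal.map (Ideal.Quotient.mk J)).IsPrime :=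
    Ideal.map_isPrime_of_surjective Ideal.Quotient.mk_surjective (by rwa [Ideal.mk_ker])
  have hmem : ∀ (I : Ideal T), J ≤ I → ∀ y, Ideal.Quotient.mk J y ∈ I.map (Ideal.Quotient.mk J) ↔ y ∈ I :=
    fun I hI y => Ideal.mem_quotient_iff_mem hI
  have h := Ideal.comap_lt_comap_of_integral_mem_sdiff (R := A) (Ideal.map_mono (f := Ideal.Quotient.mk J) hlt.le)
    ⟨(hmem _ hQ' x).2 hx', fun h => hx ((hmem _ hQ x).1 h)⟩ (hint x)
  have e : ∀ I : Ideal T, J ≤ I → (I.map (Ideal.Quotient.mk J)).comap (algebraMap A B) = I.comap (algebraMap A T) :=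
    fun I hI => Ideal.ext fun a => hmem I hI (algebraMap A T a)
  rw [e _ hQ, e _ hQ'] at h
  exact h

end GrothLib.Segre
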