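import Groth.Agent.Lib.Segre.ModTools
import Mathlib.LinearAlgebra.Dimension.Finrank

/-!
# Generators of Segre products of shifts of the rings
-/

universe u

open scoped TensorProduct DirectSum

namespace GrothLib.Segre

open GrothLib.GrLC (cmp cmp_mem cmp_of_mem cmp_of_mem_ne gr_induction cmp_smul_of_mem smul_mem')

variable {k : Type u} [Field k] {R : Type u} [CommRing R] [Algebra k R] {S : Type u} [CommRing S] [Algebra k S]
  {𝒜 : ℤ → Submodule k R} [GradedAlgebra 𝒜] {ℬ : ℤ → Submodule k S} [GradedAlgebra ℬ]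
  {T : Type u} [CommRing T] [Algebra k T] {𝒯 : ℤ → Submodule k T} [GradedAlgebra 𝒯] {ψ : T →ₐ[k] R ⊗[k] S}

theorem shift_act_piece {a b i h : ℤ} {z : R ⊗[k] S} (hz : z ∈ GrSeg.segrePiece k 𝒜 ℬ i) {x : R ⊗[k] S}
    (hx : x ∈ GrSeg.segrePiece k (fun n => 𝒜 (n + a)) (fun n => ℬ (n + b)) h) :
    GrSeg.act k R S R S z x ∈ GrSeg.segrePiece k (fun n => 𝒜 (n + a)) (fun n => ℬ (n + b)) (i + h) := by
  induction hz using Submodule.span_induction with
  | mem y hy =>
    obtain ⟨c, hc, d, hd, rfl⟩ := hy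
    induction hx using Submodule.span_induction with
    | mem w hw =>
      obtain ⟨m, hm, n, hn, rfl⟩ := hw
      rw [GrSeg.act_tmul]
      refine Submodule.subset_span ⟨_, ?_, _, ?_, rfl⟩
      · change c • m ∈ 𝒜 (i + h + a); rw [add_assoc]; exact SetLike.mul_mem_graded hc hm
      · change d • n ∈ ℬ (i + h + b); rw [add_assoc]; exact SetLike.mul_mem_graded hd hn
    | zero => rw [map_zero]; exact zero_mem _
    | add u v _ _ hu hv => rw [map_add]; exact add_mem hu hv
    | smul c u _ hu => rw [map_smul]; exact Submodule.smul_mem _ c hu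
  | zero => rw [map_zero, LinearMap.zero_apply]; exact zero_mem _
  | add u v _ _ hu hv => rw [map_add, LinearMap.add_apply]; exact add_mem hu hv
  | smul c u _ hu => rw [map_smul, LinearMap.smul_apply]; exact Submodule.smul_mem _ c hu

variable (hposR : ∀ n : ℤ, n < 0 → 𝒜 n = ⊥) (hposS : ∀ n : ℤ, n < 0 → ℬ n = ⊥) (h0S : ℬ 0 = Submodule.span k {(1 : S)})
  [Algebra.FiniteType k R] [Algebra.FiniteType k S]

include hposR hposS h0S in
theorem finrank_quot_shifts [Nontrivial S] (hT : GrSeg.IsSegreRing 𝒜 ℬ 𝒯 ψ)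
    (hstdR : Ideal.span (⋃ n ∈ Set.Ioi (0 : ℤ), (𝒜 n : Set R)) = Ideal.span ((𝒜 1 : Submodule k R) : Set R))
    (hstdS : Ideal.span (⋃ n ∈ Set.Ioi (0 : ℤ), (ℬ n : Set S)) = Ideal.span ((ℬ 1 : Submodule k S) : Set S))
    (mT : HomogeneousIdeal 𝒯) (hmT : mT.toIdeal = Ideal.span (⋃ n ∈ Set.Ioi (0 : ℤ), (𝒯 n : Set T)))
    {a b : ℤ} (hab : b ≤ a) {P : Type u} [AddCommGroup P] [Module T P] [Module k P] [IsScalarTower k T P]
    {𝒬 : ℤ → AddSubgroup P} [DirectSum.Decomposition 𝒬] {φ : P →ₗ[k] R ⊗[k] S}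
    (hP : GrSeg.IsSegreMod ψ (fun n => 𝒜 (n + a)) (fun n => ℬ (n + b)) 𝒬 φ) :
    Module.finrank k (P ⧸ (mT.toIdeal • (⊤ : Submodule T P))) = Module.finrank k (𝒜 (a - b)) := by
  classical
  have hgs : SetLike.GradedSMul 𝒯 𝒬 := ⟨fun {i h t p} ht hp => by
    obtain ⟨q, hq, e⟩ := (hP.image_piece (i + h)).symm.subset
      (shift_act_piece (psi_mem hT ht) ((hP.image_piece h).subset ⟨p, hp, rfl⟩))
    rw [← hP.map_smul] at e
    change t • p ∈ 𝒬 (i + h)
    rw [← hP.injective e]
    exact hq⟩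
  have hex : ∀ r : 𝒜 (a - b), ∃ p ∈ 𝒬 (-b), φ p = (r : R) ⊗ₜ[k] (1 : S) := fun r => by
    obtain ⟨p, hp, e⟩ := (hP.image_piece (-b)).symm.subset (Submodule.subset_span
      ⟨(r : R), (show (r : R) ∈ 𝒜 (-b + a) by rw [neg_add_eq_sub]; exact r.2), 1,
        (show (1 : S) ∈ ℬ (-b + b) by rw [neg_add_cancel]; exact SetLike.GradedOne.one_mem), rfl⟩)
    exact ⟨p, hp, e⟩
  choose ι hι hιφ using hex
  let N : Submodule T P := mT.toIdeal • ⊤
  let Φ : 𝒜 (a - b) →ₗ[k] P :=
    { toFun := ι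
      map_add' := fun x y => hP.injective (by rw [map_add, hιφ, hιφ, hιφ, Submodule.coe_add, TensorProduct.add_tmul])
      map_smul' := fun c x => hP.injective (by
        rw [RingHom.id_apply, map_smul, hιφ, hιφ, Submodule.coe_smul, TensorProduct.smul_tmul']) }
  let Ψ : 𝒜 (a - b) →ₗ[k] P ⧸ N := (N.mkQ.restrictScalars k) ∘ₗ Φ
  have hlow : ∀ h, h < -b → ∀ q ∈ 𝒬 h, q = 0 := fun h hh q hq => hP.injective (by
    have hz := (hP.image_piece h).subset ⟨q, hq, rfl⟩
    have : GrSeg.segrePiece k (fun n => 𝒜 (n + a)) (fun n => ℬ (n + b)) h = ⊥ := by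
      refine Submodule.span_eq_bot.2 ?_
      rintro _ ⟨c, -, d, hd, rfl⟩
      have hd' : d ∈ ℬ (h + b) := hd
      rw [hposS _ (by omega), Submodule.mem_bot] at hd'
      rw [hd', TensorProduct.tmul_zero]
    rw [this] at hz
    rw [map_zero]
    exact (Submodule.mem_bot k).1 hz)
  have hN0 : ∀ x ∈ N, cmp 𝒬 (-b) x = 0 := by
    intro x hx
    refine Submodule.smul_induction_on hx (fun t ht p _ => ?_) fun u v hu hv => by rw [map_add, hu, hv, add_zero]
    rw [hmT] at ht
    induction ht using Submodule.span_induction generalizing p with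
    | mem t ht =>
      obtain ⟨i, hi, ht⟩ := Set.mem_iUnion₂.1 ht
      rw [cmp_smul_of_mem 𝒬 ht, hlow _ (by simp only [Set.mem_Ioi] at hi; omega) _ (cmp_mem 𝒬 _ p), smul_zero]
    | zero => rw [zero_smul, map_zero]
    | add u v _ _ hu hv => rw [add_smul, map_add, hu p trivial, hv p trivial, add_zero]
    | smul c u _ hu => rw [smul_eq_mul, mul_comm, mul_smul]; exact hu _ trivial
  have hinj : Function.Injective Ψ := (injective_iff_map_eq_zero Ψ).2 fun r hr => by
    have h1 := hN0 _ ((Submodule.Quotient.mk_eq_zero N).1 hr)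
    change cmp 𝒬 (-b) (ι r) = 0 at h1
    rw [cmp_of_mem 𝒬 (hι r)] at h1
    have h2 := congrArg φ h1
    rw [hιφ, map_zero] at h2
    refine Subtype.ext ?_
    by_contra hne
    obtain ⟨μ, hμ⟩ := Module.Projective.exists_dual_ne_zero k (one_ne_zero (α := S))
    have h3 := congrArg (fun z => TensorProduct.rid k R (TensorProduct.map LinearMap.id μ z)) h2
    simp only [TensorProduct.map_tmul, LinearMap.id_apply, TensorProduct.rid_tmul, map_zero, smul_eq_zero] at h3
    exact hne (h3.resolve_left hμ)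
  have hsurj : Function.Surjective Ψ := by
    intro q
    obtain ⟨p, rfl⟩ := N.mkQ_surjective q
    suffices N.mkQ p ∈ LinearMap.range Ψ from this
    obtain ⟨F, hF, hFs⟩ := exists_deg_one_gens 𝒜 hstdR
    obtain ⟨G, hG, hGs⟩ := exists_deg_one_gens ℬ hstdS
    have key : ∀ (i : ℕ), ∀ p ∈ 𝒬 (-b + i), N.mkQ p ∈ LinearMap.range Ψ := by
      intro i
      cases i with
      | zero =>
        intro p hp
        rw [Nat.cast_zero, add_zero] at hp
        suffices ∃ r, Φ r = p by obtain ⟨r, rfl⟩ := this; exact ⟨r, rfl⟩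
        have hz := (hP.image_piece (-b)).subset ⟨p, hp, rfl⟩
        have hle : GrSeg.segrePiece k (fun n => 𝒜 (n + a)) (fun n => ℬ (n + b)) (-b) ≤
            (LinearMap.range Φ).map φ := by
          refine Submodule.span_le.2 ?_
          rintro _ ⟨c, hc, d, hd, rfl⟩
          have hd' : d ∈ ℬ (-b + b) := hd
          rw [neg_add_cancel, h0S] at hd'
          obtain ⟨e, rfl⟩ := Submodule.mem_span_singleton.1 hd'
          have hc' : c ∈ 𝒜 (a - b) := by have h : c ∈ 𝒜 (-b + a) := hc; rwa [neg_add_eq_sub] at h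
          refine ⟨e • Φ ⟨c, hc'⟩, Submodule.smul_mem _ _ ⟨_, rfl⟩, ?_⟩
          change φ (e • ι ⟨c, hc'⟩) = _
          rw [map_smul, hιφ, TensorProduct.tmul_smul]
        obtain ⟨p', ⟨r, rfl⟩, e⟩ := hle hz
        exact ⟨r, hP.injective e⟩
      | succ i =>
        intro p hp
        refine ⟨0, ?_⟩
        rw [map_zero]
        refine ((Submodule.Quotient.mk_eq_zero N).2 ?_).symm
        have hz := (hP.image_piece _).subset ⟨p, hp, rfl⟩
        have hle : GrSeg.segrePiece k (fun n => 𝒜 (n + a)) (fun n => ℬ (n + b)) (-b + (i + 1 : ℕ)) ≤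
            (N.restrictScalars k).map φ := by
          refine Submodule.span_le.2 ?_
          rintro _ ⟨c, hc, d, hd, rfl⟩
          have hc' : c ∈ 𝒜 (-b + (i + 1 : ℕ) + a) := hc
          have hd' : d ∈ ℬ (-b + (i + 1 : ℕ) + b) := hd
          obtain ⟨u, hu, rfl⟩ := exists_eq_sum_deg_one 𝒜 hF hFs (by omega) hc'
          obtain ⟨v, hv, rfl⟩ := exists_eq_sum_deg_one ℬ hG hGs (by omega) hd'
          rw [TensorProduct.sum_tmul]
          refine sum_mem fun f hf => ?_
          rw [TensorProduct.tmul_sum]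
          refine sum_mem fun g hg => ?_
          obtain ⟨t, ht, hψ⟩ := exists_psi hT (Submodule.subset_span ⟨f, hF f hf, g, hG g hg, rfl⟩ :
            f ⊗ₜ[k] g ∈ GrSeg.segrePiece k 𝒜 ℬ 1)
          obtain ⟨q, -, hq⟩ := (hP.image_piece (-b + i)).symm.subset (Submodule.subset_span
            ⟨u f, (show u f ∈ 𝒜 (-b + i + a) by
              rw [show -b + (i : ℤ) + a = -b + ((i + 1 : ℕ) : ℤ) + a - 1 by omega]; exact hu f hf),
              v g, (show v g ∈ ℬ (-b + i + b) by
              rw [show -b + (i : ℤ) + b = -b + ((i + 1 : ℕ) : ℤ) + b - 1 by omega]; exact hv g hg), rfl⟩)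
          refine ⟨t • q, Submodule.smul_mem_smul (hmT ▸ Ideal.subset_span
            (Set.mem_biUnion (Set.mem_Ioi.2 one_pos) ht)) Submodule.mem_top, ?_⟩
          rw [hP.map_smul, hψ, hq, GrSeg.act_tmul, smul_eq_mul, smul_eq_mul, mul_comm f, mul_comm g]
        obtain ⟨q, hq, e⟩ := hle hz
        rw [← hP.injective e]
        exact hq
    induction p using gr_induction 𝒬 with
    | h0 => rw [map_zero]; exact zero_mem _
    | hadd u v hu hv => rw [map_add]; exact add_mem hu hv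
    | hh h p hp =>
      rcases lt_or_ge h (-b) with hh | hh
      · rw [hlow h hh p hp, map_zero]; exact zero_mem _
      · obtain ⟨i, rfl⟩ : ∃ i : ℕ, h = -b + i := ⟨(h + b).toNat, by omega⟩
        exact key i p hp
  exact ((LinearEquiv.ofBijective Ψ ⟨hinj, hsurj⟩).finrank_eq).symm

end GrothLib.Segre
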