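import Groth.Agent.Lib.Segre.GorTools
import Groth.Agent.Lib.GrLC.TwoLe

/-!
# A Segre product that is free of rank one
-/

universe u

open DirectSum
open scoped TensorProduct

namespace GrothLib.Segre

open _root_.GrLC (GMod IsGrHomDeg)
open GrothLib.GrLC (cmp cmp_mem cmp_of_mem cmp_of_mem_ne gr_induction eq_zero_of_cmp cmp_smul_mem smul_mem' exists_sum_cmp)

noncomputable section

variable {k : Type u} [Field k]

theorem left_eq_zero_of_tmul {A B : Type u} [AddCommGroup A] [Module k A] [AddCommGroup B] [Module k B] {a : A}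
    {b : B} (h : a ⊗ₜ[k] b = 0) (hb : b ≠ 0) : a = 0 := by
  obtain ⟨f, hf⟩ := Module.Projective.exists_dual_ne_zero k hb
  have h1 : f b • a = 0 := by
    simpa using congrArg ((TensorProduct.rid k A).toLinearMap ∘ₗ LinearMap.lTensor A f) h
  exact (smul_eq_zero.1 h1).resolve_left hf

variable {R : Type u} [CommRing R] [Algebra k R] {S : Type u} [CommRing S] [Algebra k S]
  {T : Type u} [CommRing T] [Algebra k T] {𝒜 : ℤ → Submodule k R} [GradedAlgebra 𝒜] {ℬ : ℤ → Submodule k S}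
  [GradedAlgebra ℬ] {𝒯 : ℤ → Submodule k T} [GradedAlgebra 𝒯] {ψ : T →ₐ[k] R ⊗[k] S}
  (hT : GrSeg.IsSegreRing 𝒜 ℬ 𝒯 ψ) {X : GMod.{u} 𝒜} {Y : GMod.{u} ℬ} {c : ℤ}
  (h : T →ₗ[T] (segMod X Y hT).carrier) (hh : Function.Bijective h)
  (hd : IsGrHomDeg 𝒯 (segMod X Y hT).gr h c) (h0T : 𝒯 0 = Submodule.span k {(1 : T)})

omit [GradedAlgebra ℬ] in
/-- Bijectivity of the multiplication by a homogeneous element is checked in each degree. -/
theorem bijective_toSpanSingleton {x : X.carrier} (hx : x ∈ X.gr c) (hinj : ∀ j, ∀ r ∈ 𝒜 j, r • x = 0 → r = 0)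
    (hsurj : ∀ g, ∀ w ∈ X.gr g, ∃ r : R, r • x = w) : Function.Bijective (LinearMap.toSpanSingleton R X.carrier x) := by
  classical
  refine ⟨(injective_iff_map_eq_zero _).2 fun r hr => eq_zero_of_cmp 𝒜 fun j => hinj j _ (cmp_mem 𝒜 j r) ?_, fun w => ?_⟩
  · have := congrArg (cmp X.gr (j + c)) (show r • x = 0 from hr)
    rwa [cmp_smul_mem (𝒜 := 𝒜) X.gr r hx, add_sub_cancel_right, map_zero] at this
  · induction w using gr_induction X.gr with
    | h0 => exact ⟨0, map_zero _⟩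
    | hadd a b ha hb =>
      obtain ⟨r, hr⟩ := ha
      obtain ⟨r', hr'⟩ := hb
      exact ⟨r + r', by rw [map_add, hr, hr']⟩
    | hh g w hw => exact hsurj g w hw

include hh hd h0T in
/-- The generator of a free Segre product is a pure tensor of generators. -/
theorem exists_gens [Nontrivial T] : ∃ (x : X.carrier) (y : Y.carrier), x ∈ X.gr c ∧ y ∈ Y.gr c ∧ x ≠ 0 ∧ y ≠ 0 ∧
    (∀ a ∈ X.gr c, ∃ l : k, a = l • x) ∧ (∀ b ∈ Y.gr c, ∃ l : k, b = l • y) ∧
    (∀ t : T, GrSeg.act k R S X.carrier Y.carrier (ψ t) (x ⊗ₜ[k] y) = 0 → t = 0) ∧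
    (∀ j, ∀ v ∈ GrSeg.segrePiece k X.gr Y.gr (j + c), ∃ t ∈ 𝒯 j,
      GrSeg.act k R S X.carrier Y.carrier (ψ t) (x ⊗ₜ[k] y) = v) := by
  classical
  let z := sval hT (h 1)
  have hsv : ∀ t, sval hT (h t) = GrSeg.act k R S X.carrier Y.carrier (ψ t) z := fun t => by
    rw [← mul_one t, ← smul_eq_mul, map_smul h, sval_smul, smul_eq_mul, mul_one]
  have hz : z ∈ GrSeg.segrePiece k X.gr Y.gr c := by
    have := hd 0 1 SetLike.GradedOne.one_mem
    rwa [zero_add] at this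
  have hpre : ∀ j, ∀ v ∈ GrSeg.segrePiece k X.gr Y.gr (j + c), ∃ t ∈ 𝒯 j, sval hT (h t) = v := by
    intro j v hv
    obtain ⟨t, ht⟩ := hh.2 (smk hT v (piece_le_segSub _ hv))
    refine ⟨cmp 𝒯 j t, cmp_mem 𝒯 j t, ?_⟩
    have hw : smk hT v (piece_le_segSub _ hv) ∈ (segMod X Y hT).gr (j + c) := hv
    have e : h (cmp 𝒯 j t) = smk hT v (piece_le_segSub _ hv) := by
      obtain ⟨S', hS⟩ := exists_sum_cmp 𝒯 t
      conv_rhs => rw [← cmp_of_mem (segMod X Y hT).gr hw, ← ht, hS, map_sum, map_sum]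
      rw [Finset.sum_eq_single j (fun i _ hne => cmp_of_mem_ne (segMod X Y hT).gr (hd i _ (cmp_mem 𝒯 i t)) (by omega))
        (fun hj => by
          have h0 : cmp 𝒯 j t = 0 := by
            rw [hS, map_sum]
            exact Finset.sum_eq_zero fun i hi => cmp_of_mem_ne 𝒯 (cmp_mem 𝒯 i t) fun e => hj (e ▸ hi)
          rw [h0, map_zero, map_zero]), cmp_of_mem (segMod X Y hT).gr (hd j _ (cmp_mem 𝒯 j t))]
    rw [e, sval_smk]
  have hline : ∀ v ∈ GrSeg.segrePiece k X.gr Y.gr c, ∃ l : k, v = l • z := fun v hv => by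
    obtain ⟨t, ht, htv⟩ := hpre 0 v (by rwa [zero_add])
    obtain ⟨l, rfl⟩ := Submodule.mem_span_singleton.1 (h0T.le ht)
    exact ⟨l, by rw [← htv, hsv, map_smul ψ, map_one, map_smul, LinearMap.smul_apply, act_one_apply]⟩
  have hz0 : z ≠ 0 := fun e => one_ne_zero (hh.1 ((sval_injective hT (e.trans (map_zero (sval hT)).symm)).trans
    (map_zero h).symm))
  obtain ⟨x, hx, y, hy, hxy⟩ : ∃ x ∈ X.gr c, ∃ y ∈ Y.gr c, x ⊗ₜ[k] y ≠ 0 := by
    by_contra hcon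
    push_neg at hcon
    refine hz0 ?_
    suffices ∀ v ∈ GrSeg.segrePiece k X.gr Y.gr c, v = 0 from this z hz
    intro v hv
    induction hv using Submodule.span_induction with
    | mem v hv => obtain ⟨a, ha, b, hb, rfl⟩ := hv; exact hcon a ha b hb
    | zero => rfl
    | add a b _ _ ha hb => rw [ha, hb, add_zero]
    | smul l a _ ha => rw [ha, smul_zero]
  obtain ⟨μ, hμ⟩ := hline _ (Submodule.subset_span ⟨x, hx, y, hy, rfl⟩)
  have hμ0 : μ ≠ 0 := fun e => hxy (by rw [hμ, e, zero_smul])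
  have hz' : z = μ⁻¹ • x ⊗ₜ[k] y := by rw [hμ, inv_smul_smul₀ hμ0]
  have hx0 : x ≠ 0 := fun e => hxy (by rw [e, TensorProduct.zero_tmul])
  have hy0 : y ≠ 0 := fun e => hxy (by rw [e, TensorProduct.tmul_zero])
  refine ⟨x, y, hx, hy, hx0, hy0, fun a ha => ?_, fun b hb => ?_, fun t ht => hh.1 ?_, fun j v hv => ?_⟩
  · obtain ⟨l, hl⟩ := hline _ (Submodule.subset_span ⟨a, ha, y, hy, rfl⟩)
    refine ⟨l * μ⁻¹, sub_eq_zero.1 (left_eq_zero_of_tmul (k := k) (a := a - (l * μ⁻¹) • x) (b := y) ?_ hy0)⟩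
    rw [TensorProduct.sub_tmul, ← TensorProduct.smul_tmul', hl, hz', smul_smul, sub_self]
  · obtain ⟨l, hl⟩ := hline _ (Submodule.subset_span ⟨x, hx, b, hb, rfl⟩)
    refine ⟨l * μ⁻¹, sub_eq_zero.1 (left_eq_zero_of_tmul (k := k) (a := b - (l * μ⁻¹) • y) (b := x) ?_ hx0)⟩
    refine (TensorProduct.comm k Y.carrier X.carrier).injective ?_
    rw [TensorProduct.comm_tmul, TensorProduct.tmul_sub, TensorProduct.tmul_smul, hl, hz', smul_smul, sub_self,
      map_zero]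
  · rw [map_zero]
    refine sval_injective hT ?_
    rw [hsv, hz', map_smul, ht, smul_zero, map_zero]
  · obtain ⟨t, ht, htv⟩ := hpre j v hv
    refine ⟨μ⁻¹ • t, Submodule.smul_mem _ _ ht, ?_⟩
    rw [map_smul ψ, map_smul, LinearMap.smul_apply, ← map_smul, ← hz', ← hsv, htv]

variable {x : X.carrier} {y : Y.carrier} (hx : x ∈ X.gr c) (hy : y ∈ Y.gr c)
  (hinjT : ∀ t : T, GrSeg.act k R S X.carrier Y.carrier (ψ t) (x ⊗ₜ[k] y) = 0 → t = 0)
  (hsurjT : ∀ j, ∀ v ∈ GrSeg.segrePiece k X.gr Y.gr (j + c), ∃ t ∈ 𝒯 j,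
    GrSeg.act k R S X.carrier Y.carrier (ψ t) (x ⊗ₜ[k] y) = v)

include hT hinjT in
theorem smul_ne_zero_pair {j : ℤ} {r : R} (hr : r ∈ 𝒜 j) (hr0 : r ≠ 0) {s : S} (hs : s ∈ ℬ j) (hs0 : s ≠ 0) :
    r • x ≠ 0 ∧ s • y ≠ 0 := by
  obtain ⟨t, -, ht⟩ := exists_psi hT (Submodule.subset_span ⟨r, hr, s, hs, rfl⟩ :
    r ⊗ₜ[k] s ∈ GrSeg.segrePiece k 𝒜 ℬ j)
  have key : (r • x) ⊗ₜ[k] (s • y) ≠ 0 := fun e => by
    have h0 := hinjT t (by rw [ht, GrSeg.act_tmul]; exact e)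
    rw [h0, map_zero] at ht
    exact hs0 (by
      by_contra hne
      exact hr0 (left_eq_zero_of_tmul ht.symm hne))
  exact ⟨fun e => key (by rw [e, TensorProduct.zero_tmul]), fun e => key (by rw [e, TensorProduct.tmul_zero])⟩

include hT hx hy hinjT hsurjT in
/-- Both factors are free of rank one. -/
theorem bijective_of_segre_free (hposR : ∀ n : ℤ, n < 0 → 𝒜 n = ⊥)
    (hneR : ∀ n : ℤ, 0 ≤ n → 𝒜 n ≠ ⊥) (hneS : ∀ n : ℤ, 0 ≤ n → ℬ n ≠ ⊥)
    (hlX : ∀ g < c, ∀ w ∈ X.gr g, w = 0) :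
    Function.Bijective (LinearMap.toSpanSingleton R X.carrier x) := by
  classical
  refine bijective_toSpanSingleton hx (fun j r hr h0 => ?_) fun g w hw => ?_
  · by_contra hr0
    rcases lt_or_ge j 0 with hj | hj
    · exact hr0 (by rwa [hposR j hj, Submodule.mem_bot] at hr)
    obtain ⟨s, hs, hs0⟩ := Submodule.exists_mem_ne_zero_of_ne_bot (hneS j hj)
    exact (smul_ne_zero_pair hT hinjT hr hr0 hs hs0).1 h0
  · rcases lt_or_ge g c with hg | hg
    · exact ⟨0, by rw [zero_smul, hlX g hg w hw]⟩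
    obtain ⟨r, hr, hr0⟩ := Submodule.exists_mem_ne_zero_of_ne_bot (hneR (g - c) (by omega))
    obtain ⟨s, hs, hs0⟩ := Submodule.exists_mem_ne_zero_of_ne_bot (hneS (g - c) (by omega))
    have hsy := (smul_ne_zero_pair hT hinjT hr hr0 hs hs0).2
    have hgy : s • y ∈ Y.gr (g - c + c) := smul_mem' (𝒜 := ℬ) Y.gr hs hy
    obtain ⟨t, ht, htv⟩ := hsurjT (g - c) _ (Submodule.subset_span ⟨w, by rwa [sub_add_cancel], _, hgy, rfl⟩ :
      w ⊗ₜ[k] (s • y) ∈ GrSeg.segrePiece k X.gr Y.gr (g - c + c))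
    obtain ⟨f, hf⟩ := Module.Projective.exists_dual_ne_zero k hsy
    let φ := (TensorProduct.rid k X.carrier).toLinearMap ∘ₗ LinearMap.lTensor X.carrier f
    have him : ∀ z ∈ GrSeg.segrePiece k 𝒜 ℬ (g - c), ∃ r' : R,
        φ (GrSeg.act k R S X.carrier Y.carrier z (x ⊗ₜ[k] y)) = r' • x := by
      intro z hz
      induction hz using Submodule.span_induction with
      | mem z hz =>
        obtain ⟨a, ha, b, hb, rfl⟩ := hz
        exact ⟨f (b • y) • a, by simp [φ, GrSeg.act_tmul, smul_assoc]⟩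
      | zero => exact ⟨0, by simp⟩
      | add a b _ _ ha hb =>
        obtain ⟨p, hp⟩ := ha
        obtain ⟨q, hq⟩ := hb
        exact ⟨p + q, by simp [map_add, hp, hq, add_smul]⟩
      | smul l a _ ha =>
        obtain ⟨p, hp⟩ := ha
        exact ⟨l • p, by simp [map_smul, hp, smul_assoc]⟩
    obtain ⟨r', hr'⟩ := him _ (psi_mem hT ht)
    rw [htv] at hr'
    have e : φ (w ⊗ₜ[k] (s • y)) = f (s • y) • w := by simp [φ]
    rw [e] at hr'
    exact ⟨(f (s • y))⁻¹ • r', by rw [smul_assoc, ← hr', inv_smul_smul₀ hf]⟩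

include hT hx hy hinjT hsurjT in
/-- Both factors are free of rank one. -/
theorem bijective_of_segre_free_right (hposS : ∀ n : ℤ, n < 0 → ℬ n = ⊥)
    (hneR : ∀ n : ℤ, 0 ≤ n → 𝒜 n ≠ ⊥) (hneS : ∀ n : ℤ, 0 ≤ n → ℬ n ≠ ⊥)
    (hlY : ∀ g < c, ∀ w ∈ Y.gr g, w = 0) :
    Function.Bijective (LinearMap.toSpanSingleton S Y.carrier y) := by
  classical
  refine bijective_toSpanSingleton (𝒜 := ℬ) hy (fun j s hs h0 => ?_) fun g w hw => ?_
  · by_contra hs0
    rcases lt_or_ge j 0 with hj | hj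
    · exact hs0 (by rwa [hposS j hj, Submodule.mem_bot] at hs)
    obtain ⟨r, hr, hr0⟩ := Submodule.exists_mem_ne_zero_of_ne_bot (hneR j hj)
    exact (smul_ne_zero_pair hT hinjT hr hr0 hs hs0).2 h0
  · rcases lt_or_ge g c with hg | hg
    · exact ⟨0, by rw [zero_smul, hlY g hg w hw]⟩
    obtain ⟨r, hr, hr0⟩ := Submodule.exists_mem_ne_zero_of_ne_bot (hneR (g - c) (by omega))
    obtain ⟨s, hs, hs0⟩ := Submodule.exists_mem_ne_zero_of_ne_bot (hneS (g - c) (by omega))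
    have hrx := (smul_ne_zero_pair hT hinjT hr hr0 hs hs0).1
    have hgx : r • x ∈ X.gr (g - c + c) := smul_mem' (𝒜 := 𝒜) X.gr hr hx
    obtain ⟨t, ht, htv⟩ := hsurjT (g - c) _ (Submodule.subset_span ⟨_, hgx, w, by rwa [sub_add_cancel], rfl⟩ :
      (r • x) ⊗ₜ[k] w ∈ GrSeg.segrePiece k X.gr Y.gr (g - c + c))
    obtain ⟨f, hf⟩ := Module.Projective.exists_dual_ne_zero k hrx
    let φ := (TensorProduct.lid k Y.carrier).toLinearMap ∘ₗ LinearMap.rTensor Y.carrier f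
    have him : ∀ z ∈ GrSeg.segrePiece k 𝒜 ℬ (g - c), ∃ s' : S,
        φ (GrSeg.act k R S X.carrier Y.carrier z (x ⊗ₜ[k] y)) = s' • y := by
      intro z hz
      induction hz using Submodule.span_induction with
      | mem z hz =>
        obtain ⟨a, ha, b, hb, rfl⟩ := hz
        exact ⟨f (a • x) • b, by simp [φ, GrSeg.act_tmul, smul_assoc]⟩
      | zero => exact ⟨0, by simp⟩
      | add a b _ _ ha hb =>
        obtain ⟨p, hp⟩ := ha
        obtain ⟨q, hq⟩ := hb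
        exact ⟨p + q, by simp [map_add, hp, hq, add_smul]⟩
      | smul l a _ ha =>
        obtain ⟨p, hp⟩ := ha
        exact ⟨l • p, by simp [map_smul, hp, smul_assoc]⟩
    obtain ⟨s', hs'⟩ := him _ (psi_mem hT ht)
    rw [htv] at hs'
    have e : φ ((r • x) ⊗ₜ[k] w) = f (r • x) • w := by simp [φ]
    rw [e] at hs'
    exact ⟨(f (r • x))⁻¹ • s', by rw [smul_assoc, ← hs', inv_smul_smul₀ hf]⟩

end

end GrothLib.Segre
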