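import Groth.Agent.Lib.Segre.Trunc
import Groth.Agent.Lib.GrLC.Pieces
import Mathlib.LinearAlgebra.Dimension.Basic

/-!
# The harmonic vectors of the truncation in one degree
-/

universe u

open DirectSum
open scoped TensorProduct

namespace GrothLib.Segre

open GrothLib.GrLC
open _root_.GrLC (GMod IsGrHom deg0 comp)
open GrothLib.GrDual (pieceK)

noncomputable section

section Scalars

variable {k : Type u} [Field k] {R : Type u} [CommRing R] [Algebra k R] (𝒜 : ℤ → Submodule k R) [GradedAlgebra 𝒜]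

/-- the base into the degree zero part -/
def baseHom : k →+* deg0 𝒜 :=
  (algebraMap k R).codRestrict (deg0 𝒜) fun c => SetLike.algebraMap_mem_graded 𝒜 c

theorem coe_baseHom (c : k) : (baseHom 𝒜 c : R) = algebraMap k R c := rfl

theorem baseHom_bijective [Nontrivial R] (h0 : 𝒜 0 = Submodule.span k {(1 : R)}) :
    Function.Bijective (baseHom 𝒜) := by
  refine ⟨(baseHom 𝒜).injective, fun ⟨r, hr⟩ => ?_⟩
  obtain ⟨c, hc⟩ := Submodule.mem_span_singleton.1 (h0.le hr)
  exact ⟨c, Subtype.ext ((Algebra.algebraMap_eq_smul_one c).trans hc)⟩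

theorem finrank_eq_of_semilinear [Nontrivial R] (h0 : 𝒜 0 = Submodule.span k {(1 : R)}) {W H : Type u}
    [AddCommGroup W] [Module k W] [AddCommGroup H] [Module (deg0 𝒜) H] (Φ : W →+ H)
    (hΦ : Function.Bijective Φ) (hc : ∀ (c : k) (w : W), Φ (c • w) = baseHom 𝒜 c • Φ w) :
    Module.finrank (deg0 𝒜) H = Module.finrank k W :=
  (congrArg Cardinal.toNat (rank_eq_of_equiv_equiv (baseHom 𝒜) (AddEquiv.ofBijective Φ hΦ)
    (baseHom_bijective 𝒜 h0) hc)).symm

end Scalars

variable {k : Type u} [Field k] {R : Type u} [CommRing R] [Algebra k R] {𝒜 : ℤ → Submodule k R} [GradedAlgebra 𝒜]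
  (C : GCx.{u} 𝒜) (L : ℕ) (d : ℤ)

/-- the degree `d` part of the truncation -/
abbrev degV : Submodule k (trunc C L).carrier := pieceK 𝒜 (trunc C L).gr d

/-- the degree `d` part as a graded differential vector space -/
def degGD : GDiff k (degV C L d) :=
  (truncGD C L).restrict (degV C L d) (fun x hx => isHom_td C L d x hx) fun a x hx => isHom_tπT C L a d x hx

/-- harmonic vectors of a spot -/
abbrev harm (a : ℕ) : Submodule k (degV C L d) := LinearMap.range ((degGD C L d).e * (degGD C L d).π a)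

theorem coe_degGD_d (w : degV C L d) : ((degGD C L d).d w : (trunc C L).carrier) = td C L w.1 := rfl

theorem coe_degGD_π (a : ℕ) (w : degV C L d) : ((degGD C L d).π a w : (trunc C L).carrier) = tπT C L a w.1 := rfl

theorem coe_degGD_σ (w : degV C L d) : ((degGD C L d).σ w : (trunc C L).carrier) = tσT C L w.1 :=
  ((truncGD C L).restrict_σ _ _ _ w).trans (truncGD_σ_apply C L w.1)

variable {C L d}

theorem e_of_harm {a : ℕ} {w : degV C L d} (hw : w ∈ harm C L d a) : (degGD C L d).e w = w := by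
  obtain ⟨y, rfl⟩ := hw
  rw [← Module.End.mul_apply, ← mul_assoc, GDiff.e_e]

theorem π_of_harm {a : ℕ} {w : degV C L d} (hw : w ∈ harm C L d a) : (degGD C L d).π a w = w := by
  obtain ⟨y, rfl⟩ := hw
  rw [← Module.End.mul_apply, ← mul_assoc, GDiff.π_e, mul_assoc, GDiff.π_self]

theorem d_of_harm {a : ℕ} {w : degV C L d} (hw : w ∈ harm C L d a) : (degGD C L d).d w = 0 := by
  rw [← e_of_harm hw, ← Module.End.mul_apply, GDiff.d_e, LinearMap.zero_apply]

theorem temb_tpr_of_harm {a : ℕ} {w : degV C L d} (hw : w ∈ harm C L d a) :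
    temb C L a (tpr C L a w.1) = w.1 := by
  rw [temb_tpr, ← coe_degGD_π, π_of_harm hw]

/-- a vector of a spot in the degree -/
def tmk (a : ℕ) (z : (C.X (a + 1)).carrier) (hg : z ∈ (C.X (a + 1)).gr d) : degV C L d :=
  ⟨temb C L a z, isHom_temb C L a d z hg⟩

theorem coe_tmk {a : ℕ} (z : (C.X (a + 1)).carrier) (hg : z ∈ (C.X (a + 1)).gr d) :
    (tmk (L := L) a z hg : (trunc C L).carrier) = temb C L a z := rfl

theorem π_tmk {a : ℕ} (z : (C.X (a + 1)).carrier) (hg : z ∈ (C.X (a + 1)).gr d) :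
    (degGD C L d).π a (tmk a z hg) = tmk a z hg := Subtype.ext (π_temb C L a z)

theorem d_tmk {a : ℕ} (z : (C.X (a + 1)).carrier) (hg : z ∈ (C.X (a + 1)).gr d) :
    (degGD C L d).d (tmk a z hg) = tmk (a + 1) (C.d (a + 1) z) (C.d_hom (a + 1) d z hg) :=
  Subtype.ext (td_temb a z)

theorem tmk_zero {a : ℕ} {z : (C.X (a + 1)).carrier} (hg : z ∈ (C.X (a + 1)).gr d) (h : z = 0) :
    (tmk a z hg : degV C L d) = 0 :=
  Subtype.ext (show temb C L a z = 0 by rw [h, map_zero])

theorem e_tmk_mem {a : ℕ} (z : (C.X (a + 1)).carrier) (hg : z ∈ (C.X (a + 1)).gr d) :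
    (degGD C L d).e (tmk a z hg) ∈ harm C L d a := ⟨tmk a z hg, by rw [Module.End.mul_apply, π_tmk]⟩

theorem e_tmk_zero {z : (C.X 1).carrier} (hg : z ∈ (C.X 1).gr d) (hc : C.d 1 z = 0) :
    (degGD C L d).e (tmk 0 z hg) = tmk 0 z hg := by
  set G := degGD C L d with hG
  have hd : G.d (tmk 0 z hg) = 0 := (d_tmk z hg).trans (tmk_zero _ hc)
  have h := congrArg (G.π 0) (G.sub_e_eq hd)
  rw [← Module.End.mul_apply (G.π 0) G.d, G.π_zero_d, LinearMap.zero_apply, map_sub, π_tmk,
    ← Module.End.mul_apply (G.π 0) G.e, G.π_e, Module.End.mul_apply, π_tmk, sub_eq_zero] at h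
  exact h.symm

variable (hz : ∀ a, L ≤ a → ∀ z : (C.X (a + 1)).carrier, z = 0)

include hz

theorem tpr_cyc_of_harm {a : ℕ} {w : degV C L d} (hw : w ∈ harm C L d a) :
    tpr C L a w.1 ∈ C.cyc (a + 1) := by
  rcases lt_or_ge (a + 1) L with h | h
  · change C.d (a + 1) (tpr C L a w.1) = 0
    rw [← tpr_td C L a h, ← coe_degGD_d, d_of_harm hw]
    exact map_zero _
  · exact hz (a + 1) h _

omit hz in
theorem tpr_gr (a : ℕ) (w : degV C L d) : tpr C L a w.1 ∈ (C.X (a + 1)).gr d := isHom_tpr C L a d w.1 w.2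

theorem harm_eq_zero_of_bdy {a : ℕ} {w : degV C L d} (hw : w ∈ harm C L d (a + 1))
    (h : tpr C L (a + 1) w.1 ∈ C.bdy (a + 2)) : w = 0 := by
  obtain ⟨u₀, hu₀⟩ := h
  set u := cmp (C.X (a + 1)).gr d u₀ with hu'
  have hu : C.d (a + 1) u = tpr C L (a + 1) w.1 := by
    rw [hu', (C.d_hom (a + 1)).cmp, hu₀, cmp_of_mem _ (tpr_gr _ w)]
  have hwu : w = (degGD C L d).d (tmk a u (cmp_mem _ d u₀)) :=
    Subtype.ext (by rw [coe_degGD_d, coe_tmk, td_temb, hu, temb_tpr_of_harm hw])
  rw [← e_of_harm hw, hwu, ← Module.End.mul_apply, GDiff.e_d, LinearMap.zero_apply]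

theorem sub_tpr_e_mem_bdy {a : ℕ} {z : (C.X (a + 2)).carrier} (hg : z ∈ (C.X (a + 2)).gr d)
    (hc : C.d (a + 2) z = 0) :
    z - tpr C L (a + 1) ((degGD C L d).e (tmk (a + 1) z hg)).1 ∈ C.bdy (a + 2) := by
  set G := degGD C L d with hG
  set w := tmk (L := L) (a + 1) z hg with hw
  have hd : G.d w = 0 := (d_tmk z hg).trans (tmk_zero _ hc)
  rcases lt_or_ge (a + 1) L with h | h
  · have he := congrArg Subtype.val (G.sub_e_eq hd)
    have he' := congrArg (tpr C L (a + 1)) he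
    rw [Submodule.coe_sub, map_sub, coe_degGD_d, tpr_td C L a h, coe_tmk, tpr_temb hz] at he'
    exact ⟨_, he'.symm⟩
  · rw [hz (a + 1) h (z - _)]
    exact zero_mem _

/-- Higher harmonic vectors vanish exactly when the cohomology does. -/
theorem subsingleton_harm_succ (a : ℕ) : Subsingleton (harm C L d (a + 1)) ↔ C.Vanish (a + 2) d := by
  constructor
  · intro h z hzc hg
    have h0 : (⟨_, e_tmk_mem (L := L) z hg⟩ : harm C L d (a + 1)) = 0 := Subsingleton.elim _ _
    have := sub_tpr_e_mem_bdy hz hg hzc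
    rwa [show (degGD C L d).e (tmk (a + 1) z hg) = 0 from congrArg Subtype.val h0, ZeroMemClass.coe_zero, map_zero,
      sub_zero] at this
  · intro h
    refine subsingleton_of_forall_eq 0 fun w => Subtype.ext ?_
    exact harm_eq_zero_of_bdy hz w.2 (h _ (tpr_cyc_of_harm hz w.2) (tpr_gr _ w.1))

/-- Higher harmonic vectors are the cohomology. -/
theorem finrank_harm_succ [Nontrivial R] (h0 : 𝒜 0 = Submodule.span k {(1 : R)}) (a : ℕ) :
    Module.finrank (deg0 𝒜) (HP C (a + 2) d) = Module.finrank k (harm C L d (a + 1)) := by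
  let f : harm C L d (a + 1) →+ HP C (a + 2) d :=
    AddMonoidHom.mk' (fun w => Submodule.Quotient.mk
      (⟨tpr C L (a + 1) w.1.1, tpr_gr _ w.1, tpr_cyc_of_harm hz w.2⟩ : ZP C (a + 2) d)) fun u v => by
      rw [← Submodule.Quotient.mk_add]
      exact congrArg _ (Subtype.ext (map_add (tpr C L (a + 1)) u.1.1 v.1.1))
  refine finrank_eq_of_semilinear 𝒜 h0 f ⟨(injective_iff_map_eq_zero f).2 fun w hw => ?_, fun q => ?_⟩ fun c w => ?_
  · exact Subtype.ext (harm_eq_zero_of_bdy hz w.2 ((HP_mk_eq_zero C _).1 hw))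
  · obtain ⟨⟨z, hg, hc⟩, rfl⟩ := Submodule.Quotient.mk_surjective _ q
    refine ⟨⟨_, e_tmk_mem z hg⟩, ?_⟩
    refine (Submodule.Quotient.eq _).2 ?_
    have := neg_mem (sub_tpr_e_mem_bdy hz hg hc)
    rwa [neg_sub] at this
  · change Submodule.Quotient.mk _ = baseHom 𝒜 c • Submodule.Quotient.mk _
    rw [← Submodule.Quotient.mk_smul]
    refine congrArg _ ?_
    exact Subtype.ext (((tpr C L (a + 1)).map_smul_of_tower c w.1.1).trans (algebraMap_smul R c _).symm)

/-- Harmonic vectors of spot zero are the cocycles. -/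
theorem subsingleton_harm_zero :
    Subsingleton (harm C L d 0) ↔ ∀ z ∈ C.cyc 1, z ∈ (C.X 1).gr d → z = 0 := by
  constructor
  · intro h z hc hg
    have hm : tmk (L := L) 0 z hg ∈ harm C L d 0 := e_tmk_zero (L := L) hg hc ▸ e_tmk_mem z hg
    have h0 : (⟨_, hm⟩ : harm C L d 0) = 0 := Subsingleton.elim _ _
    have := congrArg (fun w : harm C L d 0 => tpr C L 0 w.1.1) h0
    simpa [coe_tmk, tpr_temb hz] using this
  · intro h
    refine subsingleton_of_forall_eq 0 fun w => Subtype.ext (Subtype.ext ?_)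
    rw [← temb_tpr_of_harm w.2, h _ (tpr_cyc_of_harm hz w.2) (tpr_gr _ w.1), map_zero]
    rfl

variable (C L d) in
omit hz in
/-- the augmentation onto spot zero -/
def augHarm : pieceK 𝒜 (C.X 0).gr d →ₗ[k] harm C L d 0 :=
  LinearMap.codRestrict _
    (LinearMap.codRestrict (degV C L d) ((taug C L).restrictScalars k ∘ₗ (pieceK 𝒜 (C.X 0).gr d).subtype)
      fun x => isHom_taug C L d x.1 x.2)
    fun x => show tmk (L := L) 0 (C.d 0 x.1) (C.d_hom 0 d x.1 x.2) ∈ harm C L d 0 by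
      rw [← e_tmk_zero (L := L) (C.d_hom 0 d x.1 x.2) (C.d_d 0 x.1)]
      exact e_tmk_mem _ _

omit hz in
theorem coe_augHarm (x : pieceK 𝒜 (C.X 0).gr d) :
    ((augHarm C L d x : degV C L d) : (trunc C L).carrier) = taug C L x.1 := rfl

/-- The augmentation is onto the harmonic vectors exactly when the first cohomology vanishes. -/
theorem augHarm_surjective_iff : Function.Surjective (augHarm C L d) ↔ C.Vanish 1 d := by
  constructor
  · intro h z hc hg
    obtain ⟨x, hx⟩ := h ⟨_, e_tmk_mem z hg⟩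
    refine ⟨x.1, ?_⟩
    have := congrArg (fun w : harm C L d 0 => tpr C L 0 w.1.1) hx
    simpa [coe_augHarm, taug, e_tmk_zero (L := L) hg hc, coe_tmk, tpr_temb hz] using this
  · intro h w
    obtain ⟨x, hx⟩ := h _ (tpr_cyc_of_harm hz w.2) (tpr_gr _ w.1)
    refine ⟨⟨cmp (C.X 0).gr d x, cmp_mem (C.X 0).gr d x⟩, Subtype.ext (Subtype.ext ?_)⟩
    rw [coe_augHarm, taug, LinearMap.comp_apply, (C.d_hom 0).cmp, hx, cmp_of_mem _ (tpr_gr _ w.1),
      temb_tpr_of_harm w.2]

theorem augHarm_injective (hinj : ∀ x ∈ (C.X 0).gr d, C.d 0 x = 0 → x = 0) :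
    Function.Injective (augHarm C L d) := by
  refine (injective_iff_map_eq_zero _).2 fun x hx => Subtype.ext (hinj x.1 x.2 ?_)
  have := congrArg (fun w : harm C L d 0 => tpr C L 0 w.1.1) hx
  simpa [coe_augHarm, taug, tpr_temb hz] using this

/-- Harmonic vectors of spot zero are the first term, when it has no cohomology in spots zero and one. -/
theorem finrank_harm_zero [Nontrivial R] (h0 : 𝒜 0 = Submodule.span k {(1 : R)})
    (hinj : ∀ x ∈ (C.X 0).gr d, C.d 0 x = 0 → x = 0) (h1 : C.Vanish 1 d) :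
    Module.finrank (deg0 𝒜) (comp 𝒜 (C.X 0).gr d) = Module.finrank k (harm C L d 0) := by
  rw [← (LinearEquiv.ofBijective _ ⟨augHarm_injective hz hinj, (augHarm_surjective_iff hz).2 h1⟩).finrank_eq]
  exact finrank_eq_of_semilinear 𝒜 h0
    (AddMonoidHom.mk' (fun x => (⟨x.1, x.2⟩ : comp 𝒜 (C.X 0).gr d)) fun _ _ => rfl)
    ⟨fun a b h => Subtype.ext (congrArg Subtype.val h), fun x => ⟨⟨x.1, x.2⟩, rfl⟩⟩
    fun c x => Subtype.ext (algebraMap_smul R c x.1).symm

end

end GrothLib.Segre
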