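import Groth.Agent.Lib.Segre.ModTools
import Groth.Agent.Lib.GrLC.High
import Groth.Agent.S18646

/-!
# A Segre product is a graded algebra of finite type over the field
-/

universe u

open DirectSum
open scoped TensorProduct

namespace GrothLib.Segre

open GrothLib.GrLC (cmp cmp_mem cmp_of_mem cmp_of_mem_ne gr_induction exists_sum_cmp HElt)

variable {k : Type u} [Field k] {R : Type u} [CommRing R] [Algebra k R] {S : Type u} [CommRing S] [Algebra k S]
  {T : Type u} [CommRing T] [Algebra k T] {𝒜 : ℤ → Submodule k R} [GradedAlgebra 𝒜] {ℬ : ℤ → Submodule k S}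
  [GradedAlgebra ℬ] {𝒯 : ℤ → Submodule k T} [GradedAlgebra 𝒯] {ψ : T →ₐ[k] R ⊗[k] S}
  (hT : GrSeg.IsSegreRing 𝒜 ℬ 𝒯 ψ)

include hT

theorem segre_nontrivial [Nontrivial R] [Nontrivial S] : Nontrivial T := by
  have : Nontrivial (R ⊗[k] S) :=
    TensorProduct.nontrivial_of_linearMap_injective_of_flat_left k R S (Algebra.linearMap k S)
      (RingHom.injective (algebraMap k S))
  refine nontrivial_of_ne (1 : T) 0 fun h => ?_
  have := congrArg ψ h
  rw [map_one, map_zero] at this
  exact one_ne_zero this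

theorem segre_neg (hposR : ∀ n : ℤ, n < 0 → 𝒜 n = ⊥) {n : ℤ} (hn : n < 0) : 𝒯 n = ⊥ := by
  refine (Submodule.eq_bot_iff _).2 fun t ht => hT.1 ?_
  have h := psi_mem hT ht
  have hz : GrSeg.segrePiece k 𝒜 ℬ n ≤ ⊥ := Submodule.span_le.2 (by
    rintro _ ⟨a, ha, b, -, rfl⟩
    rw [show a = 0 by rwa [hposR n hn, Submodule.mem_bot] at ha, TensorProduct.zero_tmul]
    exact zero_mem _)
  rw [map_zero, (Submodule.mem_bot k).1 (hz h)]

theorem segre_zero (h0R : 𝒜 0 = Submodule.span k {(1 : R)}) (h0S : ℬ 0 = Submodule.span k {(1 : S)}) :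
    𝒯 0 = Submodule.span k {(1 : T)} := by
  refine le_antisymm (fun t ht => ?_) (Submodule.span_le.2 (by simpa using SetLike.GradedOne.one_mem (A := 𝒯)))
  have hle : GrSeg.segrePiece k 𝒜 ℬ 0 ≤ Submodule.span k {(1 : R ⊗[k] S)} := Submodule.span_le.2 (by
    rintro _ ⟨a, ha, b, hb, rfl⟩
    obtain ⟨c, rfl⟩ := Submodule.mem_span_singleton.1 (h0R.le ha)
    obtain ⟨c', rfl⟩ := Submodule.mem_span_singleton.1 (h0S.le hb)
    rw [SetLike.mem_coe, ← TensorProduct.smul_tmul', TensorProduct.tmul_smul, ← Algebra.TensorProduct.one_def,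
      smul_smul]
    exact Submodule.smul_mem _ _ (Submodule.mem_span_singleton_self _))
  obtain ⟨c, hc⟩ := Submodule.mem_span_singleton.1 (hle (psi_mem hT ht))
  exact Submodule.mem_span_singleton.2 ⟨c, hT.1 (by rw [map_smul, map_one, hc])⟩

theorem segre_finiteType (hposR : ∀ n : ℤ, n < 0 → 𝒜 n = ⊥) (h0R : 𝒜 0 = Submodule.span k {(1 : R)})
    [Algebra.FiniteType k R] (hposS : ∀ n : ℤ, n < 0 → ℬ n = ⊥) (h0S : ℬ 0 = Submodule.span k {(1 : S)})
    [Algebra.FiniteType k S] : Algebra.FiniteType k T := by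
  classical
  have : IsNoetherianRing T :=
    Groth.Agent.S18646.result k R 𝒜 hposR h0R S ℬ hposS h0S T 𝒯 ψ hT.1 hT.2
  have hpos : ∀ n : ℤ, n < 0 → ∀ t ∈ 𝒯 n, t = 0 := fun n hn t ht => by
    rwa [segre_neg hT hposR hn, Submodule.mem_bot] at ht
  have h0 := segre_zero hT h0R h0S
  let m : HomogeneousIdeal 𝒯 := ⟨Ideal.span (⋃ n ∈ Set.Ioi (0 : ℤ), (𝒯 n : Set T)),
    Ideal.homogeneous_span _ _ fun x hx => by
      obtain ⟨i, -, hx⟩ := Set.mem_iUnion₂.1 hx; exact ⟨i, hx⟩⟩
  obtain ⟨l, -, -, hgen⟩ := GrothLib.GrLC.exists_pos_list hpos m fun n hn r hr =>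
    Ideal.subset_span (Set.mem_iUnion₂.2 ⟨n, hn, hr⟩)
  let E : Finset T := (l.map HElt.val).toFinset
  refine ⟨E, ?_⟩
  let A := Algebra.adjoin k (E : Set T)
  have key : ∀ (s : ℕ) (n : ℤ), n < s → ∀ t ∈ 𝒯 n, t ∈ A := by
    intro s
    induction s with
    | zero => intro n hn t ht; rw [hpos n (by simpa using hn) t ht]; exact zero_mem _
    | succ s ih =>
      intro n hn t ht
      rcases lt_trichotomy n 0 with h | rfl | h
      · rw [hpos n h t ht]; exact zero_mem _
      · obtain ⟨c, rfl⟩ := Submodule.mem_span_singleton.1 (h0.le ht)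
        exact A.smul_mem (one_mem A) c
      · have h' := hgen n h t ht
        rw [← GrothLib.GrLC.cmp_of_mem 𝒯 ht]
        clear ht
        induction h' using Submodule.span_induction with
        | mem r hr =>
          obtain ⟨y, hy, hd, rfl⟩ := hr
          by_cases hyn : y.deg = n
          · subst hyn
            rw [cmp_of_mem 𝒯 y.mem]
            exact Algebra.subset_adjoin (List.mem_toFinset.2 (List.mem_map.2 ⟨y, hy, rfl⟩))
          · rw [cmp_of_mem_ne 𝒯 y.mem hyn]; exact zero_mem _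
        | zero => rw [map_zero]; exact zero_mem _
        | add a b _ _ ha hb => rw [map_add]; exact add_mem ha hb
        | smul c r hr ihr =>
          clear ihr
          induction hr using Submodule.span_induction generalizing c with
          | mem r hr =>
            obtain ⟨y, hy, hd, rfl⟩ := hr
            rw [smul_eq_mul, mul_comm, ← smul_eq_mul, GrothLib.GrLC.cmp_smul_of_mem 𝒯 y.mem, smul_eq_mul]
            exact mul_mem (Algebra.subset_adjoin (List.mem_toFinset.2 (List.mem_map.2 ⟨y, hy, rfl⟩)))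
              (ih _ (by omega) _ (cmp_mem 𝒯 _ c))
          | zero => rw [smul_zero, map_zero]; exact zero_mem _
          | add a b _ _ ha hb => rw [smul_add, map_add]; exact add_mem (ha c) (hb c)
          | smul e a _ ha => rw [smul_smul]; exact ha (c * e)
  refine Algebra.eq_top_iff.2 fun t => ?_
  obtain ⟨S', hS'⟩ := exists_sum_cmp 𝒯 t
  rw [hS']
  exact sum_mem fun g _ => key (g.toNat + 1) g (by omega) _ (cmp_mem 𝒯 g t)

end GrothLib.Segre
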