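import Groth.Agent.Lib.Segre.TotTors
import Groth.Agent.Lib.Segre.SegRing
import Groth.Agent.Lib.GrLC.Degree
import Groth.Agent.Lib.GrLC.PiecesFin

/-!
# Künneth formulas for the local cohomology of Segre products of modules
-/

universe u

open DirectSum
open scoped TensorProduct

namespace GrothLib.Segre

open GrothLib.GrLC
open _root_.GrLC (GMod IsGrHom StarInjRes deg0 comp)
open GrothLib.GrDual (pieceK)

noncomputable section

section General

variable {R : Type u} [CommRing R] {σ : Type u} [SetLike σ R] [AddSubgroupClass σ R] {𝒜 : ℤ → σ} [GradedRing 𝒜]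

theorem finrank_comp_eq_of_iso {X Y : GMod.{u} 𝒜} (h : GrLC.Iso X Y) (d : ℤ) :
    Module.finrank (deg0 𝒜) (comp 𝒜 X.gr d) = Module.finrank (deg0 𝒜) (comp 𝒜 Y.gr d) := by
  obtain ⟨e, he⟩ := h
  exact LinearEquiv.finrank_eq (LinearEquiv.ofBijective
    (((e.toLinearMap.restrictScalars (deg0 𝒜)) ∘ₗ (comp 𝒜 X.gr d).subtype).codRestrict (comp 𝒜 Y.gr d)
      fun y => he d _ y.2)
    ⟨fun y y' h' => Subtype.ext (e.injective (congrArg Subtype.val h')),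
      fun q => ⟨⟨e.symm q.1, IsHom.symm he d _ q.2⟩, Subtype.ext (e.apply_symm_apply _)⟩⟩)

theorem finrank_HP_eq_of_iso {C D : GCx.{u} 𝒜} {i : ℕ} (h : GrLC.Iso (C.H i) (D.H i)) (d : ℤ) :
    Module.finrank (deg0 𝒜) (HP C i d) = Module.finrank (deg0 𝒜) (HP D i d) := by
  obtain ⟨e⟩ := nonempty_HP_equiv_comp C i d
  obtain ⟨e'⟩ := nonempty_HP_equiv_comp D i d
  rw [e.finrank_eq, e'.finrank_eq, finrank_comp_eq_of_iso h]

theorem injective_d_zero {X : GMod.{u} 𝒜} {l : List (HElt 𝒜)} (h : ∀ g, Van l X 0 g) :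
    Function.Injective ((cech X l).d 0) := by
  refine (injective_iff_map_eq_zero _).2 fun z hz => ?_
  exact (Submodule.mem_bot R).1 ((((cech X l).acyclic_iff 0).2 h) hz)

theorem exists_pos_irrel_list [IsNoetherianRing R] (hpos : ∀ n : ℤ, n < 0 → ∀ r ∈ 𝒜 n, r = 0) (m : HomogeneousIdeal 𝒜)
    (hm : m.toIdeal = Ideal.span (⋃ n ∈ Set.Ioi (0 : ℤ), (𝒜 n : Set R))) :
    ∃ l : List (HElt 𝒜), (hspan l).toIdeal = m.toIdeal ∧ (∀ y ∈ l, 0 < y.deg) ∧
      ∀ n : ℤ, 0 < n → ∀ r ∈ 𝒜 n, r ∈ (hspan l).toIdeal := by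
  classical
  have hmem : ∀ n : ℤ, 0 < n → ∀ r ∈ 𝒜 n, r ∈ m.toIdeal := fun n hn r hr =>
    hm ▸ Ideal.subset_span (Set.mem_biUnion (Set.mem_Ioi.2 hn) hr)
  obtain ⟨L, -, hLspan, hgen⟩ := exists_pos_list hpos m hmem
  let l := L.filter fun y => decide (0 < y.deg)
  have hspan' : (hspan l).toIdeal = m.toIdeal := by
    refine le_antisymm ?_ ?_
    · rw [← hLspan]
      exact Ideal.span_mono (by rintro r ⟨y, hy, rfl⟩; exact ⟨y, (List.mem_filter.1 hy).1, rfl⟩)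
    · rw [hm]
      refine Ideal.span_le.2 fun r hr => ?_
      obtain ⟨n, hn, hr⟩ := Set.mem_iUnion₂.1 hr
      refine Ideal.span_mono ?_ (hgen n hn r hr)
      rintro r ⟨y, hy, hd, rfl⟩
      exact ⟨y, List.mem_filter.2 ⟨hy, decide_eq_true hd⟩, rfl⟩
  exact ⟨l, hspan', fun y hy => of_decide_eq_true (p := 0 < y.deg) (List.mem_filter.1 hy).2,
    fun n hn r hr => hspan' ▸ hmem n hn r hr⟩

/-- Degree `d` vanishing of the cohomology of the punctured complex. -/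
def DVan {M : Type u} [AddCommGroup M] [Module R M] {τ : Type u} [SetLike τ M] [AddSubgroupClass τ M] {ℳ : ℤ → τ}
    [Decomposition ℳ] [SetLike.GradedSMul 𝒜 ℳ] (E : StarInjRes 𝒜 ℳ) (m : HomogeneousIdeal 𝒜) : ℕ → ℤ → Prop
  | 0, d => (∀ x ∈ ℳ d, x = 0) ∧ E.Hcomp m 1 d = ⊥
  | a + 1, d => E.Hcomp m (a + 2) d = ⊥

variable {M : Type u} [AddCommGroup M] [Module R M] {τ : Type u} [SetLike τ M] [AddSubgroupClass τ M] {ℳ : ℤ → τ}
  [Decomposition ℳ] [SetLike.GradedSMul 𝒜 ℳ] (E : StarInjRes 𝒜 ℳ) (m : HomogeneousIdeal 𝒜)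

theorem dvan_zero (d : ℤ) : DVan E m 0 d ↔ (∀ x ∈ ℳ d, x = 0) ∧ E.Hcomp m 1 d = ⊥ := Iff.rfl

theorem dvan_succ (a : ℕ) (d : ℤ) : DVan E m (a + 1) d ↔ E.Hcomp m (a + 2) d = ⊥ := Iff.rfl

end General

section Side

variable {k : Type u} [Field k] {R : Type u} [CommRing R] [Algebra k R] {𝒜 : ℤ → Submodule k R} [GradedAlgebra 𝒜]
  [IsNoetherianRing R] {M : Type u} [AddCommGroup M] [Module R M] {ℳ : ℤ → AddSubgroup M} [Decomposition ℳ]
  [SetLike.GradedSMul 𝒜 ℳ] (E : StarInjRes 𝒜 ℳ) {m : HomogeneousIdeal 𝒜} {l : List (HElt 𝒜)}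
  (hl : (hspan l).toIdeal = m.toIdeal)

theorem cech_eq_zero_of_le {X : GMod.{u} 𝒜} (a : ℕ) (ha : l.length + 1 ≤ a) (z : ((cech X l).X (a + 1)).carrier) :
    z = 0 := cech_eq_zero_of_length l (a + 1) (by omega) z

local notation "Lb" => List.length l + 1
local notation "Cx" => cech (gmod 𝒜 ℳ) l

include hl

theorem subsingleton_harm_iff_dvan (h00 : ∀ g, E.Hcomp m 0 g = ⊥) (a : ℕ) (d : ℤ) :
    Subsingleton (harm Cx Lb d a) ↔ DVan E m a d := by
  have hinj : ∀ x ∈ ((Cx).X 0).gr d, (Cx).d 0 x = 0 → x = 0 := fun x _ hx =>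
    injective_d_zero (fun g => (Hcomp_eq_bot_iff_van E hl 0 g).1 (h00 g)) (hx.trans (map_zero _).symm)
  rcases a with _ | a
  · rw [subsingleton_harm_zero cech_eq_zero_of_le, dvan_zero, Hcomp_eq_bot_iff_van E hl]
    constructor
    · refine fun h => ⟨fun x hx => ?_, fun z hc hg => by rw [h z hc hg]; exact zero_mem _⟩
      have h1 : inc0 (gmod 𝒜 ℳ) l x ∈ ((Cx).X 0).gr d := isHom_inc0 (gmod 𝒜 ℳ) l d x hx
      have := hinj _ h1 (h _ ((Cx).d_d 0 _) ((Cx).d_hom 0 d _ h1))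
      exact (inc0_bijective (gmod 𝒜 ℳ) l).1 (this.trans (map_zero _).symm)
    · rintro ⟨hM, hv⟩ z hc hg
      obtain ⟨u, hu⟩ := hv z hc hg
      obtain ⟨x, rfl⟩ := (inc0_bijective (gmod 𝒜 ℳ) l).2 u
      rw [← cmp_of_mem _ hg, ← hu, ← ((Cx).d_hom 0).cmp, ← (isHom_inc0 (gmod 𝒜 ℳ) l).cmp,
        show cmp (gmod 𝒜 ℳ).gr d x = 0 from hM _ (cmp_mem (gmod 𝒜 ℳ).gr d x), map_zero, map_zero]
  · rw [subsingleton_harm_succ cech_eq_zero_of_le, dvan_succ, Hcomp_eq_bot_iff_van E hl]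

variable [Nontrivial R] (hposR : ∀ n : ℤ, n < 0 → 𝒜 n = ⊥) (h0R : 𝒜 0 = Submodule.span k {(1 : R)})
  (hm : m.toIdeal = Ideal.span (⋃ n ∈ Set.Ioi (0 : ℤ), (𝒜 n : Set R)))

include h0R

theorem finrank_harm_eq (a : ℕ) (d : ℤ) :
    Module.finrank k (harm Cx Lb d (a + 1)) = Module.finrank (deg0 𝒜) (E.Hcomp m (a + 2) d) := by
  obtain ⟨e⟩ := nonempty_HP_equiv_Hcomp E hl (a + 2) d
  rw [← finrank_harm_succ cech_eq_zero_of_le h0R a, e.finrank_eq]

theorem finrank_harm_zero_eq (h00 : ∀ g, E.Hcomp m 0 g = ⊥) (d : ℤ) (h01 : E.Hcomp m 1 d = ⊥) :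
    Module.finrank k (harm Cx Lb d 0) = Module.finrank (deg0 𝒜) (comp 𝒜 ℳ d) := by
  have hinj : ∀ x ∈ ((Cx).X 0).gr d, (Cx).d 0 x = 0 → x = 0 := fun x _ hx =>
    injective_d_zero (fun g => (Hcomp_eq_bot_iff_van E hl 0 g).1 (h00 g)) (hx.trans (map_zero _).symm)
  rw [← finrank_harm_zero cech_eq_zero_of_le h0R hinj ((Hcomp_eq_bot_iff_van E hl 1 d).1 h01)]
  exact (finrank_comp_eq_of_iso (X := gmod 𝒜 ℳ) (Y := (Cx).X 0)
    ⟨LinearEquiv.ofBijective (inc0 (gmod 𝒜 ℳ) l) (inc0_bijective _ l),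
      fun g x hx => isHom_inc0 (gmod 𝒜 ℳ) l g x hx⟩ d).symm

include hposR hm

theorem finite_harm [Algebra.FiniteType k R] [Module.Finite R M] (h00 : ∀ g, E.Hcomp m 0 g = ⊥) (d : ℤ)
    (h01 : E.Hcomp m 1 d = ⊥) (a : ℕ) : Module.Finite k (harm Cx Lb d a) := by
  have hpos' : ∀ n : ℤ, n < 0 → ∀ r ∈ 𝒜 n, r = 0 := fun n hn r hr => by
    rwa [hposR n hn, Submodule.mem_bot] at hr
  rcases a with _ | a
  · have hinj : Function.Injective ((Cx).d 0) :=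
      injective_d_zero fun g => (Hcomp_eq_bot_iff_van E hl 0 g).1 (h00 g)
    have hX : Module.Finite R ((Cx).X 0).carrier := by
      have : Module.Finite R (gmod 𝒜 ℳ).carrier := ‹Module.Finite R M›
      exact Module.Finite.of_surjective (inc0 (gmod 𝒜 ℳ) l) (inc0_bijective _ l).2
    have := GrothLib.GrDual.finiteDimensional_piece hposR h0R ((Cx).X 0).gr d
    exact Module.Finite.of_surjective (augHarm Cx Lb d)
      ((augHarm_surjective_iff cech_eq_zero_of_le).2 ((Hcomp_eq_bot_iff_van E hl 1 d).1 h01))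
  · have hfin := finite_Hcomp E hpos' m hm (a + 2) d
    rcases Nat.eq_zero_or_pos (Module.finrank k (harm Cx Lb d (a + 1))) with h | h
    · rw [finrank_harm_eq E hl h0R] at h
      have hb : E.Hcomp m (a + 2) d = ⊥ := by
        letI : Field (deg0 𝒜) := (RingEquiv.toMulEquiv (RingEquiv.ofBijective (baseHom 𝒜)
          (baseHom_bijective 𝒜 h0R))).symm.isField (Field.toIsField k) |>.toField
        have := Module.finrank_zero_iff.1 h
        exact (Submodule.eq_bot_iff _).2 fun x hx => congrArg Subtype.val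
          (Subsingleton.elim (⟨x, hx⟩ : E.Hcomp m (a + 2) d) 0)
      have : Subsingleton (harm Cx Lb d (a + 1)) :=
        (subsingleton_harm_succ cech_eq_zero_of_le a).2 ((Hcomp_eq_bot_iff_van E hl _ d).1 hb)
      infer_instance
    · exact Module.finite_of_finrank_pos h

end Side

section Main

variable {k : Type u} [Field k] {R : Type u} [CommRing R] [Algebra k R] {S : Type u} [CommRing S] [Algebra k S]
  {T : Type u} [CommRing T] [Algebra k T] {𝒜 : ℤ → Submodule k R} [GradedAlgebra 𝒜] {ℬ : ℤ → Submodule k S}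
  [GradedAlgebra ℬ] {𝒯 : ℤ → Submodule k T} [GradedAlgebra 𝒯] {ψ : T →ₐ[k] R ⊗[k] S}
  (hT : GrSeg.IsSegreRing 𝒜 ℬ 𝒯 ψ)
  {M : Type u} [AddCommGroup M] [Module R M] [Module k M] [IsScalarTower k R M] {ℳ : ℤ → AddSubgroup M}
  [Decomposition ℳ] [SetLike.GradedSMul 𝒜 ℳ]
  {N : Type u} [AddCommGroup N] [Module S N] [Module k N] [IsScalarTower k S N] {𝒩 : ℤ → AddSubgroup N}
  [Decomposition 𝒩] [SetLike.GradedSMul ℬ 𝒩]
  {P : Type u} [AddCommGroup P] [Module T P] [Module k P] [IsScalarTower k T P] {𝒬 : ℤ → AddSubgroup P}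
  [Decomposition 𝒬] {φ : P →ₗ[k] M ⊗[k] N} (hP : GrSeg.IsSegreMod ψ ℳ 𝒩 𝒬 φ)

include hT hP in
/-- The grading of a Segre product of modules is compatible. -/
theorem gradedSMul_of_isSegreMod : SetLike.GradedSMul 𝒯 𝒬 := ⟨fun {i j t p} ht hp => by
  obtain ⟨q, hq, hq'⟩ := exists_phi ℳ 𝒩 hP (act_piece (𝒜 := 𝒜) (ℬ := ℬ) ℳ 𝒩 (psi_mem hT ht) (phi_mem ℳ 𝒩 hP hp))
  rw [← hP.map_smul] at hq'
  rwa [← hP.injective hq']⟩

variable [SetLike.GradedSMul 𝒯 𝒬]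

include hP in
/-- A Segre product presented by data is the bundled one. -/
theorem iso_segMod : GrLC.Iso (gmod 𝒯 𝒬) (segMod (gmod 𝒜 ℳ) (gmod ℬ 𝒩) hT) := by
  obtain rfl : ‹Module k M› = Module.compHom M (algebraMap k R) :=
    Module.ext' _ _ fun c x => (algebraMap_smul R c x).symm
  obtain rfl : ‹Module k N› = Module.compHom N (algebraMap k S) :=
    Module.ext' _ _ fun c x => (algebraMap_smul S c x).symm
  letI : Module k M := Module.compHom M (algebraMap k R)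
  letI : Module k N := Module.compHom N (algebraMap k S)
  letI : IsScalarTower k R M := IsScalarTower.of_algebraMap_smul fun _ _ => rfl
  letI : IsScalarTower k S N := IsScalarTower.of_algebraMap_smul fun _ _ => rfl
  have hmem : ∀ p : P, φ p ∈ segSub (gmod 𝒜 ℳ) (gmod ℬ 𝒩) := by
    intro p
    induction p using gr_induction 𝒬 with
    | h0 => rw [map_zero]; exact zero_mem _
    | hh n p hp => exact piece_le_segSub n (phi_mem ℳ 𝒩 hP hp)
    | hadd a b ha hb => rw [map_add]; exact add_mem ha hb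
  let f : (gmod 𝒯 𝒬).carrier →ₗ[T] (segMod (gmod 𝒜 ℳ) (gmod ℬ 𝒩) hT).carrier :=
    { toFun := fun p => smk hT (φ p) (hmem p)
      map_add' := fun a b => sval_injective hT (map_add φ a b)
      map_smul' := fun t p => sval_injective hT (hP.map_smul t p) }
  refine ⟨LinearEquiv.ofBijective f ⟨fun a b h => hP.injective (congrArg (sval hT) h), fun z => ?_⟩,
    fun n p hp => phi_mem ℳ 𝒩 hP hp⟩
  have key : ∀ v ∈ segSub (gmod 𝒜 ℳ) (gmod ℬ 𝒩), ∃ p : P, φ p = v := by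
    intro v hv
    induction hv using Submodule.iSup_induction' with
    | mem n v hv => obtain ⟨p, -, hp⟩ := exists_phi ℳ 𝒩 hP (n := n) (x := v) hv; exact ⟨p, hp⟩
    | zero => exact ⟨0, map_zero _⟩
    | add a b _ _ ha hb =>
      obtain ⟨p, rfl⟩ := ha
      obtain ⟨q, rfl⟩ := hb
      exact ⟨p + q, map_add _ _ _⟩
  obtain ⟨p, hp⟩ := key _ (sval_mem hT z)
  exact ⟨p, sval_injective hT hp⟩

variable [IsNoetherianRing R] [IsNoetherianRing S] [IsNoetherianRing T]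
  (EM : StarInjRes 𝒜 ℳ) (EN : StarInjRes ℬ 𝒩) (EP : StarInjRes 𝒯 𝒬)
  {mR : HomogeneousIdeal 𝒜} (hmR : mR.toIdeal = Ideal.span (⋃ n ∈ Set.Ioi (0 : ℤ), (𝒜 n : Set R)))
  {mS : HomogeneousIdeal ℬ} (hmS : mS.toIdeal = Ideal.span (⋃ n ∈ Set.Ioi (0 : ℤ), (ℬ n : Set S)))
  {mT : HomogeneousIdeal 𝒯} (hmT : mT.toIdeal = Ideal.span (⋃ n ∈ Set.Ioi (0 : ℤ), (𝒯 n : Set T)))
  (hposR : ∀ n : ℤ, n < 0 → 𝒜 n = ⊥) (hposS : ∀ n : ℤ, n < 0 → ℬ n = ⊥)
  (hM0 : ∀ g, EM.Hcomp mR 0 g = ⊥) (hN0 : ∀ g, EN.Hcomp mS 0 g = ⊥)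

include hT hP hmR hmS hmT hposR hposS hM0 hN0

/-- The total complex computes the graded local cohomology of the Segre product. -/
theorem exists_tot : ∃ (lR : List (HElt 𝒜)) (lS : List (HElt ℬ)) (lT : List (HElt 𝒯)),
    (hspan lR).toIdeal = mR.toIdeal ∧ (hspan lS).toIdeal = mS.toIdeal ∧ (hspan lT).toIdeal = mT.toIdeal ∧
    ∀ q, GrLC.Iso ((cech (gmod 𝒯 𝒬) lT).H q)
      ((tot hT (cech (gmod 𝒜 ℳ) lR) (cech (gmod ℬ 𝒩) lS) (lR.length + 1) (lS.length + 1)).H q) := by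
  have hposT : ∀ n : ℤ, n < 0 → ∀ r ∈ 𝒯 n, r = 0 := fun n hn r hr => by
    rwa [segre_neg hT hposR hn, Submodule.mem_bot] at hr
  obtain ⟨lR, hlR, hRpos, hRgen⟩ := exists_pos_irrel_list
    (fun n hn r hr => by rwa [hposR n hn, Submodule.mem_bot] at hr) mR hmR
  obtain ⟨lS, hlS, hSpos, hSgen⟩ := exists_pos_irrel_list
    (fun n hn r hr => by rwa [hposS n hn, Submodule.mem_bot] at hr) mS hmS
  obtain ⟨lT, hlT, hTpos, hTgen⟩ := exists_pos_irrel_list hposT mT hmT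
  refine ⟨lR, lS, lT, hlR, hlS, hlT, fun q => ?_⟩
  obtain ⟨e, he⟩ := iso_segMod hT hP
  have h1 := (cechMap e.toLinearMap he lT).iso_of_bijective (cechMap_bijective _ he e.bijective lT) q
  have hi : IsHom (X := segMod (gmod 𝒜 ℳ) (gmod ℬ 𝒩) hT)
      (Y := segMod ((cech (gmod 𝒜 ℳ) lR).X 0) ((cech (gmod ℬ 𝒩) lS).X 0) hT)
      (segMap hT (inc0 (gmod 𝒜 ℳ) lR) (isHom_inc0 _ lR) (inc0 (gmod ℬ 𝒩) lS) (isHom_inc0 _ lS)) :=
    isHom_segMap hT _ _
  have h2 := (cechMap _ hi lT).iso_of_bijective (cechMap_bijective _ hi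
    ⟨segMap_injective hT _ _ (inc0_bijective _ lR).1 (inc0_bijective _ lS).1,
      segMap_surjective hT _ _ (inc0_bijective _ lR).2 (inc0_bijective _ lS).2⟩ lT) q
  exact h1.trans (h2.trans (iso_cech_tot hT (cech (gmod 𝒜 ℳ) lR) (cech (gmod ℬ 𝒩) lS) _ _ hTgen hTpos
    (locTerm_cech _ lR hRpos) (locTerm_cech _ lS hSpos) cech_eq_zero_of_le cech_eq_zero_of_le
    (torsCx_cech hRgen _) (torsCx_cech hSgen _)
    (injective_d_zero fun g => (Hcomp_eq_bot_iff_van EM hlR 0 g).1 (hM0 g))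
    (injective_d_zero fun g => (Hcomp_eq_bot_iff_van EN hlS 0 g).1 (hN0 g)) q))

theorem Hcomp_segre_zero (d : ℤ) : EP.Hcomp mT 0 d = ⊥ := by
  obtain ⟨lR, lS, lT, hlR, hlS, hlT, hiso⟩ := exists_tot hT hP EM EN hmR hmS hmT hposR hposS hM0 hN0
  rw [Hcomp_eq_bot_iff_van EP hlT, Van, GCx.vanish_iff, (hiso 0).gr_eq_bot_iff, ← GCx.vanish_iff]
  exact vanish_tot_zero hT _ _ _ _ cech_eq_zero_of_le cech_eq_zero_of_le
    (injective_d_zero fun g => (Hcomp_eq_bot_iff_van EM hlR 0 g).1 (hM0 g))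
    (injective_d_zero fun g => (Hcomp_eq_bot_iff_van EN hlS 0 g).1 (hN0 g)) d

theorem Hcomp_segre_one_iff (d : ℤ) : EP.Hcomp mT 1 d = ⊥ ↔
    DVan EM mR 0 d ∨ DVan EN mS 0 d ∨ (EM.Hcomp mR 1 d = ⊥ ∧ EN.Hcomp mS 1 d = ⊥) := by
  obtain ⟨lR, lS, lT, hlR, hlS, hlT, hiso⟩ := exists_tot hT hP EM EN hmR hmS hmT hposR hposS hM0 hN0
  rw [Hcomp_eq_bot_iff_van EP hlT, Van, GCx.vanish_iff, (hiso 1).gr_eq_bot_iff, ← GCx.vanish_iff,
    vanish_tot_one_iff hT _ _ _ _ cech_eq_zero_of_le cech_eq_zero_of_le,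
    subsingleton_harm_iff_dvan EM hlR hM0, subsingleton_harm_iff_dvan EN hlS hN0,
    Hcomp_eq_bot_iff_van EM hlR 1, Hcomp_eq_bot_iff_van EN hlS 1]

theorem Hcomp_segre_succ_iff (n : ℕ) (d : ℤ) : EP.Hcomp mT (n + 2) d = ⊥ ↔
    ∀ a b : ℕ, a + b = n + 1 → DVan EM mR a d ∨ DVan EN mS b d := by
  obtain ⟨lR, lS, lT, hlR, hlS, hlT, hiso⟩ := exists_tot hT hP EM EN hmR hmS hmT hposR hposS hM0 hN0
  rw [Hcomp_eq_bot_iff_van EP hlT, Van, GCx.vanish_iff, (hiso (n + 2)).gr_eq_bot_iff, ← GCx.vanish_iff,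
    vanish_tot_succ_iff]
  simp only [subsingleton_harm_iff_dvan EM hlR hM0, subsingleton_harm_iff_dvan EN hlS hN0]

/-- The Künneth formula. -/
theorem finrank_Hcomp_segre [Algebra.FiniteType k R] [Algebra.FiniteType k S] [Nontrivial R] [Nontrivial S]
    [Module.Finite R M] [Module.Finite S N] (h0R : 𝒜 0 = Submodule.span k {(1 : R)})
    (h0S : ℬ 0 = Submodule.span k {(1 : S)}) (hM1 : ∀ g, EM.Hcomp mR 1 g = ⊥) (hN1 : ∀ g, EN.Hcomp mS 1 g = ⊥)
    (q : ℕ) (d : ℤ) : Module.finrank (deg0 𝒯) (EP.Hcomp mT q d) =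
      Module.finrank (deg0 𝒜) (comp 𝒜 ℳ d) * Module.finrank (deg0 ℬ) (EN.Hcomp mS q d) +
      Module.finrank (deg0 𝒜) (EM.Hcomp mR q d) * Module.finrank (deg0 ℬ) (comp ℬ 𝒩 d) +
      (Finset.range (q + 2)).sum (fun i => Module.finrank (deg0 𝒜) (EM.Hcomp mR i d) *
        Module.finrank (deg0 ℬ) (EN.Hcomp mS (q + 1 - i) d)) := by
  have := segre_nontrivial hT
  have zM : ∀ i, i ≤ 1 → Module.finrank (deg0 𝒜) (EM.Hcomp mR i d) = 0 := fun i hi => by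
    rcases i with _ | _ | i
    · rw [hM0 d]; exact finrank_bot _ _
    · rw [hM1 d]; exact finrank_bot _ _
    · omega
  have zN : ∀ i, i ≤ 1 → Module.finrank (deg0 ℬ) (EN.Hcomp mS i d) = 0 := fun i hi => by
    rcases i with _ | _ | i
    · rw [hN0 d]; exact finrank_bot _ _
    · rw [hN1 d]; exact finrank_bot _ _
    · omega
  rcases q with _ | _ | n
  · rw [Hcomp_segre_zero hT hP EM EN EP hmR hmS hmT hposR hposS hM0 hN0, finrank_bot, zM 0 zero_le_one,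
      zN 0 zero_le_one, mul_zero, zero_mul, zero_add, zero_add]
    refine (Finset.sum_eq_zero fun i hi => ?_).symm
    rw [zM i (by simp at hi; omega), zero_mul]
  · rw [(Hcomp_segre_one_iff hT hP EM EN EP hmR hmS hmT hposR hposS hM0 hN0 d).2 (Or.inr (Or.inr ⟨hM1 d, hN1 d⟩)),
      finrank_bot, zM _ le_rfl, zN _ le_rfl, mul_zero, zero_mul, zero_add, zero_add]
    refine (Finset.sum_eq_zero fun i hi => ?_).symm
    rcases Nat.lt_or_ge i 2 with h | h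
    · rw [zM i (by omega), zero_mul]
    · rw [zN (0 + 1 + 1 - i) (by omega), mul_zero]
  obtain ⟨lR, lS, lT, hlR, hlS, hlT, hiso⟩ := exists_tot hT hP EM EN hmR hmS hmT hposR hposS hM0 hN0
  obtain ⟨e⟩ := nonempty_HP_equiv_Hcomp EP hlT (n + 2) d
  rw [← e.finrank_eq, finrank_HP_eq_of_iso (hiso (n + 2)),
    finrank_tot_succ hT _ _ _ _ d (segre_zero hT h0R h0S) (finite_harm EM hlR hposR h0R hmR hM0 d (hM1 d))
      (finite_harm EN hlS hposS h0S hmS hN0 d (hN1 d)) n,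
    Finset.Nat.sum_antidiagonal_succ, finrank_harm_zero_eq EM hlR h0R hM0 d (hM1 d), finrank_harm_eq EN hlS h0S n,
    add_assoc]
  congr 1
  rcases n with _ | n
  · rw [Finset.Nat.antidiagonal_zero, Finset.sum_singleton, finrank_harm_zero_eq EN hlS h0S hN0 d (hN1 d),
      finrank_harm_eq EM hlR h0R 0]
    suffices h : (Finset.range (0 + 2 + 2)).sum (fun i => Module.finrank (deg0 𝒜) (EM.Hcomp mR i d) *
        Module.finrank (deg0 ℬ) (EN.Hcomp mS (0 + 2 + 1 - i) d)) = 0 by rw [h, add_zero]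
    refine Finset.sum_eq_zero fun i hi => ?_
    rcases Nat.lt_or_ge i 2 with h | h
    · rw [zM i (by omega), zero_mul]
    · rw [zN (0 + 2 + 1 - i) (by omega), mul_zero]
  · rw [Finset.Nat.sum_antidiagonal_succ', finrank_harm_zero_eq EN hlS h0S hN0 d (hN1 d),
      finrank_harm_eq EM hlR h0R (n + 1)]
    congr 1
    rw [Finset.Nat.sum_antidiagonal_eq_sum_range_succ_mk]
    symm
    rw [Finset.range_eq_Ico, Finset.sum_eq_sum_Ico_succ_bot (by omega), zM 0 zero_le_one, zero_mul, zero_add,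
      Finset.sum_eq_sum_Ico_succ_bot (by omega), zM (0 + 1) le_rfl, zero_mul, zero_add,
      Finset.sum_Ico_eq_sum_range, show n + 1 + 2 + 2 - (0 + 1 + 1) = n.succ + 2 by omega,
      Finset.sum_range_succ, Finset.sum_range_succ,
      zN (n + 1 + 2 + 1 - (0 + 1 + 1 + (n.succ + 1))) (by omega),
      zN (n + 1 + 2 + 1 - (0 + 1 + 1 + n.succ)) (by omega), mul_zero, mul_zero, add_zero, add_zero]
    refine Finset.sum_congr rfl fun i hi => ?_
    rw [Finset.mem_range] at hi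
    rw [finrank_harm_eq EM hlR h0R i, finrank_harm_eq EN hlS h0S, show n + 1 + 2 + 1 - (0 + 1 + 1 + i) = n - i + 2 by omega,
      show 0 + 1 + 1 + i = i + 2 by omega]

end Main

end

end GrothLib.Segre
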