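import Groth.Agent.Lib.Segre.Module
import Groth.Agent.Lib.Segre.Dim
import Groth.Prelude.Def_GrSeg
import Mathlib.LinearAlgebra.Dual.Lemmas

/-!
# Dimension of Segre products of graded modules
-/

universe u

open scoped TensorProduct
open DirectSum

namespace GrothLib.Segre

variable {k : Type u} [Field k] {R : Type u} [CommRing R] [Algebra k R] {S : Type u} [CommRing S] [Algebra k S]
  {M : Type u} [AddCommGroup M] [Module R M] [Module k M] [IsScalarTower k R M]
  {N : Type u} [AddCommGroup N] [Module S N] [Module k N] [IsScalarTower k S N]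

theorem act_mul (z w : R ⊗[k] S) (x : M ⊗[k] N) :
    GrSeg.act k R S M N (z * w) x = GrSeg.act k R S M N z (GrSeg.act k R S M N w x) := by
  induction z using TensorProduct.induction_on with
  | zero => simp
  | add a b ha hb => rw [add_mul, map_add, LinearMap.add_apply, map_add, LinearMap.add_apply, ha, hb]
  | tmul a b =>
    induction w using TensorProduct.induction_on with
    | zero => simp
    | add c d hc hd => rw [mul_add, map_add, LinearMap.add_apply, map_add, LinearMap.add_apply, hc, hd, map_add]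
    | tmul c d =>
      induction x using TensorProduct.induction_on with
      | zero => simp
      | add p q hp hq => simp only [map_add, hp, hq]
      | tmul p q => simp [GrSeg.act_tmul, mul_smul]

section Ann

variable (R) in
/-- the orbit map of an element through the quotient by the annihilator -/
noncomputable def sigma (m : M) : (R ⧸ Module.annihilator R M) →ₗ[k] M :=
  (Submodule.liftQ (Module.annihilator R M) (LinearMap.toSpanSingleton R M m) fun r hr => by
    simp [Module.mem_annihilator.1 hr]).restrictScalars k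

theorem sigma_mk (m : M) (r : R) : sigma (k := k) R m (Ideal.Quotient.mk _ r) = r • m := rfl

theorem act_eq_sigma (z : R ⊗[k] S) (m : M) (n : N) :
    GrSeg.act k R S M N z (m ⊗ₜ[k] n) = TensorProduct.map (sigma R m) (sigma S n)
      (Algebra.TensorProduct.map (Ideal.Quotient.mkₐ k (Module.annihilator R M))
        (Ideal.Quotient.mkₐ k (Module.annihilator S N)) z) := by
  induction z using TensorProduct.induction_on with
  | zero => simp
  | add a b ha hb => simp only [map_add, LinearMap.add_apply, ha, hb]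
  | tmul a b => simp [GrSeg.act_tmul, sigma_mk]

theorem act_eq_zero_of_map_eq_zero {z : R ⊗[k] S}
    (h : Algebra.TensorProduct.map (Ideal.Quotient.mkₐ k (Module.annihilator R M))
        (Ideal.Quotient.mkₐ k (Module.annihilator S N)) z = 0) (x : M ⊗[k] N) :
    GrSeg.act k R S M N z x = 0 := by
  induction x using TensorProduct.induction_on with
  | zero => simp
  | add a b ha hb => rw [map_add, ha, hb, add_zero]
  | tmul m n => rw [act_eq_sigma, h, map_zero]

/-- Acting as zero on generators means vanishing modulo the annihilators. -/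
theorem map_eq_zero_of_act {g h : ℕ} {m : Fin g → M} (hm : Submodule.span R (Set.range m) = ⊤) {n : Fin h → N}
    (hn : Submodule.span S (Set.range n) = ⊤) {z : R ⊗[k] S}
    (hz : ∀ a b, GrSeg.act k R S M N z (m a ⊗ₜ[k] n b) = 0) :
    Algebra.TensorProduct.map (Ideal.Quotient.mkₐ k (Module.annihilator R M))
        (Ideal.Quotient.mkₐ k (Module.annihilator S N)) z = 0 := by
  classical
  let P : (R ⧸ Module.annihilator R M) →ₗ[k] (Fin g → M) := LinearMap.pi fun a => sigma R (m a)
  let Q : (S ⧸ Module.annihilator S N) →ₗ[k] (Fin h → N) := LinearMap.pi fun b => sigma S (n b)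
  have hP : Function.Injective P := (injective_iff_map_eq_zero P).2 fun x hx => by
    obtain ⟨r, rfl⟩ := Ideal.Quotient.mk_surjective x
    refine Ideal.Quotient.eq_zero_iff_mem.2 (Module.mem_annihilator.2 fun y => ?_)
    obtain ⟨c, rfl⟩ := (Submodule.mem_span_range_iff_exists_fun R).1 (hm ▸ Submodule.mem_top : y ∈ _)
    rw [Finset.smul_sum]
    exact Finset.sum_eq_zero fun a _ => by rw [smul_comm, show r • m a = 0 from congrFun hx a, smul_zero]
  have hQ : Function.Injective Q := (injective_iff_map_eq_zero Q).2 fun x hx => by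
    obtain ⟨r, rfl⟩ := Ideal.Quotient.mk_surjective x
    refine Ideal.Quotient.eq_zero_iff_mem.2 (Module.mem_annihilator.2 fun y => ?_)
    obtain ⟨c, rfl⟩ := (Submodule.mem_span_range_iff_exists_fun S).1 (hn ▸ Submodule.mem_top : y ∈ _)
    rw [Finset.smul_sum]
    exact Finset.sum_eq_zero fun a _ => by rw [smul_comm, show r • n a = 0 from congrFun hx a, smul_zero]
  have hsum : ∀ x : (Fin g → M) ⊗[k] (Fin h → N), x = ∑ a, ∑ b,
      TensorProduct.map ((LinearMap.single k (fun _ => M) a).comp (LinearMap.proj a))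
        ((LinearMap.single k (fun _ => N) b).comp (LinearMap.proj b)) x := by
    intro x
    induction x using TensorProduct.induction_on with
    | zero => simp
    | add p q hp hq => simp only [map_add, Finset.sum_add_distrib, ← hp, ← hq]
    | tmul p q =>
      simp only [TensorProduct.map_tmul, LinearMap.comp_apply, LinearMap.coe_single, LinearMap.coe_proj,
        Function.eval, ← TensorProduct.tmul_sum, ← TensorProduct.sum_tmul, Finset.univ_sum_single]
  refine TensorProduct.map_injective_of_flat_flat P Q hP hQ ?_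
  rw [map_zero, hsum (TensorProduct.map P Q _)]
  refine Finset.sum_eq_zero fun a _ => Finset.sum_eq_zero fun b _ => ?_
  rw [TensorProduct.map_map, LinearMap.comp_assoc, LinearMap.comp_assoc,
    show (LinearMap.proj a).comp P = sigma R (m a) from rfl, show (LinearMap.proj b).comp Q = sigma S (n b) from rfl,
    TensorProduct.map_comp, LinearMap.comp_apply, ← act_eq_sigma, hz, map_zero]

end Ann

variable (𝒜 : ℤ → Submodule k R) [GradedAlgebra 𝒜] (ℬ : ℤ → Submodule k S) [GradedAlgebra ℬ]
  (hposR : ∀ n : ℤ, n < 0 → 𝒜 n = ⊥) (h0R : 𝒜 0 = Submodule.span k {(1 : R)})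
  (hposS : ∀ n : ℤ, n < 0 → ℬ n = ⊥) (h0S : ℬ 0 = Submodule.span k {(1 : S)})
  [Algebra.FiniteType k R] [Algebra.FiniteType k S]
  {T : Type u} [CommRing T] [Algebra k T] (𝒯 : ℤ → Submodule k T) [GradedAlgebra 𝒯] (ψ : T →ₐ[k] R ⊗[k] S)
  (ℳ : ℤ → AddSubgroup M) [Decomposition ℳ] [SetLike.GradedSMul 𝒜 ℳ] [Module.Finite R M]
  (𝒩 : ℤ → AddSubgroup N) [Decomposition 𝒩] [SetLike.GradedSMul ℬ 𝒩] [Module.Finite S N]
  {P : Type u} [AddCommGroup P] [Module T P] [Module k P] [IsScalarTower k T P]
  (𝒬 : ℤ → AddSubgroup P) [Decomposition 𝒬] (φ : P →ₗ[k] M ⊗[k] N)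

include hposR h0R hposS h0S in
theorem supportDim_segre
    (hT : GrSeg.IsSegreRing 𝒜 ℬ 𝒯 ψ)
    (hstdR : Ideal.span (⋃ n ∈ Set.Ioi (0 : ℤ), (𝒜 n : Set R)) = Ideal.span ((𝒜 1 : Submodule k R) : Set R))
    (hstdS : Ideal.span (⋃ n ∈ Set.Ioi (0 : ℤ), (ℬ n : Set S)) = Ideal.span ((ℬ 1 : Submodule k S) : Set S))
    (hP : GrSeg.IsSegreMod ψ ℳ 𝒩 𝒬 φ) (dM dN : ℕ) (hdM : Module.supportDim R M = dM)
    (hdN : Module.supportDim S N = dN) (hMA : ¬ IsArtinian R M) (hNA : ¬ IsArtinian S N) :
    Module.supportDim T P = ((dM + dN - 1 : ℕ) : WithBot ℕ∞) := by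
  classical
  have hdM1 := one_le_of_not_isArtinian 𝒜 hposR h0R dM hdM hMA
  have hdN1 := one_le_of_not_isArtinian ℬ hposS h0S dN hdN hNA
  obtain ⟨r, rfl⟩ : ∃ r, dM = r + 1 := ⟨dM - 1, by omega⟩
  obtain ⟨s, rfl⟩ : ∃ s, dN = s + 1 := ⟨dN - 1, by omega⟩
  haveI : IsNoetherianRing R := Algebra.FiniteType.isNoetherianRing k R
  haveI : IsNoetherianRing S := Algebra.FiniteType.isNoetherianRing k S
  let I := Module.annihilator R M
  let J := Module.annihilator S N
  haveI hI : GrQuot.IsHomog 𝒜 I := (GrQuot.isHomog_iff 𝒜 I).2 (annihilator_isHomogeneous 𝒜 ℳ)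
  haveI hJ : GrQuot.IsHomog ℬ J := (GrQuot.isHomog_iff ℬ J).2 (annihilator_isHomogeneous ℬ 𝒩)
  let mm : R ⊗[k] S →ₐ[k] (R ⧸ I) ⊗[k] (S ⧸ J) :=
    Algebra.TensorProduct.map (Ideal.Quotient.mkₐ k I) (Ideal.Quotient.mkₐ k J)
  let ψ' := mm.comp ψ
  -- the image of a piece
  have hpiece : ∀ n, (𝒯 n).map ψ'.toLinearMap =
      Submodule.span k {x | ∃ a ∈ GrQuot.quot 𝒜 I n, ∃ b ∈ GrQuot.quot ℬ J n, x = a ⊗ₜ[k] b} := by
    intro n
    rw [show ψ'.toLinearMap = mm.toLinearMap.comp ψ.toLinearMap from rfl, Submodule.map_comp, hT.2 n,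
      GrSeg.segrePiece, Submodule.map_span]
    congr 1
    ext x
    simp only [Set.mem_image, Set.mem_setOf_eq]
    constructor
    · rintro ⟨_, ⟨a, ha, b, hb, rfl⟩, rfl⟩
      exact ⟨_, GrQuot.mk_mem_quot 𝒜 I ha, _, GrQuot.mk_mem_quot ℬ J hb, Algebra.TensorProduct.map_tmul _ _ _ _⟩
    · rintro ⟨a, ha, b, hb, rfl⟩
      obtain ⟨a, ha', rfl⟩ := (GrQuot.mem_quot_iff 𝒜 I n a).1 ha
      obtain ⟨b, hb', rfl⟩ := (GrQuot.mem_quot_iff ℬ J n b).1 hb
      exact ⟨_, ⟨a, ha', b, hb', rfl⟩, Algebra.TensorProduct.map_tmul _ _ _ _⟩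
  let K : Ideal T := RingHom.ker ψ'
  let pr : ℤ → ((R ⧸ I) ⊗[k] (S ⧸ J) →ₗ[k] (R ⧸ I) ⊗[k] (S ⧸ J)) := fun d =>
    TensorProduct.map (GradedAlgebra.proj (GrQuot.quot 𝒜 I) d) LinearMap.id
  have hpr : ∀ d e (t : T), t ∈ 𝒯 e → pr d (ψ' t) = if e = d then ψ' t else 0 := by
    intro d e t ht
    have h : ψ' t ∈ Submodule.span k {x | ∃ a ∈ GrQuot.quot 𝒜 I e, ∃ b ∈ GrQuot.quot ℬ J e, x = a ⊗ₜ[k] b} :=
      hpiece e ▸ Submodule.mem_map_of_mem ht
    generalize ψ' t = z at h ⊢
    induction h using Submodule.span_induction with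
    | mem z hz =>
      obtain ⟨a, ha, b, -, rfl⟩ := hz
      simp only [pr, TensorProduct.map_tmul, LinearMap.id_apply, GradedAlgebra.proj_apply]
      by_cases hed : e = d
      · subst hed
        rw [if_pos rfl, DirectSum.decompose_of_mem_same _ ha]
      · rw [if_neg hed, DirectSum.decompose_of_mem_ne _ ha hed, TensorProduct.zero_tmul]
    | zero => simp
    | add a b _ _ ha hb => rw [map_add, ha, hb]; split_ifs <;> simp
    | smul c a _ ha => rw [map_smul, ha]; split_ifs <;> simp
  have hprt : ∀ d (t : T), pr d (ψ' t) = ψ' (DirectSum.decompose 𝒯 t d : T) := by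
    intro d t
    induction t using DirectSum.Decomposition.inductionOn 𝒯 with
    | zero => simp
    | @homogeneous e t =>
      rw [hpr d e t t.2]
      by_cases hed : e = d
      · subst hed
        rw [if_pos rfl, DirectSum.decompose_of_mem_same 𝒯 t.2]
      · rw [if_neg hed, DirectSum.decompose_of_mem_ne 𝒯 t.2 hed, map_zero]
    | add a b ha hb =>
      rw [map_add, map_add, ha, hb, DirectSum.decompose_add, DirectSum.add_apply, Submodule.coe_add, map_add]
  haveI hK : GrQuot.IsHomog 𝒯 K := ⟨fun d t ht => by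
    rw [RingHom.mem_ker] at ht ⊢
    rw [← hprt, ht, map_zero]⟩
  -- dimension of the image
  have hdimK : ringKrullDim (T ⧸ K) = ((r + 1 + s : ℕ) : WithBot ℕ∞) := by
    refine ringKrullDim_segre (GrQuot.quot 𝒜 I) (GrQuot.quot ℬ J) (fun n hn => ?_) ?_ (fun n hn => ?_) ?_
      (GrQuot.quot 𝒯 K) (Ideal.kerLiftAlg ψ') (Ideal.kerLiftAlg_injective ψ') (fun n => ?_) r s ?_ ?_
    · rw [GrQuot.quot, hposR n hn, Submodule.map_bot]
    · rw [GrQuot.quot, h0R, Submodule.map_span, Set.image_singleton]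
      rfl
    · rw [GrQuot.quot, hposS n hn, Submodule.map_bot]
    · rw [GrQuot.quot, h0S, Submodule.map_span, Set.image_singleton]
      rfl
    · rw [GrQuot.quot, ← Submodule.map_comp, ← hpiece]
      rfl
    · rw [← Module.supportDim_eq_ringKrullDim_quotient_annihilator]; exact hdM
    · rw [← Module.supportDim_eq_ringKrullDim_quotient_annihilator]; exact hdN
  -- the action
  have hKann : ∀ t ∈ K, ∀ p : P, t • p = 0 := fun t ht p => hP.injective (by
    rw [hP.map_smul, map_zero]
    exact act_eq_zero_of_map_eq_zero (show mm (ψ t) = 0 from RingHom.mem_ker.1 ht) _)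
  obtain ⟨g, m, e, hm, hmspan⟩ := exists_homogeneous_gens R ℳ
  obtain ⟨h, n, e', hn, hnspan⟩ := exists_homogeneous_gens S 𝒩
  obtain ⟨F, hF, hFs⟩ := exists_deg_one_gens 𝒜 hstdR
  obtain ⟨F', hF', hFs'⟩ := exists_deg_one_gens ℬ hstdS
  obtain ⟨G, hG, hG'⟩ : ∃ G : ℤ, (∀ a, e a ≤ G) ∧ ∀ b, e' b ≤ G := by
    obtain ⟨G, hG⟩ := (Finset.univ.image e ∪ Finset.univ.image e').bddAbove
    exact ⟨G, fun a => hG (by simp), fun b => hG (by simp)⟩
  obtain ⟨y₀, hy₀, hy₀'⟩ := exists_ne_zero_piece 𝒜 ℳ hposR h0R hF hFs (r + 1) hdM hMA hm hmspan hG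
  obtain ⟨z₀, hz₀, hz₀'⟩ := exists_ne_zero_piece ℬ 𝒩 hposS h0S hF' hFs' (s + 1) hdN hNA hn hnspan hG'
  obtain ⟨E, hE, hEs⟩ := exists_span_mod_piece 𝒜 ℳ hposR h0R hF hFs hm hmspan G
  obtain ⟨E', hE', hEs'⟩ := exists_span_mod_piece ℬ 𝒩 hposS h0S hF' hFs' hn hnspan G
  have hmem : ∀ p : E × E', (p.1 : M) ⊗ₜ[k] (p.2 : N) ∈ φ '' (𝒬 G : Set P) := fun p => by
    rw [hP.image_piece]
    exact Submodule.subset_span ⟨_, hE _ p.1.2, _, hE' _ p.2.2, rfl⟩
  choose q hqQ hq using hmem
  -- killing the pieces of degree `G` kills everything above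
  have hkill : ∀ t : T, (∀ p, t • q p = 0) → ∀ i j : ℕ, ∀ x ∈ ℳ (G + i), ∀ y ∈ 𝒩 (G + j),
      GrSeg.act k R S M N (ψ t) (x ⊗ₜ[k] y) = 0 := by
    intro t ht
    have h00 : ∀ x ∈ ℳ G, ∀ y ∈ 𝒩 G, GrSeg.act k R S M N (ψ t) (x ⊗ₜ[k] y) = 0 := by
      intro x hx y hy
      have hx' := hEs x hx
      have hy' := hEs' y hy
      clear hx hy
      induction hx' using Submodule.span_induction with
      | mem a ha =>
        induction hy' using Submodule.span_induction with
        | mem b hb =>
          have h := congrArg φ (ht (⟨a, ha⟩, ⟨b, hb⟩))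
          rwa [hP.map_smul, hq, map_zero] at h
        | zero => simp
        | add a b _ _ ha hb => rw [TensorProduct.tmul_add, map_add, ha, hb, add_zero]
        | smul c a _ ha => rw [TensorProduct.tmul_smul, map_smul, ha, smul_zero]
      | zero => simp
      | add a b _ _ ha hb => rw [TensorProduct.add_tmul, map_add, ha, hb, add_zero]
      | smul c a _ ha => rw [← TensorProduct.smul_tmul', map_smul, ha, smul_zero]
    have hi : ∀ i : ℕ, ∀ x ∈ ℳ (G + i), ∀ y ∈ 𝒩 G, GrSeg.act k R S M N (ψ t) (x ⊗ₜ[k] y) = 0 := by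
      intro i
      induction i with
      | zero => intro x hx; exact h00 x (by simpa using hx)
      | succ i ih =>
        intro x hx y hy
        obtain ⟨c, hc, rfl⟩ := step 𝒜 ℳ hF hFs hm hmspan hG (n := G + i) (by omega) (by
          rwa [Nat.cast_succ, ← add_assoc] at hx)
        rw [TensorProduct.sum_tmul, map_sum]
        refine Finset.sum_eq_zero fun f hf => ?_
        rw [show (f • c f) ⊗ₜ[k] y = GrSeg.act k R S M N (f ⊗ₜ[k] (1 : S)) (c f ⊗ₜ[k] y) by
          rw [GrSeg.act_tmul, one_smul], ← act_mul, mul_comm, act_mul, ih _ (hc f hf) y hy, map_zero]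
    intro i j
    induction j with
    | zero => intro x hx y hy; exact hi i x hx y (by simpa using hy)
    | succ j ih =>
      intro x hx y hy
      obtain ⟨c, hc, rfl⟩ := step ℬ 𝒩 hF' hFs' hn hnspan hG' (n := G + j) (by omega) (by
        rwa [Nat.cast_succ, ← add_assoc] at hy)
      rw [TensorProduct.tmul_sum, map_sum]
      refine Finset.sum_eq_zero fun f hf => ?_
      rw [show x ⊗ₜ[k] (f • c f) = GrSeg.act k R S M N ((1 : R) ⊗ₜ[k] f) (x ⊗ₜ[k] c f) by
        rw [GrSeg.act_tmul, one_smul], ← act_mul, mul_comm, act_mul, ih x hx _ (hc f hf), map_zero]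
  haveI : SetLike.GradedSMul 𝒯 𝒬 := ⟨fun {i j t p} ht hp => by
    have hφ : φ (t • p) ∈ GrSeg.segrePiece k ℳ 𝒩 (i + j) := by
      rw [hP.map_smul]
      have h1 : φ p ∈ GrSeg.segrePiece k ℳ 𝒩 j := (Set.ext_iff.1 (hP.image_piece j) _).1 ⟨p, hp, rfl⟩
      have h2 : ψ t ∈ GrSeg.segrePiece k 𝒜 ℬ i := hT.2 i ▸ Submodule.mem_map_of_mem ht
      generalize ψ t = z at h2 ⊢
      generalize φ p = w at h1 ⊢
      induction h2 using Submodule.span_induction with
      | mem z hz =>
        obtain ⟨a, ha, b, hb, rfl⟩ := hz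
        induction h1 using Submodule.span_induction with
        | mem w hw =>
          obtain ⟨c, hc, d, hd, rfl⟩ := hw
          rw [GrSeg.act_tmul]
          exact Submodule.subset_span ⟨_, SetLike.GradedSMul.smul_mem ha hc, _, SetLike.GradedSMul.smul_mem hb hd, rfl⟩
        | zero => simp
        | add a b _ _ ha hb => rw [map_add]; exact add_mem ha hb
        | smul c a _ ha => rw [map_smul]; exact Submodule.smul_mem _ _ ha
      | zero => simp
      | add a b _ _ ha hb => rw [map_add, LinearMap.add_apply]; exact add_mem ha hb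
      | smul c a _ ha => rw [map_smul, LinearMap.smul_apply]; exact Submodule.smul_mem _ _ ha
    obtain ⟨p', hp', he⟩ := (Set.ext_iff.1 (hP.image_piece (i + j)) _).2 hφ
    exact hP.injective he ▸ hp'⟩
  -- the support
  have hsupp : Module.support T P = PrimeSpectrum.zeroLocus (K : Set T) := by
    refine Set.eq_of_subset_of_subset (fun p hp => ?_) (fun p hp => ?_)
    · intro t ht
      exact Module.annihilator_le_of_mem_support hp (Module.mem_annihilator.2 (hKann t ht))
    rw [PrimeSpectrum.mem_zeroLocus, SetLike.coe_subset_coe] at hp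
    rw [Module.mem_support_iff_exists_annihilator]
    by_contra hne
    push Not at hne
    choose sq hsq hsp using fun pp => SetLike.not_le_iff_exists.1 (hne (q pp))
    let t := ∏ pp, sq pp
    have htp : t ∉ p.asIdeal := fun h' => by
      obtain ⟨pp, -, h''⟩ := p.isPrime.prod_mem_iff.1 h'
      exact hsp pp h''
    have htkill : ∀ pp, t • q pp = 0 := fun pp => by
      obtain ⟨c, hc⟩ := Finset.dvd_prod_of_mem sq (Finset.mem_univ pp)
      change t • q pp = 0
      rw [show t = c * sq pp from hc.trans (mul_comm _ _), mul_smul,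
        (Submodule.mem_annihilator_span_singleton (q pp) (sq pp)).1 (hsq pp), smul_zero]
    have hcomp : ∀ (d : ℤ) pp, (decompose 𝒯 t d : T) • q pp = 0 := fun d pp => by
      have h := decompose_smul_of_mem 𝒯 𝒬 (hqQ pp) t (d + G)
      rw [htkill pp, decompose_zero, add_sub_cancel_right] at h
      exact h.symm
    have hpos : ∀ d : ℤ, d ≠ 0 → (decompose 𝒯 t d : T) ∈ p.asIdeal := by
      intro d hd
      rcases lt_or_gt_of_ne hd with hd | hd
      · have : ψ (decompose 𝒯 t d : T) ∈ GrSeg.segrePiece k 𝒜 ℬ d := hT.2 d ▸ Submodule.mem_map_of_mem (decompose 𝒯 t d).2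
        have hz : GrSeg.segrePiece k 𝒜 ℬ d = ⊥ := eq_bot_iff.2 (Submodule.span_le.2 (by
          rintro _ ⟨a, ha, b, -, rfl⟩
          rw [eq_zero_of_neg 𝒜 hposR hd ha, TensorProduct.zero_tmul]
          exact Submodule.zero_mem _))
        rw [hz, Submodule.mem_bot] at this
        rw [hT.1 (this.trans (map_zero ψ).symm)]
        exact p.asIdeal.zero_mem
      let L : ℕ := (Finset.univ.sup fun a : Fin g => (G - e a).toNat) ⊔ (Finset.univ.sup fun b : Fin h => (G - e' b).toNat)
      refine p.isPrime.mem_of_pow_mem (L + 1) (hp ?_)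
      rw [RingHom.mem_ker]
      change mm (ψ ((decompose 𝒯 t d : T) ^ (L + 1))) = 0
      refine map_eq_zero_of_act hmspan hnspan fun a b => ?_
      rw [pow_succ', map_mul, act_mul]
      have hL : ψ ((decompose 𝒯 t d : T) ^ L) ∈ GrSeg.segrePiece k 𝒜 ℬ ((L : ℤ) * d) := by
        refine hT.2 _ ▸ Submodule.mem_map_of_mem ?_
        have := SetLike.pow_mem_graded L (decompose 𝒯 t d).2
        rwa [nsmul_eq_mul] at this
      generalize ψ ((decompose 𝒯 t d : T) ^ L) = z at hL ⊢
      induction hL using Submodule.span_induction with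
      | mem z hz =>
        obtain ⟨x, hx, y, hy, rfl⟩ := hz
        rw [GrSeg.act_tmul]
        have hl1 : (G - e a).toNat ≤ L :=
          le_sup_of_le_left (Finset.le_sup (f := fun a : Fin g => (G - e a).toNat) (Finset.mem_univ a))
        have hl2 : (G - e' b).toNat ≤ L :=
          le_sup_of_le_right (Finset.le_sup (f := fun b : Fin h => (G - e' b).toNat) (Finset.mem_univ b))
        have hLd : (L : ℤ) ≤ (L : ℤ) * d := le_mul_of_one_le_right (by positivity) hd
        refine hkill _ (hcomp d) ((L : ℤ) * d + e a - G).toNat ((L : ℤ) * d + e' b - G).toNat _ ?_ _ ?_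
        · rw [show G + (((L : ℤ) * d + e a - G).toNat : ℤ) = (L : ℤ) * d + e a by omega]
          exact SetLike.GradedSMul.smul_mem hx (hm a)
        · rw [show G + (((L : ℤ) * d + e' b - G).toNat : ℤ) = (L : ℤ) * d + e' b by omega]
          exact SetLike.GradedSMul.smul_mem hy (hn b)
      | zero => simp
      | add a b _ _ ha hb => rw [map_add, LinearMap.add_apply, map_add, ha, hb, add_zero]
      | smul c a _ ha => rw [map_smul, LinearMap.smul_apply, map_smul, ha, smul_zero]
    have h0 : (decompose 𝒯 t 0 : T) ∉ p.asIdeal := fun h0 => htp (by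
      rw [← DirectSum.sum_support_decompose 𝒯 t]
      refine Ideal.sum_mem _ fun d _ => ?_
      rcases eq_or_ne d 0 with rfl | hd
      · exact h0
      · exact hpos d hd)
    obtain ⟨c, hc⟩ : ∃ c : k, algebraMap k T c = (decompose 𝒯 t 0 : T) := by
      have hz : ψ (decompose 𝒯 t 0 : T) ∈ GrSeg.segrePiece k 𝒜 ℬ 0 := hT.2 0 ▸ Submodule.mem_map_of_mem (decompose 𝒯 t 0).2
      have hle : GrSeg.segrePiece k 𝒜 ℬ 0 ≤ Submodule.span k {(1 : R ⊗[k] S)} := Submodule.span_le.2 (by
        rintro _ ⟨a, ha, b, hb, rfl⟩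
        rw [h0R, Submodule.mem_span_singleton] at ha
        rw [h0S, Submodule.mem_span_singleton] at hb
        obtain ⟨x, rfl⟩ := ha
        obtain ⟨y, rfl⟩ := hb
        rw [TensorProduct.tmul_smul, ← TensorProduct.smul_tmul', smul_smul, ← Algebra.TensorProduct.one_def]
        exact Submodule.smul_mem _ _ (Submodule.mem_span_singleton_self _))
      obtain ⟨c, hc⟩ := Submodule.mem_span_singleton.1 (hle hz)
      exact ⟨c, hT.1 (by rw [AlgHom.commutes, Algebra.algebraMap_eq_smul_one, hc])⟩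
    have hc0 : c ≠ 0 := fun h => h0 (by rw [← hc, h, map_zero]; exact p.asIdeal.zero_mem)
    have hq0 : ∀ pp, q pp = 0 := fun pp => by
      have := hcomp 0 pp
      rw [← hc, algebraMap_smul] at this
      exact (smul_eq_zero.1 this).resolve_left hc0
    have hz : y₀ ⊗ₜ[k] z₀ = 0 := by
      have hy := hEs y₀ hy₀
      have hz := hEs' z₀ hz₀
      clear hy₀' hz₀' hy₀ hz₀
      induction hy using Submodule.span_induction with
      | mem a ha =>
        induction hz using Submodule.span_induction with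
        | mem b hb => rw [← hq (⟨a, ha⟩, ⟨b, hb⟩), hq0, map_zero]
        | zero => simp
        | add a b _ _ ha hb => rw [TensorProduct.tmul_add, ha, hb, add_zero]
        | smul c a _ ha => rw [TensorProduct.tmul_smul, ha, smul_zero]
      | zero => simp
      | add a b _ _ ha hb => rw [TensorProduct.add_tmul, ha, hb, add_zero]
      | smul c a _ ha => rw [← TensorProduct.smul_tmul', ha, smul_zero]
    obtain ⟨f, hf⟩ := not_forall.1 fun h' => hy₀' ((Module.forall_dual_apply_eq_zero_iff k y₀).1 h')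
    obtain ⟨f', hf'⟩ := not_forall.1 fun h' => hz₀' ((Module.forall_dual_apply_eq_zero_iff k z₀).1 h')
    have := congrArg (fun w => TensorProduct.lid k k (TensorProduct.map f f' w)) hz
    simp at this
    exact this.elim hf hf'
  have hfin : Module.supportDim T P = ringKrullDim (T ⧸ K) := by
    rw [Module.supportDim, hsupp, ringKrullDim_quotient]
  rw [hfin, hdimK]
  congr 1

end GrothLib.Segre
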