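import Groth.Agent.Lib.Segre.ModDim
import Groth.Agent.Lib.GrDual.Basic
import Mathlib.RingTheory.Noetherian.Basic
import Mathlib.RingTheory.FiniteStability

/-!
# Segre products of modules: finiteness and elementary facts
-/

universe u

open scoped TensorProduct DirectSum

namespace GrothLib.Segre

open GrothLib.GrLC (cmp cmp_mem cmp_of_mem cmp_of_mem_ne gr_induction cmp_smul_mem smul_mem' exists_sum_cmp)
open GrothLib.GrDual (projK pieceK)

variable {k : Type u} [Field k] {R : Type u} [CommRing R] [Algebra k R] {S : Type u} [CommRing S] [Algebra k S]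
  {𝒜 : ℤ → Submodule k R} [GradedAlgebra 𝒜] {ℬ : ℤ → Submodule k S} [GradedAlgebra ℬ]
  {M : Type u} [AddCommGroup M] [Module R M] [Module k M] [IsScalarTower k R M]
  {N : Type u} [AddCommGroup N] [Module S N] [Module k N] [IsScalarTower k S N]
  (ℳ : ℤ → AddSubgroup M) [DirectSum.Decomposition ℳ] [SetLike.GradedSMul 𝒜 ℳ]
  (𝒩 : ℤ → AddSubgroup N) [DirectSum.Decomposition 𝒩] [SetLike.GradedSMul ℬ 𝒩]

variable (𝒜 ℬ) in
/-- projection to the diagonal bidegree `n` -/
noncomputable def projPiece (n : ℤ) : M ⊗[k] N →ₗ[k] M ⊗[k] N :=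
  TensorProduct.map (projK 𝒜 ℳ n) (projK ℬ 𝒩 n)

theorem projPiece_tmul (n : ℤ) (a : M) (b : N) :
    projPiece 𝒜 ℬ ℳ 𝒩 n (a ⊗ₜ b) = cmp ℳ n a ⊗ₜ cmp 𝒩 n b := rfl

theorem projPiece_of_mem {n m : ℤ} {x : M ⊗[k] N} (hx : x ∈ GrSeg.segrePiece k ℳ 𝒩 m) :
    projPiece 𝒜 ℬ ℳ 𝒩 n x = if m = n then x else 0 := by
  induction hx using Submodule.span_induction with
  | mem y hy =>
    obtain ⟨a, ha, b, hb, rfl⟩ := hy
    rw [projPiece_tmul]
    split_ifs with h
    · subst h; rw [cmp_of_mem ℳ ha, cmp_of_mem 𝒩 hb]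
    · rw [cmp_of_mem_ne ℳ ha h, TensorProduct.zero_tmul]
  | zero => simp
  | add u v _ _ hu hv => rw [map_add, hu, hv]; split_ifs <;> simp
  | smul c u _ hu => rw [map_smul, hu]; split_ifs <;> simp

theorem projPiece_mem (n : ℤ) (x : M ⊗[k] N) : projPiece 𝒜 ℬ ℳ 𝒩 n x ∈ GrSeg.segrePiece k ℳ 𝒩 n := by
  induction x using TensorProduct.induction_on with
  | zero => rw [map_zero]; exact zero_mem _
  | tmul a b => exact Submodule.subset_span ⟨_, cmp_mem ℳ n a, _, cmp_mem 𝒩 n b, rfl⟩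
  | add u v hu hv => rw [map_add]; exact add_mem hu hv

theorem act_piece {i h : ℤ} {z : R ⊗[k] S} (hz : z ∈ GrSeg.segrePiece k 𝒜 ℬ i) {x : M ⊗[k] N}
    (hx : x ∈ GrSeg.segrePiece k ℳ 𝒩 h) : GrSeg.act k R S M N z x ∈ GrSeg.segrePiece k ℳ 𝒩 (i + h) := by
  induction hz using Submodule.span_induction with
  | mem y hy =>
    obtain ⟨a, ha, b, hb, rfl⟩ := hy
    induction hx using Submodule.span_induction with
    | mem w hw =>
      obtain ⟨m, hm, n, hn, rfl⟩ := hw
      rw [GrSeg.act_tmul]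
      exact Submodule.subset_span ⟨_, smul_mem' (𝒜 := 𝒜) ℳ ha hm, _, smul_mem' (𝒜 := ℬ) 𝒩 hb hn, rfl⟩
    | zero => rw [map_zero]; exact zero_mem _
    | add u v _ _ hu hv => rw [map_add]; exact add_mem hu hv
    | smul c u _ hu => rw [map_smul]; exact Submodule.smul_mem _ c hu
  | zero => rw [map_zero, LinearMap.zero_apply]; exact zero_mem _
  | add u v _ _ hu hv => rw [map_add, LinearMap.add_apply]; exact add_mem hu hv
  | smul c u _ hu => rw [map_smul, LinearMap.smul_apply]; exact Submodule.smul_mem _ c hu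

variable (𝒜 ℬ) in
/-- The projection of `M ⊗ N` to its diagonal bidegrees. -/
noncomputable def modDiag : M ⊗[k] N →ₗ[k] M ⊗[k] N :=
  TensorProduct.lift
    { toFun := fun a => (DirectSum.toAddMonoid fun i =>
        (AddMonoidHom.mk' (fun v : ℳ i => ((TensorProduct.mk k M N (v : M)) ∘ₗ projK ℬ 𝒩 i))
          fun u v => by rw [AddSubgroup.coe_add, map_add, LinearMap.add_comp])) (DirectSum.decompose ℳ a)
      map_add' := fun a b => by rw [DirectSum.decompose_add, map_add]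
      map_smul' := fun c a => by
        induction a using gr_induction ℳ with
        | h0 => simp
        | hh i a ha =>
          rw [DirectSum.decompose_of_mem ℳ ha, DirectSum.decompose_of_mem ℳ (GrothLib.GrDual.smulk_mem (𝒜 := 𝒜) ℳ c ha),
            DirectSum.toAddMonoid_of, DirectSum.toAddMonoid_of, RingHom.id_apply]
          simp only [AddMonoidHom.mk'_apply, map_smul, LinearMap.smul_comp]
        | hadd u v hu hv =>
          simp only [smul_add, DirectSum.decompose_add, map_add, hu, hv, RingHom.id_apply] at * }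

theorem modDiag_tmul {i : ℤ} {a : M} (ha : a ∈ ℳ i) (b : N) :
    modDiag 𝒜 ℬ ℳ 𝒩 (a ⊗ₜ b) = a ⊗ₜ cmp 𝒩 i b := by
  simp only [modDiag, TensorProduct.lift.tmul, LinearMap.coe_mk, AddHom.coe_mk]
  rw [DirectSum.decompose_of_mem ℳ ha, DirectSum.toAddMonoid_of]
  rfl

theorem modDiag_of_mem {n : ℤ} {x : M ⊗[k] N} (hx : x ∈ GrSeg.segrePiece k ℳ 𝒩 n) : modDiag 𝒜 ℬ ℳ 𝒩 x = x := by
  induction hx using Submodule.span_induction with
  | mem y hy =>
    obtain ⟨a, ha, b, hb, rfl⟩ := hy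
    rw [modDiag_tmul ℳ 𝒩 ha, cmp_of_mem 𝒩 hb]
  | zero => rw [map_zero]
  | add u v _ _ hu hv => rw [map_add, hu, hv]
  | smul c u _ hu => rw [map_smul, hu]

theorem modDiag_act (z : R ⊗[k] S) {n : ℤ} {x : M ⊗[k] N} (hx : x ∈ GrSeg.segrePiece k ℳ 𝒩 n) :
    modDiag 𝒜 ℬ ℳ 𝒩 (GrSeg.act k R S M N z x) = GrSeg.act k R S M N (diag 𝒜 ℬ z) x := by
  refine induction_tmul 𝒜 ℬ
    (P := fun z => modDiag 𝒜 ℬ ℳ 𝒩 (GrSeg.act k R S M N z x) = GrSeg.act k R S M N (diag 𝒜 ℬ z) x) z (by simp)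
    (fun u v hu hv => by simp only [map_add, LinearMap.add_apply, hu, hv]) fun i j a b ha hb => ?_
  rw [diag_tmul 𝒜 ℬ ha hb]
  induction hx using Submodule.span_induction with
  | mem y hy =>
    obtain ⟨m, hm, p, hp, rfl⟩ := hy
    rw [GrSeg.act_tmul, modDiag_tmul ℳ 𝒩 (smul_mem' (𝒜 := 𝒜) ℳ ha hm)]
    split_ifs with h
    · subst h
      rw [cmp_of_mem 𝒩 (smul_mem' (𝒜 := ℬ) 𝒩 hb hp), GrSeg.act_tmul]
    · rw [cmp_of_mem_ne 𝒩 (smul_mem' (𝒜 := ℬ) 𝒩 hb hp) (by omega), TensorProduct.tmul_zero, map_zero,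
        LinearMap.zero_apply]
  | zero => simp
  | add u v _ _ hu hv => simp only [map_add, hu, hv]
  | smul c u _ hu => simp only [map_smul, hu]

variable {T : Type u} [CommRing T] [Algebra k T] {𝒯 : ℤ → Submodule k T} [GradedAlgebra 𝒯] {ψ : T →ₐ[k] R ⊗[k] S}
  {P : Type u} [AddCommGroup P] [Module T P] [Module k P] [IsScalarTower k T P]
  {𝒬 : ℤ → AddSubgroup P} [DirectSum.Decomposition 𝒬] {φ : P →ₗ[k] M ⊗[k] N}
  (hT : GrSeg.IsSegreRing 𝒜 ℬ 𝒯 ψ) (hP : GrSeg.IsSegreMod ψ ℳ 𝒩 𝒬 φ)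

include hP in
theorem phi_mem {n : ℤ} {p : P} (hp : p ∈ 𝒬 n) : φ p ∈ GrSeg.segrePiece k ℳ 𝒩 n :=
  (hP.image_piece n).subset ⟨p, hp, rfl⟩

include hP in
theorem exists_phi {n : ℤ} {x : M ⊗[k] N} (hx : x ∈ GrSeg.segrePiece k ℳ 𝒩 n) : ∃ p ∈ 𝒬 n, φ p = x :=
  (hP.image_piece n).symm.subset hx

include hT in
theorem psi_mem {n : ℤ} {t : T} (ht : t ∈ 𝒯 n) : ψ t ∈ GrSeg.segrePiece k 𝒜 ℬ n :=
  (hT.2 n).le ⟨t, ht, rfl⟩

include hT in
theorem exists_psi {n : ℤ} {x : R ⊗[k] S} (hx : x ∈ GrSeg.segrePiece k 𝒜 ℬ n) : ∃ t ∈ 𝒯 n, ψ t = x :=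
  (hT.2 n).ge hx

include hT hP in
/-- If one element of bidegree `(n, n)` generates, then `R_d x = M_{n+d}`. -/
theorem exists_smul_eq_of_generator {n : ℤ} {x : M} (hx : x ∈ ℳ n) {y : N} (hy : y ∈ 𝒩 n) {p : P}
    (hp : φ p = x ⊗ₜ[k] y) (hgen : Submodule.span T {p} = ⊤) {d : ℤ} {w : N} (hw : w ∈ 𝒩 (n + d)) (hw0 : w ≠ 0)
    {z : M} (hz : z ∈ ℳ (n + d)) : ∃ r ∈ 𝒜 d, r • x = z := by
  obtain ⟨q, -, hq⟩ := exists_phi ℳ 𝒩 hP (Submodule.subset_span ⟨z, hz, w, hw, rfl⟩ :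
    z ⊗ₜ[k] w ∈ GrSeg.segrePiece k ℳ 𝒩 (n + d))
  obtain ⟨t, rfl⟩ := Submodule.mem_span_singleton.1 (hgen ▸ Submodule.mem_top : q ∈ Submodule.span T {p})
  rw [hP.map_smul, hp] at hq
  obtain ⟨μ, hμ⟩ := Module.Projective.exists_dual_ne_zero k hw0
  let Θ : M ⊗[k] N →ₗ[k] M :=
    (TensorProduct.rid k M).toLinearMap ∘ₗ TensorProduct.map LinearMap.id μ
  let V : Submodule k M := (𝒜 d).map ((LinearMap.toSpanSingleton R M x).restrictScalars k)
  have key : ∀ t : T, Θ (projPiece 𝒜 ℬ ℳ 𝒩 (n + d) (GrSeg.act k R S M N (ψ t) (x ⊗ₜ y))) ∈ V := by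
    intro t
    induction t using gr_induction 𝒯 with
    | h0 => simp
    | hh i t ht =>
      obtain ⟨v₀, hv₀, e⟩ : ∃ v, v ∈ GrSeg.segrePiece k 𝒜 ℬ i ∧ v = ψ t := ⟨_, psi_mem hT ht, rfl⟩
      rw [← e]
      clear e
      induction hv₀ using Submodule.span_induction with
      | mem v hv =>
        obtain ⟨a, ha, b, hb, rfl⟩ := hv
        rw [GrSeg.act_tmul, projPiece_tmul]
        by_cases hi : i = d
        · subst hi
          rw [cmp_of_mem ℳ (by rw [add_comm]; exact smul_mem' (𝒜 := 𝒜) ℳ ha hx)]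
          change TensorProduct.rid k M ((a • x) ⊗ₜ μ _) ∈ V
          rw [TensorProduct.rid_tmul]
          exact Submodule.smul_mem _ _ ⟨a, ha, rfl⟩
        · rw [cmp_of_mem_ne ℳ (smul_mem' (𝒜 := 𝒜) ℳ ha hx) (by omega), TensorProduct.zero_tmul, map_zero]
          exact zero_mem _
      | zero => simp
      | add u v _ _ hu hv => simp only [map_add, LinearMap.add_apply]; exact add_mem hu hv
      | smul c u _ hu => simp only [map_smul, LinearMap.smul_apply]; exact Submodule.smul_mem _ c hu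
    | hadd u v hu hv => simp only [map_add, LinearMap.add_apply]; exact add_mem hu hv
  have h := key t
  rw [hq, projPiece_tmul, cmp_of_mem ℳ hz, cmp_of_mem 𝒩 hw] at h
  change TensorProduct.rid k M (z ⊗ₜ μ w) ∈ V at h
  rw [TensorProduct.rid_tmul] at h
  have h' : z ∈ V := by
    have := Submodule.smul_mem V (μ w)⁻¹ h
    rwa [smul_smul, inv_mul_cancel₀ hμ, one_smul] at this
  obtain ⟨r, hr, e⟩ := h'
  exact ⟨r, hr, e⟩

include hT hP in
theorem exists_bijective {d e : ℤ} (hd : 0 < d) (he : 0 < e) {f : R} (hf : f ∈ 𝒜 d)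
    (hfM : Function.Bijective fun x : M => f • x) {g : S} (hg : g ∈ ℬ e)
    (hgN : Function.Bijective fun y : N => g • y) :
    ∃ (c : ℤ) (t : T), 0 < c ∧ t ∈ 𝒯 c ∧ Function.Bijective fun p : P => t • p := by
  lift d to ℕ using hd.le with d'
  lift e to ℕ using he.le with e'
  have hF : f ^ e' ∈ 𝒜 ((d' : ℤ) * e') := by
    have := SetLike.pow_mem_graded e' hf
    rwa [nsmul_eq_mul, mul_comm] at this
  have hG : g ^ d' ∈ ℬ ((d' : ℤ) * e') := by
    have := SetLike.pow_mem_graded d' hg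
    rwa [nsmul_eq_mul] at this
  have hpow : ∀ {A : Type u} {X : Type u} [CommRing A] [AddCommGroup X] [Module A X] (a : A),
      Function.Bijective (fun x : X => a • x) → ∀ m : ℕ, Function.Bijective fun x : X => a ^ m • x := by
    intro A X _ _ _ a ha m
    induction m with
    | zero => simp only [pow_zero, one_smul]; exact Function.bijective_id
    | succ m ih =>
      have : (fun x : X => a ^ (m + 1) • x) = (fun x => a ^ m • x) ∘ fun x => a • x := funext fun x => by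
        rw [Function.comp_apply, pow_succ, mul_smul]
      rw [this]; exact ih.comp ha
  have hFb := hpow f hfM e'
  have hGb := hpow g hgN d'
  obtain ⟨t, ht, hψt⟩ := exists_psi hT (Submodule.subset_span ⟨_, hF, _, hG, rfl⟩ :
    (f ^ e') ⊗ₜ[k] (g ^ d') ∈ GrSeg.segrePiece k 𝒜 ℬ ((d' : ℤ) * e'))
  let eF : M ≃ₗ[k] M := LinearEquiv.ofBijective ((LinearMap.lsmul R M (f ^ e')).restrictScalars k) hFb
  let eG : N ≃ₗ[k] N := LinearEquiv.ofBijective ((LinearMap.lsmul S N (g ^ d')).restrictScalars k) hGb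
  let eT := TensorProduct.congr eF eG
  have hact : ∀ x, GrSeg.act k R S M N (ψ t) x = eT x := by
    intro x
    rw [hψt]
    induction x using TensorProduct.induction_on with
    | zero => simp
    | tmul a b => rw [GrSeg.act_tmul]; rfl
    | add u v hu hv => rw [map_add, map_add, hu, hv]
  refine ⟨(d' : ℤ) * e', t, mul_pos hd he, ht, fun p p' h => hP.injective (eT.injective ?_), fun q => ?_⟩
  · rw [← hact, ← hact, ← hP.map_smul, ← hP.map_smul]
    exact congrArg φ h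
  induction q using gr_induction 𝒬 with
  | h0 => exact ⟨0, smul_zero t⟩
  | hh j q hq =>
    suffices ∃ x ∈ GrSeg.segrePiece k ℳ 𝒩 (j - (d' : ℤ) * e'), eT x = φ q by
      obtain ⟨x, hx, hxe⟩ := this
      obtain ⟨p, -, rfl⟩ := exists_phi ℳ 𝒩 hP hx
      exact ⟨p, hP.injective (by change φ (t • p) = φ q; rw [hP.map_smul, hact, hxe])⟩
    have h := phi_mem ℳ 𝒩 hP hq
    suffices hle : GrSeg.segrePiece k ℳ 𝒩 j ≤ (GrSeg.segrePiece k ℳ 𝒩 (j - (d' : ℤ) * e')).map eT.toLinearMap by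
      obtain ⟨x, hx, hxe⟩ := hle h
      exact ⟨x, hx, hxe⟩
    refine Submodule.span_le.2 ?_
    rintro _ ⟨a, ha, b, hb, rfl⟩
    obtain ⟨a', rfl⟩ := hFb.2 a
    obtain ⟨b', rfl⟩ := hGb.2 b
    refine ⟨cmp ℳ (j - (d' : ℤ) * e') a' ⊗ₜ cmp 𝒩 (j - (d' : ℤ) * e') b',
      Submodule.subset_span ⟨_, cmp_mem ℳ _ a', _, cmp_mem 𝒩 _ b', rfl⟩, ?_⟩
    change (f ^ e' • cmp ℳ _ a') ⊗ₜ[k] (g ^ d' • cmp 𝒩 _ b') = _
    rw [← GrothLib.GrLC.cmp_smul_of_mem (𝒜 := 𝒜) ℳ hF, ← GrothLib.GrLC.cmp_smul_of_mem (𝒜 := ℬ) 𝒩 hG,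
      cmp_of_mem ℳ ha, cmp_of_mem 𝒩 hb]
  | hadd u v hu hv =>
    obtain ⟨a, rfl⟩ := hu
    obtain ⟨b, rfl⟩ := hv
    exact ⟨a + b, smul_add t a b⟩

include hT hP in
/-- The Segre product of finite modules is finite. -/
theorem finite_segre [Algebra.FiniteType k R] [Algebra.FiniteType k S] [Module.Finite R M] [Module.Finite S N] :
    Module.Finite T P := by
  classical
  have : Algebra.FiniteType k (R ⊗[k] S) :=
    Algebra.FiniteType.trans (R := k) (S := R) (A := R ⊗[k] S) inferInstance inferInstance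
  have : IsNoetherianRing (R ⊗[k] S) := Algebra.FiniteType.isNoetherianRing k _
  letI : Module (R ⊗[k] S) (M ⊗[k] N) :=
    { smul := fun z x => GrSeg.act k R S M N z x
      one_smul := fun x => by
        change GrSeg.act k R S M N 1 x = x
        induction x using TensorProduct.induction_on with
        | zero => simp
        | tmul a b => rw [Algebra.TensorProduct.one_def, GrSeg.act_tmul, one_smul, one_smul]
        | add u v hu hv => rw [map_add, hu, hv]
      mul_smul := fun z w x => act_mul z w x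
      smul_zero := fun z => map_zero _
      smul_add := fun z x y => map_add _ _ _
      add_smul := fun z w x => by
        change GrSeg.act k R S M N (z + w) x = GrSeg.act k R S M N z x + GrSeg.act k R S M N w x
        rw [map_add, LinearMap.add_apply]
      zero_smul := fun x => by
        change GrSeg.act k R S M N 0 x = 0
        rw [map_zero, LinearMap.zero_apply] }
  have hsmul : ∀ (z : R ⊗[k] S) (x : M ⊗[k] N), z • x = GrSeg.act k R S M N z x := fun _ _ => rfl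
  obtain ⟨g, m, hm⟩ := Module.Finite.exists_fin (R := R) (M := M)
  obtain ⟨h, n, hn⟩ := Module.Finite.exists_fin (R := S) (M := N)
  have hfin : Module.Finite (R ⊗[k] S) (M ⊗[k] N) := by
    refine ⟨⟨(Finset.univ ×ˢ Finset.univ).image fun ab : Fin g × Fin h => m ab.1 ⊗ₜ[k] n ab.2,
      eq_top_iff.2 fun x _ => ?_⟩⟩
    induction x using TensorProduct.induction_on with
    | zero => exact zero_mem _
    | add u v hu hv => exact add_mem (hu trivial) (hv trivial)
    | tmul a b =>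
      obtain ⟨c, rfl⟩ := (Submodule.mem_span_range_iff_exists_fun R).1 (hm ▸ Submodule.mem_top : a ∈ Submodule.span R (Set.range m))
      obtain ⟨e, rfl⟩ := (Submodule.mem_span_range_iff_exists_fun S).1 (hn ▸ Submodule.mem_top : b ∈ Submodule.span S (Set.range n))
      rw [TensorProduct.sum_tmul]
      refine sum_mem fun i _ => ?_
      rw [TensorProduct.tmul_sum]
      refine sum_mem fun j _ => ?_
      rw [← GrSeg.act_tmul, ← hsmul]
      exact Submodule.smul_mem _ _ (Submodule.subset_span (Finset.mem_coe.2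
        (Finset.mem_image.2 ⟨(i, j), Finset.mem_product.2 ⟨Finset.mem_univ i, Finset.mem_univ j⟩, rfl⟩)))
  have hNoeth : IsNoetherian (R ⊗[k] S) (M ⊗[k] N) := isNoetherian_of_isNoetherianRing_of_finite _ _
  have hrange : ∀ x : M ⊗[k] N, ∃ p, φ p = modDiag 𝒜 ℬ ℳ 𝒩 x := by
    intro x
    induction x using TensorProduct.induction_on with
    | zero => exact ⟨0, by rw [map_zero, map_zero]⟩
    | add u v hu hv =>
      obtain ⟨p, hp⟩ := hu
      obtain ⟨q, hq⟩ := hv
      exact ⟨p + q, by rw [map_add, map_add, hp, hq]⟩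
    | tmul a b =>
      induction a using gr_induction ℳ with
      | h0 => exact ⟨0, by rw [TensorProduct.zero_tmul, map_zero, map_zero]⟩
      | hh i a ha =>
        rw [modDiag_tmul ℳ 𝒩 ha]
        obtain ⟨p, -, hp⟩ := exists_phi ℳ 𝒩 hP (Submodule.subset_span ⟨a, ha, _, cmp_mem 𝒩 i b, rfl⟩ :
          a ⊗ₜ[k] cmp 𝒩 i b ∈ GrSeg.segrePiece k ℳ 𝒩 i)
        exact ⟨p, hp⟩
      | hadd u v hu hv =>
        obtain ⟨p, hp⟩ := hu
        obtain ⟨q, hq⟩ := hv
        exact ⟨p + q, by rw [TensorProduct.add_tmul, map_add, map_add, hp, hq]⟩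
  choose ρ hρ using hrange
  have hpσ : ∀ z : R ⊗[k] S, ∃ t, ψ t = diag 𝒜 ℬ z := fun z =>
    (range_eq_segre 𝒜 ℬ 𝒯 ψ hT.2).ge (diag_mem_segre 𝒜 ℬ z)
  choose σ hσ using hpσ
  have hNT : IsNoetherian T P := isNoetherian_of_retract ψ.toRingHom φ.toAddMonoidHom (M := M ⊗[k] N)
    (fun t p => hP.map_smul t p)
    { toFun := ρ
      map_zero' := hP.injective (by rw [hρ, map_zero, map_zero])
      map_add' := fun x y => hP.injective (by rw [map_add, hρ, hρ, hρ, map_add]) }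
    (fun p => hP.injective ((hρ _).trans (by
      induction p using gr_induction 𝒬 with
      | h0 => simp
      | hh i p hp => exact modDiag_of_mem ℳ 𝒩 (phi_mem ℳ 𝒩 hP hp)
      | hadd u v hu hv =>
        change modDiag 𝒜 ℬ ℳ 𝒩 (φ (u + v)) = φ (u + v)
        rw [map_add, map_add]
        exact congrArg₂ (· + ·) hu hv)))
    σ (fun z p => hP.injective ((hρ _).trans (by
      rw [hP.map_smul, hσ, hsmul]
      change modDiag 𝒜 ℬ ℳ 𝒩 (GrSeg.act k R S M N z (φ p)) = _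
      induction p using gr_induction 𝒬 with
      | h0 => simp
      | hh i p hp => exact modDiag_act ℳ 𝒩 z (phi_mem ℳ 𝒩 hP hp)
      | hadd u v hu hv => simp only [map_add, hu, hv])))
  exact Module.IsNoetherian.finite T P

end GrothLib.Segre
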