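import Groth.Agent.Lib.Segre.CMCriterion
import Groth.Agent.Lib.GrLC.CutTop

/-!
# Standard graded algebras of dimension one
-/

universe u

open DirectSum

namespace GrothLib.Segre

open GrothLib.GrLC
open _root_.GrLC (GMod StarInjRes)

variable {k R : Type u} [Field k] [CommRing R] [Algebra k R] {𝒜 : ℤ → Submodule k R} [GradedAlgebra 𝒜]
  [Algebra.FiniteType k R] [Nontrivial R]
  (hpos : ∀ n : ℤ, n < 0 → 𝒜 n = ⊥) (h0 : 𝒜 0 = Submodule.span k {(1 : R)})
  (hstd : Ideal.span (⋃ n ∈ Set.Ioi (0 : ℤ), (𝒜 n : Set R)) = Ideal.span ((𝒜 1 : Submodule k R) : Set R))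
  {m : HomogeneousIdeal 𝒜} (hm : m.toIdeal = Ideal.span (⋃ n ∈ Set.Ioi (0 : ℤ), (𝒜 n : Set R)))
  (hdim : ringKrullDim R = 1)

include hpos h0 hstd hm hdim

theorem exists_not_isNilpotent : ∃ y ∈ 𝒜 1, ¬ IsNilpotent y := by
  by_contra h
  push Not at h
  have hnil : Ideal.span ((𝒜 1 : Submodule k R) : Set R) ≤ nilradical R := Ideal.span_le.2 fun y hy => h y hy
  have hmax : m.toIdeal.IsMaximal := isMaximal hpos h0 hm
  have : Ring.KrullDimLE 0 R := Ring.krullDimLE_zero_iff.2 fun P hP => by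
    rwa [← hmax.eq_of_le hP.ne_top (hm.le.trans (hstd.le.trans (hnil.trans (nilradical_le_prime P))))]
  have h0' := (Ring.krullDimLE_iff (n := 0) (R := R)).1 this
  rw [hdim] at h0'
  exact (zero_lt_one (α := WithBot ℕ∞)).not_ge (by exact_mod_cast h0')

omit hdim in
theorem span_eq_of_span_singleton {y : R} (hy : y ∈ 𝒜 1) (hR1 : 𝒜 1 ≤ Submodule.span k {y}) :
    m.toIdeal = Ideal.span {y} := by
  rw [hm, hstd]
  refine le_antisymm (Ideal.span_le.2 fun x hx => ?_) (Ideal.span_mono (Set.singleton_subset_iff.2 hy))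
  obtain ⟨c, rfl⟩ := Submodule.mem_span_singleton.1 (hR1 hx)
  exact Ideal.mem_span_singleton.2 ⟨algebraMap k R c, by rw [Algebra.smul_def, mul_comm]⟩

omit hdim in
theorem piece_le_span_pow {y : R} (hy : y ∈ 𝒜 1) (hR1 : 𝒜 1 ≤ Submodule.span k {y}) :
    ∀ n : ℕ, 𝒜 (n : ℤ) ≤ Submodule.span k {y ^ n}
  | 0 => by simpa using h0.le
  | n + 1 => fun x hx => by
    have hxm : x ∈ m.toIdeal := hm.ge (Ideal.subset_span (Set.mem_iUnion₂.2 ⟨((n + 1 : ℕ) : ℤ), by
      simp only [Set.mem_Ioi]; omega, hx⟩))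
    rw [span_eq_of_span_singleton hpos h0 hstd hm hy hR1, Ideal.mem_span_singleton] at hxm
    obtain ⟨r, rfl⟩ := hxm
    have e := cmp_smul_of_mem (𝒜 := 𝒜) 𝒜 hy r ((n + 1 : ℕ) : ℤ)
    rw [smul_eq_mul, smul_eq_mul, cmp_of_mem 𝒜 hx] at e
    rw [e]
    have hr := piece_le_span_pow hy hR1 n (show cmp 𝒜 (((n + 1 : ℕ) : ℤ) - 1) r ∈ 𝒜 (n : ℤ) by
      have := cmp_mem 𝒜 (((n + 1 : ℕ) : ℤ) - 1) r
      rwa [show (((n + 1 : ℕ) : ℤ) - 1) = (n : ℤ) by push_cast; ring] at this ⊢)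
    obtain ⟨c, hc⟩ := Submodule.mem_span_singleton.1 hr
    rw [← hc, mul_smul_comm, ← pow_succ']
    exact Submodule.smul_mem _ _ (Submodule.mem_span_singleton_self _)

theorem nonempty_algEquiv_polynomial {y : R} (hy : y ∈ 𝒜 1) (hR1 : 𝒜 1 ≤ Submodule.span k {y}) :
    Nonempty (R ≃ₐ[k] Polynomial k) := by
  classical
  have hsurj : Function.Surjective (Polynomial.aeval (R := k) y) := fun x => by
    obtain ⟨S, hS⟩ := exists_sum_cmp 𝒜 x
    suffices x ∈ (Polynomial.aeval (R := k) y).range from this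
    rw [hS]
    refine sum_mem fun g _ => ?_
    rcases lt_or_ge g 0 with hg | hg
    · rw [(Submodule.mem_bot k).1 ((hpos g hg).le (cmp_mem 𝒜 g x))]
      exact zero_mem _
    · obtain ⟨n, rfl⟩ := Int.eq_ofNat_of_zero_le hg
      obtain ⟨c, hc⟩ := Submodule.mem_span_singleton.1 (piece_le_span_pow hpos h0 hstd hm hy hR1 n (cmp_mem 𝒜 _ x))
      exact ⟨c • Polynomial.X ^ n, by
        change Polynomial.aeval y (c • Polynomial.X ^ n) = _
        rw [← hc, map_smul, map_pow, Polynomial.aeval_X]⟩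
  have hinj : Function.Injective (Polynomial.aeval (R := k) y) := by
    rw [injective_iff_map_eq_zero]
    intro p hp
    by_contra hp0
    have hint : IsIntegral k y := IsAlgebraic.isIntegral ⟨p, hp0, hp⟩
    have htop : Algebra.adjoin k ({y} : Set R) = ⊤ := by
      rw [Algebra.adjoin_singleton_eq_range_aeval]
      exact AlgHom.range_eq_top _ |>.2 hsurj
    have hfin : Module.Finite k R := by
      refine ⟨?_⟩
      have := hint.fg_adjoin_singleton
      rwa [htop, Algebra.top_toSubmodule] at this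
    have : IsArtinianRing R := IsArtinianRing.of_finite k R
    have h0' := (Ring.krullDimLE_iff (n := 0) (R := R)).1 inferInstance
    rw [hdim] at h0'
    exact (zero_lt_one (α := WithBot ℕ∞)).not_ge (by exact_mod_cast h0')
  exact ⟨(AlgEquiv.ofBijective (Polynomial.aeval (R := k) y) ⟨hinj, hsurj⟩).symm⟩

/-- No cohomology in nonnegative degrees forces a polynomial ring in one variable. -/
theorem nonempty_algEquiv_of_van {l : List (HElt 𝒜)} (hl : (hspan l).toIdeal = m.toIdeal)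
    (hv0 : ∀ g, Van l (gmod 𝒜 𝒜) 0 g) (hv1 : ∀ g : ℤ, 0 ≤ g → Van l (gmod 𝒜 𝒜) 1 g) :
    Nonempty (R ≃ₐ[k] Polynomial k) := by
  have : m.toIdeal.IsPrime := (isMaximal hpos h0 hm).isPrime
  have : IsNoetherianRing R := Algebra.FiniteType.isNoetherianRing k R
  have : Module.Finite R (gmod 𝒜 𝒜).carrier := Module.Finite.self R
  obtain ⟨x, hxd, hxm, hxr⟩ := exists_regular_elt hpos h0 hm hl (gmod 𝒜 𝒜) hv0
  let X' : GMod.{u} 𝒜 := GrLC.quot (gmod 𝒜 𝒜) (LinearMap.range (mulShift (gmod 𝒜 𝒜) x))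
    (isHomogeneous_range (isHom_mulShift (gmod 𝒜 𝒜) x))
  obtain ⟨-, htop⟩ := regular_step (X := gmod 𝒜 𝒜) (N := X') (l := l) (hl.ge hxm) hxd.le hxr
    (Submodule.mkQ _) (isHom_mkQ (gmod 𝒜 𝒜) _ (isHomogeneous_range (isHom_mulShift (gmod 𝒜 𝒜) x)))
    (Submodule.mkQ_surjective _) (fun v => (Submodule.Quotient.mk_eq_zero _).trans ⟨fun h => h, fun h => h⟩) 0
    (fun i hi g => by obtain rfl : i = 0 := by omega
                      exact hv0 g)
  have hX' : ∀ g, x.deg - 1 < g → Van l X' 0 g := (htop (x.deg - 1)).2 fun g hg => hv1 g (by omega)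
  -- every prime over `x` is the irrelevant ideal
  have hd1 : Ring.KrullDimLE 1 R := Ring.krullDimLE_iff.2 hdim.le
  have hprime : ∀ p : Ideal R, p.IsPrime → x.val ∈ p → m.toIdeal ≤ p := by
    intro p hp hxp
    have hc : (p.homogeneousCore 𝒜).toIdeal.IsPrime := Ideal.IsPrime.homogeneousCore hp
    have hxc : x.val ∈ (p.homogeneousCore 𝒜).toIdeal :=
      Ideal.mem_homogeneousCore_of_homogeneous_of_mem ⟨x.deg, x.mem⟩ hxp
    have hmax : (p.homogeneousCore 𝒜).toIdeal.IsMaximal := by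
      refine (Ring.krullDimLE_one_iff.1 hd1 _ hc).resolve_left fun hmin => ?_
      refine IsSMulRegular.notMem_of_mem_minimalPrimes (M := R) hxr ?_ hxc
      rw [Module.annihilator_eq_bot.2 inferInstance]
      exact hmin
    rw [← hmax.eq_of_le (isMaximal hpos h0 hm).ne_top (le_of_ne_top hpos h0 hm hc.ne_top)]
    exact Ideal.toIdeal_homogeneousCore_le 𝒜 p
  have hrad : m.toIdeal ≤ (Ideal.span {x.val}).radical := by
    rw [Ideal.radical_eq_sInf]
    exact le_sInf fun p ⟨hp, hpp⟩ => hprime p hpp (hp (Ideal.subset_span rfl))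
  have htors : ∀ z ∈ l, ∀ v : X'.carrier, ∃ n : ℕ, z.val ^ n • v = 0 := by
    intro z hz v
    obtain ⟨r, rfl⟩ := Submodule.mkQ_surjective _ v
    change R at r
    obtain ⟨n, hn⟩ := hrad (hl.le (by rw [toIdeal_hspan]; exact Ideal.subset_span ⟨z, hz, rfl⟩))
    obtain ⟨c, hc⟩ := Ideal.mem_span_singleton.1 hn
    refine ⟨n, (map_smul (Submodule.mkQ _) (z.val ^ n) r).symm.trans ((Submodule.Quotient.mk_eq_zero _).2 ?_)⟩
    exact ⟨c * r, by change x.val * (c * r) = z.val ^ n * r; rw [hc]; ring⟩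
  have hle : ∀ g, x.deg - 1 < g → ∀ r ∈ 𝒜 g, ∃ c ∈ 𝒜 (g - x.deg), r = x.val * c := by
    intro g hg r hr
    have h := (van_zero_iff_of_torsion htors g).1 (hX' g hg)
    have h2 := (AddSubgroup.eq_bot_iff_forall _).1 h (Submodule.Quotient.mk r) ⟨r, hr, rfl⟩
    obtain ⟨c, hc⟩ := (Submodule.Quotient.mk_eq_zero _).1 h2
    change R at c
    refine ⟨cmp 𝒜 (g - x.deg) c, cmp_mem 𝒜 _ c, ?_⟩
    have e := cmp_smul_of_mem (𝒜 := 𝒜) 𝒜 x.mem (show R from c) g
    rw [smul_eq_mul, smul_eq_mul, show x.val * c = r from hc, cmp_of_mem 𝒜 hr] at e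
    exact e
  obtain ⟨y, hy, hyn⟩ := exists_not_isNilpotent hpos h0 hstd hm hdim
  obtain ⟨e, he⟩ := Int.eq_ofNat_of_zero_le hxd.le
  obtain ⟨e, rfl⟩ := Nat.exists_eq_add_of_le' (show 1 ≤ e by omega)
  have key : ∀ r ∈ 𝒜 ((e + 1 : ℕ) : ℤ), ∃ c : k, r = c • x.val := by
    intro r hr
    obtain ⟨c, hc, rfl⟩ := hle _ (by omega) r hr
    rw [he, sub_self, h0] at hc
    obtain ⟨d, rfl⟩ := Submodule.mem_span_singleton.1 hc
    exact ⟨d, by rw [mul_smul_comm, mul_one]⟩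
  have hype : y ^ (e + 1) ∈ 𝒜 ((e + 1 : ℕ) : ℤ) := by
    simpa using SetLike.pow_mem_graded (e + 1) hy
  obtain ⟨c, hc⟩ := key _ hype
  have hc0 : c ≠ 0 := fun h => hyn ⟨e + 1, by rw [hc, h, zero_smul]⟩
  have hyr : ∀ z : R, y * z = 0 → z = 0 := fun z hz => by
    have h1 : y ^ (e + 1) * z = 0 := by rw [pow_succ, mul_assoc, hz, mul_zero]
    rw [hc, smul_mul_assoc, smul_eq_zero] at h1
    exact hxr.right_eq_zero_of_smul (h1.resolve_left hc0)
  refine nonempty_algEquiv_polynomial hpos h0 hstd hm hdim hy fun z hz => ?_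
  obtain ⟨d, hd⟩ := key (y ^ e * z) (by
    have := SetLike.GradedMul.mul_mem (SetLike.pow_mem_graded e hy) hz
    simpa using this)
  have h2 : y ^ e * (z - (d / c) • y) = 0 := by
    rw [mul_sub, mul_smul_comm, ← pow_succ, hc, smul_smul, div_mul_cancel₀ _ hc0, hd, sub_self]
  have h3 : z - (d / c) • y = 0 := by
    clear hd hc hype key hle he
    induction e with
    | zero => simpa using h2
    | succ n ih => exact ih (hyr _ (by rw [← mul_assoc, ← pow_succ']; exact h2))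
  exact Submodule.mem_span_singleton.2 ⟨d / c, (sub_eq_zero.1 h3).symm⟩

omit hdim in
/-- A polynomial ring in one variable has no cohomology in nonnegative degrees. -/
theorem van_of_algEquiv [IsNoetherianRing R] {l : List (HElt 𝒜)} (hl : (hspan l).toIdeal = m.toIdeal)
    (hv0 : ∀ g, Van l (gmod 𝒜 𝒜) 0 g) (f : R ≃ₐ[k] Polynomial k)
    (hne : 𝒜 1 ≠ ⊥) {g : ℤ} (hg : 0 ≤ g) : Van l (gmod 𝒜 𝒜) 1 g := by
  have : IsDomain R := f.toRingEquiv.toMulEquiv.isDomain (Polynomial k)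
  have : IsPrincipalIdealRing R :=
    IsPrincipalIdealRing.of_surjective f.symm.toRingEquiv.toRingHom f.symm.surjective
  obtain ⟨p, hp⟩ := (IsPrincipalIdealRing.principal m.toIdeal).principal
  set y := cmp 𝒜 1 p with hy'
  have hy : y ∈ 𝒜 1 := cmp_mem 𝒜 1 p
  have hp0 : cmp 𝒜 0 p = 0 := by
    have hmem : cmp 𝒜 0 p ∈ m.toIdeal :=
      m.isHomogeneous 0 (show p ∈ m.toIdeal from hp.ge (Submodule.mem_span_singleton_self p))
    obtain ⟨c, hc⟩ := Submodule.mem_span_singleton.1 (h0 ▸ cmp_mem 𝒜 0 p)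
    rw [← hc]
    by_cases hc0 : c = 0
    · rw [hc0, zero_smul]
    · refine absurd (Ideal.eq_top_of_isUnit_mem _ hmem ?_) (isMaximal hpos h0 hm).ne_top
      rw [← hc, Algebra.smul_def, mul_one]
      exact (IsUnit.mk0 c hc0).map (algebraMap k R)
  have hR1 : 𝒜 1 ≤ Submodule.span k {y} := fun z hz => by
    have hzm : z ∈ m.toIdeal := hm.ge (Ideal.subset_span (Set.mem_iUnion₂.2 ⟨1, by simp, hz⟩))
    rw [hp] at hzm
    obtain ⟨r, rfl⟩ := Submodule.mem_span_singleton.1 hzm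
    obtain ⟨S, hS⟩ := exists_sum_cmp 𝒜 r
    rw [← cmp_of_mem 𝒜 hz, hS, Finset.sum_smul, map_sum]
    refine sum_mem fun i _ => ?_
    rw [cmp_smul_of_mem (𝒜 := 𝒜) 𝒜 (cmp_mem 𝒜 i r) p 1]
    rcases lt_trichotomy i 0 with hi | rfl | hi
    · rw [(Submodule.mem_bot k).1 ((hpos i hi).le (cmp_mem 𝒜 i r)), zero_smul]; exact zero_mem _
    · obtain ⟨c, hc⟩ := Submodule.mem_span_singleton.1 (h0 ▸ cmp_mem 𝒜 0 r)
      rw [← hc, sub_zero, smul_one_smul]
      exact Submodule.smul_mem _ _ (Submodule.mem_span_singleton_self _)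
    · rcases eq_or_ne i 1 with rfl | hi1
      · rw [sub_self, hp0, smul_zero]; exact zero_mem _
      · rw [(Submodule.mem_bot k).1 ((hpos (1 - i) (by omega)).le (cmp_mem 𝒜 _ p)), smul_zero]; exact zero_mem _
  have hy0 : y ≠ 0 := fun h => hne ((Submodule.eq_bot_iff _).2 fun z hz => by
    have := hR1 hz
    rwa [h, Submodule.span_singleton_eq_bot.2 rfl, Submodule.mem_bot] at this)
  have hmy := span_eq_of_span_singleton hpos h0 hstd hm hy hR1
  let x : HElt 𝒜 := ⟨y, 1, hy⟩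
  let X' : GMod.{u} 𝒜 := GrLC.quot (gmod 𝒜 𝒜) (LinearMap.range (mulShift (gmod 𝒜 𝒜) x))
    (isHomogeneous_range (isHom_mulShift (gmod 𝒜 𝒜) x))
  have hxm : x.val ∈ (hspan l).toIdeal := (hl.trans hmy).ge (Ideal.subset_span rfl)
  have hxr : IsSMulRegular (gmod 𝒜 𝒜).carrier x.val := fun a b h => @mul_left_cancel₀ R _ _ _ y a b hy0 h
  obtain ⟨-, htop⟩ := regular_step (X := gmod 𝒜 𝒜) (N := X') (l := l) hxm (Int.zero_le_ofNat 1) hxr
    (Submodule.mkQ _) (isHom_mkQ (gmod 𝒜 𝒜) _ (isHomogeneous_range (isHom_mulShift (gmod 𝒜 𝒜) x)))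
    (Submodule.mkQ_surjective _) (fun v => (Submodule.Quotient.mk_eq_zero _).trans ⟨fun h => h, fun h => h⟩) 0
    (fun i hi g => by obtain rfl : i = 0 := by omega
                      exact hv0 g)
  refine (htop 0).1 (fun g hg => van_zero_of_gr_eq_bot ((AddSubgroup.eq_bot_iff_forall _).2 ?_)) g
    (show (0 : ℤ) - 1 < g by omega)
  rintro _ ⟨r, hr, rfl⟩
  change R at r
  refine (Submodule.Quotient.mk_eq_zero _).2 ?_
  have hrm : r ∈ m.toIdeal := hm.ge (Ideal.subset_span (Set.mem_iUnion₂.2 ⟨g, hg, hr⟩))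
  rw [hmy, Ideal.mem_span_singleton] at hrm
  obtain ⟨c, rfl⟩ := hrm
  exact ⟨c, rfl⟩

end GrothLib.Segre
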