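import Groth.Agent.Lib.Segre.SegDepth
import Groth.Agent.Lib.GrLC.PolyTop

/-!
# Shifted polynomial rings
-/

universe u

open DirectSum MvPolynomial
open scoped TensorProduct

namespace GrothLib.Segre

open GrothLib.GrLC
open _root_.GrLC (GMod StarInjRes)

noncomputable section

variable (k : Type u) [Field k] (n : ℕ) (a : ℤ)

local notation "R" => MvPolynomial (Fin n) k
local notation "𝒮" => GrSyz.stdGr k (Fin n)

/-- pieces of `R(a)` -/
def shGr : ℤ → AddSubgroup R := (shift (gmod 𝒮 𝒮) a).gr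

instance shDec : Decomposition (shGr k n a) := (shift (gmod 𝒮 𝒮) a).dec

instance shSMul : SetLike.GradedSMul 𝒮 (shGr k n a) := (shift (gmod 𝒮 𝒮) a).gsmul

theorem mem_shGr {d : ℤ} {x : R} : x ∈ shGr k n a d ↔ x ∈ 𝒮 (d + a) := Iff.rfl

theorem std_pos : ∀ g : ℤ, g < 0 → 𝒮 g = ⊥ := fun g hg =>
  (Submodule.eq_bot_iff _).2 fun _ hx => GrothLib.GrSyz.eq_zero_of_mem_neg hg hx

theorem std_zero : 𝒮 0 = Submodule.span k {(1 : R)} := by
  refine le_antisymm (fun x hx => ?_) (Submodule.span_le.2 ?_)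
  · rw [GrothLib.GrSyz.mem_zero_eq_C hx, show C (constantCoeff x) = constantCoeff x • (1 : R) by
      rw [MvPolynomial.smul_eq_C_mul, mul_one]]
    exact Submodule.smul_mem _ _ (Submodule.subset_span rfl)
  · rintro _ rfl
    exact SetLike.GradedOne.one_mem

/-- irrelevant ideal -/
def mI : HomogeneousIdeal 𝒮 :=
  ⟨Ideal.span (⋃ g ∈ Set.Ioi (0 : ℤ), (𝒮 g : Set R)), Ideal.homogeneous_span _ _ fun x hx => by
    simp only [Set.mem_iUnion] at hx; obtain ⟨g, -, h⟩ := hx; exact ⟨g, h⟩⟩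

theorem hmI : (mI k n).toIdeal = Ideal.span (⋃ g ∈ Set.Ioi (0 : ℤ), (𝒮 g : Set R)) := rfl

theorem hspan_varL_mI : (hspan (varL k n)).toIdeal = (mI k n).toIdeal := by
  rw [hspan_varL, hmI]
  change Ideal.span {r : R | ∃ g : ℤ, 0 < g ∧ r ∈ 𝒮 g} = _
  congr 1
  ext x
  simp

/-- a resolution of `R(a)` -/
def shRes : StarInjRes 𝒮 (shGr k n a) := starInjRes 𝒮 (shGr k n a)

theorem van_shGr_iff (i : ℕ) (d : ℤ) :
    (shRes k n a).Hcomp (mI k n) i d = ⊥ ↔ Van (varL k n) (gmod 𝒮 𝒮) i (d + a) := by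
  rw [Hcomp_eq_bot_iff_van _ (hspan_varL_mI k n), ← van_shift a]
  exact van_congr_hom (X := gmod 𝒮 (shGr k n a)) (Y := shift (gmod 𝒮 𝒮) a) LinearMap.id (fun _ _ h => h)
    Function.bijective_id i d

theorem Hcomp_shGr_eq_bot {i : ℕ} {d : ℤ} (h : i = n → -(n : ℤ) < d + a) :
    (shRes k n a).Hcomp (mI k n) i d = ⊥ :=
  (van_shGr_iff k n a i d).2 (van_S k n h)

theorem Hcomp_shGr_ne : (shRes k n a).Hcomp (mI k n) n (-(n : ℤ) - a) ≠ ⊥ := fun h =>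
  not_van_S k n (by simpa using (van_shGr_iff k n a n _).1 h)

theorem conc_shGr : Conc (shRes k n a) (mI k n) n :=
  ⟨fun _ hi _ => Hcomp_shGr_eq_bot k n a fun h => absurd h hi, ⟨_, Hcomp_shGr_ne k n a⟩⟩

theorem shGr_eq_zero {d : ℤ} (h : d + a < 0) : ∀ x ∈ shGr k n a d, x = 0 := fun _ hx =>
  GrothLib.GrSyz.eq_zero_of_mem_neg h hx

theorem exists_shGr_ne {n : ℕ} (hn : 0 < n) {d : ℤ} (h : 0 ≤ d + a) : ∃ x ∈ shGr k n a d, x ≠ 0 := by
  obtain ⟨e, he⟩ := Int.eq_ofNat_of_zero_le h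
  refine ⟨X ⟨0, hn⟩ ^ e, (mem_shGr k n a).2 ?_, pow_ne_zero _ (X_ne_zero _)⟩
  have := SetLike.pow_mem_graded e (show (X ⟨0, hn⟩ : MvPolynomial (Fin n) k) ∈ GrSyz.stdGr k (Fin n) 1 from
    isWeightedHomogeneous_X k _ _)
  rw [he]
  simpa using this

variable {k} {r s : ℕ} (b : ℤ) {T : Type u} [CommRing T] [Algebra k T] {𝒯 : ℤ → Submodule k T} [GradedAlgebra 𝒯]
  {ψ : T →ₐ[k] MvPolynomial (Fin r) k ⊗[k] MvPolynomial (Fin s) k}
  {P : Type u} [AddCommGroup P] [Module T P] [Module k P] [IsScalarTower k T P] {𝒬 : ℤ → AddSubgroup P}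
  [Decomposition 𝒬] {φ : P →ₗ[k] MvPolynomial (Fin r) k ⊗[k] MvPolynomial (Fin s) k}

theorem isSegreMod_shGr
    (hP : GrSeg.IsSegreMod ψ (fun g : ℤ => weightedHomogeneousSubmodule k (fun _ : Fin r => (1 : ℤ)) (g + a))
      (fun g : ℤ => weightedHomogeneousSubmodule k (fun _ : Fin s => (1 : ℤ)) (g + b)) 𝒬 φ) :
    GrSeg.IsSegreMod ψ (shGr k r a) (shGr k s b) 𝒬 φ :=
  ⟨hP.injective, hP.image_piece, hP.map_smul⟩

theorem nontrivial_of_isSegreMod_shGr (hr : 0 < r) (hs : 0 < s)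
    (hP : GrSeg.IsSegreMod ψ (shGr k r a) (shGr k s b) 𝒬 φ) : Nontrivial P := by
  obtain ⟨x, hx, hx0⟩ := exists_shGr_ne k a hr (d := |a| + |b|) (by linarith [neg_abs_le a, abs_nonneg b])
  obtain ⟨y, hy, hy0⟩ := exists_shGr_ne k b hs (d := |a| + |b|) (by linarith [neg_abs_le b, abs_nonneg a])
  have h : x ⊗ₜ[k] y ∈ φ '' (𝒬 (|a| + |b|) : Set P) := by
    rw [hP.image_piece]; exact Submodule.subset_span ⟨x, hx, y, hy, rfl⟩
  obtain ⟨p, -, hp⟩ := h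
  refine ⟨⟨p, 0, fun h0 => ?_⟩⟩
  rw [h0, map_zero] at hp
  obtain ⟨f, hf⟩ := Module.Projective.exists_dual_ne_zero k hx0
  obtain ⟨g, hg⟩ := Module.Projective.exists_dual_ne_zero k hy0
  have := congrArg (LinearMap.mul' k k ∘ₗ TensorProduct.map f g) hp.symm
  rw [map_zero, LinearMap.comp_apply, TensorProduct.map_tmul, LinearMap.mul'_apply] at this
  exact mul_ne_zero hf hg this

end

end GrothLib.Segre
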