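import Groth.Agent.Lib.Segre.CMFacts
import Groth.Agent.Lib.Segre.Kunneth

/-!
# Cohen–Macaulay Segre products of modules
-/

universe u

open DirectSum
open scoped TensorProduct

namespace GrothLib.Segre

open GrothLib.GrLC
open _root_.GrLC (GMod StarInjRes)

section Conc

variable {k R : Type u} [Field k] [CommRing R] [Algebra k R] {𝒜 : ℤ → Submodule k R} [GradedAlgebra 𝒜]
  [Algebra.FiniteType k R] {M : Type u} [AddCommGroup M] [Module R M] [Module k M] [IsScalarTower k R M]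
  {ℳ : ℤ → AddSubgroup M} [Decomposition ℳ] [SetLike.GradedSMul 𝒜 ℳ]

/-- Cohomology only in spot `r`, and not zero there. -/
structure Conc (E : StarInjRes 𝒜 ℳ) (m : HomogeneousIdeal 𝒜) (r : ℕ) : Prop where
  vanish : ∀ i, i ≠ r → ∀ g, E.Hcomp m i g = ⊥
  nonzero : ∃ g, E.Hcomp m r g ≠ ⊥

variable (hpos : ∀ n : ℤ, n < 0 → 𝒜 n = ⊥) (h0 : 𝒜 0 = Submodule.span k {(1 : R)})
  {m : HomogeneousIdeal 𝒜} (hm : m.toIdeal = Ideal.span (⋃ n ∈ Set.Ioi (0 : ℤ), (𝒜 n : Set R)))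
  [Module.Finite R M]

include hpos h0 hm

theorem nontrivial_ring_of_supportDim {r : ℕ} (hd : Module.supportDim R M = r) : Nontrivial R ∧ Nontrivial M := by
  have hM : Nontrivial M := by
    rw [← not_subsingleton_iff_nontrivial]
    intro h
    rw [Module.supportDim_eq_bot_of_subsingleton] at hd
    exact WithBot.bot_ne_coe hd
  refine ⟨?_, hM⟩
  rw [← not_subsingleton_iff_nontrivial]
  exact fun h => not_subsingleton_iff_nontrivial.2 hM (Module.subsingleton R M)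

theorem conc_of_cm (E : StarInjRes 𝒜 ℳ) {r : ℕ} (hd : Module.supportDim R M = r)
    (hcm : ∀ (q : Ideal R) [q.IsPrime], Subsingleton (LocalizedModule q.primeCompl M) ∨
      LocCoh.IsCohenMacaulayModule (Localization.AtPrime q) (LocalizedModule q.primeCompl M)) : Conc E m r := by
  obtain ⟨hR, hM⟩ := nontrivial_ring_of_supportDim hpos h0 hm hd
  have : m.toIdeal.IsPrime := (isMaximal hpos h0 hm).isPrime
  obtain ⟨n, hn, hu⟩ := (cm_iff hpos h0 hm E).1 hcm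
  have h := supportDim_eq hpos h0 hm E hn fun i hi g => by_contra fun h => hi.ne' (hu i ⟨g, h⟩)
  rw [hd] at h
  obtain rfl : r = n := by exact_mod_cast h
  exact ⟨fun i hi g => by_contra fun h => hi (hu i ⟨g, h⟩), hn⟩

theorem conc_strong {E : StarInjRes 𝒜 ℳ} {r : ℕ} (hr : 1 ≤ r) (hc : Conc E m r) (L : ℕ) (hL : 0 < L) (d : ℤ)
    (hd : ∃ v ∈ ℳ d, v ≠ 0) :
    ∃ e : ℕ, 0 < e ∧ L ∣ e ∧ ∃ J : ℕ, ∀ j, J ≤ j → E.Hcomp m r (d - (j : ℤ) * e) ≠ ⊥ := by
  obtain ⟨v, hv, hv0⟩ := hd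
  have hMnt : Nontrivial M := ⟨⟨v, 0, hv0⟩⟩
  have hR : Nontrivial R := by
    rw [← not_subsingleton_iff_nontrivial]
    exact fun h => not_subsingleton_iff_nontrivial.2 hMnt (Module.subsingleton R M)
  have : IsNoetherianRing R := Algebra.FiniteType.isNoetherianRing k R
  have : m.toIdeal.IsPrime := (isMaximal hpos h0 hm).isPrime
  obtain ⟨l, hl⟩ := exists_hspan (𝒜 := 𝒜) (a := m)
  obtain ⟨e, he, hLe, J, -, hJ⟩ := exists_not_van_sub hpos h0 hm hl r (gmod 𝒜 ℳ) ‹Module.Finite R M›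
    (fun i hi g => (Hcomp_eq_bot_iff_van E hl i g).1 (hc.vanish i hi g)) L hL d ⟨v, hv, hv0⟩
  exact ⟨e, he, hLe, J, fun j hj h => hJ hr j hj ((Hcomp_eq_bot_iff_van E hl r _).1 h)⟩

omit hpos h0 hm in
theorem dvan_of_conc {E : StarInjRes 𝒜 ℳ} {r : ℕ} (hc : Conc E m r) {a : ℕ} (ha : 1 ≤ a) (har : a + 1 ≠ r) (d : ℤ) :
    DVan E m a d := by
  obtain ⟨a, rfl⟩ := Nat.exists_eq_add_of_le' ha
  exact (dvan_succ E m a d).2 (hc.vanish (a + 2) (by omega) d)

omit hpos h0 hm [Module.Finite R M] in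
theorem not_dvan_top {E : StarInjRes 𝒜 ℳ} {a : ℕ} {d : ℤ} (h : E.Hcomp m (a + 1) d ≠ ⊥) : ¬ DVan E m a d := by
  rcases a with _ | a
  · exact fun h' => h ((dvan_zero E m d).1 h').2
  · exact fun h' => h ((dvan_succ E m a d).1 h')

omit hpos h0 hm [Module.Finite R M] in
theorem dvan_zero_of_conc {E : StarInjRes 𝒜 ℳ} {r : ℕ} (hc : Conc E m r) (hr : r ≠ 1) (d : ℤ) :
    DVan E m 0 d ↔ ∀ x ∈ ℳ d, x = 0 :=
  (dvan_zero E m d).trans ⟨And.left, fun h => ⟨h, hc.vanish 1 (Ne.symm hr) d⟩⟩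

end Conc

variable {k : Type u} [Field k] {R : Type u} [CommRing R] [Algebra k R] {S : Type u} [CommRing S] [Algebra k S]
  {T : Type u} [CommRing T] [Algebra k T] {𝒜 : ℤ → Submodule k R} [GradedAlgebra 𝒜] {ℬ : ℤ → Submodule k S}
  [GradedAlgebra ℬ] {𝒯 : ℤ → Submodule k T} [GradedAlgebra 𝒯] {ψ : T →ₐ[k] R ⊗[k] S}
  (hT : GrSeg.IsSegreRing 𝒜 ℬ 𝒯 ψ)
  {M : Type u} [AddCommGroup M] [Module R M] [Module k M] [IsScalarTower k R M] {ℳ : ℤ → AddSubgroup M}
  [Decomposition ℳ] [SetLike.GradedSMul 𝒜 ℳ]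
  {N : Type u} [AddCommGroup N] [Module S N] [Module k N] [IsScalarTower k S N] {𝒩 : ℤ → AddSubgroup N}
  [Decomposition 𝒩] [SetLike.GradedSMul ℬ 𝒩]
  {P : Type u} [AddCommGroup P] [Module T P] [Module k P] [IsScalarTower k T P] {𝒬 : ℤ → AddSubgroup P}
  [Decomposition 𝒬] {φ : P →ₗ[k] M ⊗[k] N} (hP : GrSeg.IsSegreMod ψ ℳ 𝒩 𝒬 φ)
  [SetLike.GradedSMul 𝒯 𝒬]
  [Algebra.FiniteType k R] [Algebra.FiniteType k S] [Module.Finite R M] [Module.Finite S N]
  (hposR : ∀ n : ℤ, n < 0 → 𝒜 n = ⊥) (h0R : 𝒜 0 = Submodule.span k {(1 : R)})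
  (hposS : ∀ n : ℤ, n < 0 → ℬ n = ⊥) (h0S : ℬ 0 = Submodule.span k {(1 : S)})
  {mR : HomogeneousIdeal 𝒜} (hmR : mR.toIdeal = Ideal.span (⋃ n ∈ Set.Ioi (0 : ℤ), (𝒜 n : Set R)))
  {mS : HomogeneousIdeal ℬ} (hmS : mS.toIdeal = Ideal.span (⋃ n ∈ Set.Ioi (0 : ℤ), (ℬ n : Set S)))
  {mT : HomogeneousIdeal 𝒯} (hmT : mT.toIdeal = Ideal.span (⋃ n ∈ Set.Ioi (0 : ℤ), (𝒯 n : Set T)))
  {EM : StarInjRes 𝒜 ℳ} {EN : StarInjRes ℬ 𝒩} (EP : StarInjRes 𝒯 𝒬) {r s : ℕ}

omit [SetLike.GradedSMul 𝒯 𝒬] [Algebra.FiniteType k R] [Algebra.FiniteType k S] [Module.Finite R M]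
  [Module.Finite S N] [SetLike.GradedSMul 𝒜 ℳ] [SetLike.GradedSMul ℬ 𝒩] in
include hP in
theorem exists_piece_ne_zero [Nontrivial P] : ∃ d, (∃ x ∈ ℳ d, x ≠ 0) ∧ ∃ y ∈ 𝒩 d, y ≠ 0 := by
  by_contra h
  push Not at h
  obtain ⟨p, hp⟩ := exists_ne (0 : P)
  refine hp (eq_zero_of_cmp 𝒬 fun d => hP.injective ?_)
  have hle : GrSeg.segrePiece k ℳ 𝒩 d ≤ ⊥ := Submodule.span_le.2 (by
    rintro _ ⟨x, hx, y, hy, rfl⟩
    by_cases hx0 : x = 0
    · rw [hx0, TensorProduct.zero_tmul]; exact zero_mem _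
    · rw [h d ⟨x, hx, hx0⟩ y hy, TensorProduct.tmul_zero]; exact zero_mem _)
  rw [map_zero]
  exact (Submodule.mem_bot k).1 (hle (phi_mem ℳ 𝒩 hP (cmp_mem 𝒬 d p)))

variable (hcM : Conc EM mR r) (hcN : Conc EN mS s) (hr : 1 ≤ r) (hs : 1 ≤ s)

include hT hP hposR h0R hposS h0S hmR hmS hmT hcM hcN hr hs

theorem Hcomp_segre_top [Nontrivial P] : ∃ d, EP.Hcomp mT (r + s - 1) d ≠ ⊥ := by
  have : IsNoetherianRing R := Algebra.FiniteType.isNoetherianRing k R
  have : IsNoetherianRing S := Algebra.FiniteType.isNoetherianRing k S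
  have : IsNoetherianRing T := Groth.Agent.S18646.result k R 𝒜 hposR h0R S ℬ hposS h0S T 𝒯 ψ hT.1 hT.2
  obtain ⟨d, hdM, hdN⟩ := exists_piece_ne_zero hP
  obtain ⟨eM, heM, -, JM, hJM⟩ := conc_strong hposR h0R hmR hr hcM 1 Nat.one_pos d hdM
  obtain ⟨eN, heN, ⟨c, hc⟩, JN, hJN⟩ := conc_strong hposS h0S hmS hs hcN eM heM d hdN
  have hM0 : ∀ g, EM.Hcomp mR 0 g = ⊥ := hcM.vanish 0 (by omega)
  have hN0 : ∀ g, EN.Hcomp mS 0 g = ⊥ := hcN.vanish 0 (by omega)
  set j := JM + JN with hj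
  set g := d - (j : ℤ) * eN with hg
  have hgM : EM.Hcomp mR r g ≠ ⊥ := by
    have hc0 : 0 < c := Nat.pos_of_ne_zero fun h => by simp [h] at hc; omega
    have := hJM (j * c) (le_trans (Nat.le_add_right JM JN) (Nat.le_mul_of_pos_right _ hc0))
    rwa [show d - ((j * c : ℕ) : ℤ) * eM = g by rw [hg, hc]; push_cast; ring] at this
  have hgN : EN.Hcomp mS s g ≠ ⊥ := hJN j (Nat.le_add_left JN JM)
  obtain ⟨a, rfl⟩ := Nat.exists_eq_add_of_le' hr
  obtain ⟨b, rfl⟩ := Nat.exists_eq_add_of_le' hs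
  refine ⟨g, fun h => ?_⟩
  rw [show a + 1 + (b + 1) - 1 = a + b + 1 by omega] at h
  rcases Nat.eq_zero_or_pos (a + b) with h0 | h0
  · obtain ⟨rfl, rfl⟩ : a = 0 ∧ b = 0 := by omega
    rcases (Hcomp_segre_one_iff hT hP EM EN EP hmR hmS hmT hposR hposS hM0 hN0 g).1 h with h1 | h1 | h1
    · exact not_dvan_top hgM h1
    · exact not_dvan_top hgN h1
    · exact hgM h1.1
  · obtain ⟨n, hn⟩ := Nat.exists_eq_add_of_le' h0
    rw [show a + b + 1 = n + 2 by omega] at h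
    rcases (Hcomp_segre_succ_iff hT hP EM EN EP hmR hmS hmT hposR hposS hM0 hN0 n g).1 h a b (by omega) with h1 | h1
    · exact not_dvan_top hgM h1
    · exact not_dvan_top hgN h1

theorem Hcomp_segre_above {q : ℕ} (hq : r + s - 1 < q) (d : ℤ) : EP.Hcomp mT q d = ⊥ := by
  have : IsNoetherianRing R := Algebra.FiniteType.isNoetherianRing k R
  have : IsNoetherianRing S := Algebra.FiniteType.isNoetherianRing k S
  have : IsNoetherianRing T := Groth.Agent.S18646.result k R 𝒜 hposR h0R S ℬ hposS h0S T 𝒯 ψ hT.1 hT.2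
  obtain ⟨n, rfl⟩ := Nat.exists_eq_add_of_le' (show 2 ≤ q by omega)
  refine (Hcomp_segre_succ_iff hT hP EM EN EP hmR hmS hmT hposR hposS (hcM.vanish 0 (by omega))
    (hcN.vanish 0 (by omega)) n d).2 fun a b hab => ?_
  rcases Nat.lt_or_ge a r with h | h
  · exact Or.inr (dvan_of_conc hcN (by omega) (by omega) d)
  · exact Or.inl (dvan_of_conc hcM (by omega) (by omega) d)

theorem supportDim_segre_cm [Nontrivial P] : Module.supportDim T P = ((r + s - 1 : ℕ) : WithBot ℕ∞) := by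
  have := segre_finiteType hT hposR h0R hposS h0S
  have := finite_segre ℳ 𝒩 hT hP
  have : Nontrivial T := by
    rw [← not_subsingleton_iff_nontrivial]
    exact fun h => not_subsingleton_iff_nontrivial.2 ‹Nontrivial P› (Module.subsingleton T P)
  have hpT : ∀ n : ℤ, n < 0 → 𝒯 n = ⊥ := fun n hn => segre_neg hT hposR hn
  have h0T := segre_zero hT h0R h0S
  have : mT.toIdeal.IsPrime := (isMaximal hpT h0T hmT).isPrime
  exact supportDim_eq hpT h0T hmT (starInjRes 𝒯 𝒬)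
    (Hcomp_segre_top hT hP hposR h0R hposS h0S hmR hmS hmT (starInjRes 𝒯 𝒬) hcM hcN hr hs)
    fun i hi d => Hcomp_segre_above hT hP hposR h0R hposS h0S hmR hmS hmT (starInjRes 𝒯 𝒬) hcM hcN hr hs hi d

theorem cm_segre_iff [Nontrivial P] : (∀ (q : Ideal T) [q.IsPrime], Subsingleton (LocalizedModule q.primeCompl P) ∨
      LocCoh.IsCohenMacaulayModule (Localization.AtPrime q) (LocalizedModule q.primeCompl P)) ↔
    ∀ q, q < r + s - 1 → ∀ d, EP.Hcomp mT q d = ⊥ := by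
  have := segre_finiteType hT hposR h0R hposS h0S
  have := finite_segre ℳ 𝒩 hT hP
  have : Nontrivial T := by
    rw [← not_subsingleton_iff_nontrivial]
    exact fun h => not_subsingleton_iff_nontrivial.2 ‹Nontrivial P› (Module.subsingleton T P)
  have hpT : ∀ n : ℤ, n < 0 → 𝒯 n = ⊥ := fun n hn => segre_neg hT hposR hn
  have h0T := segre_zero hT h0R h0S
  have : mT.toIdeal.IsPrime := (isMaximal hpT h0T hmT).isPrime
  rw [cm_iff hpT h0T hmT EP]
  have htop := Hcomp_segre_top hT hP hposR h0R hposS h0S hmR hmS hmT EP hcM hcN hr hs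
  constructor
  · rintro ⟨i, -, hu⟩ q hq d
    exact by_contra fun h => hq.ne ((hu q ⟨d, h⟩).trans (hu _ htop).symm)
  · intro h
    refine ⟨r + s - 1, htop, fun q ⟨d, hd⟩ => ?_⟩
    rcases lt_trichotomy q (r + s - 1) with hq | hq | hq
    · exact absurd (h q hq d) hd
    · exact hq
    · exact absurd (Hcomp_segre_above hT hP hposR h0R hposS h0S hmR hmS hmT EP hcM hcN hr hs hq d) hd

/-- Below the top spot, both dimensions at least two. -/
theorem below_iff_of_two_le (h2r : 2 ≤ r) (h2s : 2 ≤ s) : (∀ q, q < r + s - 1 → ∀ d, EP.Hcomp mT q d = ⊥) ↔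
    ∀ d, ((∀ x ∈ ℳ d, x = 0) ∨ EN.Hcomp mS s d = ⊥) ∧ (EM.Hcomp mR r d = ⊥ ∨ ∀ y ∈ 𝒩 d, y = 0) := by
  have : IsNoetherianRing R := Algebra.FiniteType.isNoetherianRing k R
  have : IsNoetherianRing S := Algebra.FiniteType.isNoetherianRing k S
  have : IsNoetherianRing T := Groth.Agent.S18646.result k R 𝒜 hposR h0R S ℬ hposS h0S T 𝒯 ψ hT.1 hT.2
  have hM0 : ∀ g, EM.Hcomp mR 0 g = ⊥ := hcM.vanish 0 (by omega)
  have hN0 : ∀ g, EN.Hcomp mS 0 g = ⊥ := hcN.vanish 0 (by omega)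
  have key := Hcomp_segre_succ_iff hT hP EM EN EP hmR hmS hmT hposR hposS hM0 hN0
  obtain ⟨r, rfl⟩ := Nat.exists_eq_add_of_le' h2r
  obtain ⟨s, rfl⟩ := Nat.exists_eq_add_of_le' h2s
  constructor
  · intro h d
    refine ⟨?_, ?_⟩
    · rcases (key s d).1 (h _ (by omega) d) 0 (s + 1) (by omega) with h1 | h1
      · exact Or.inl ((dvan_zero_of_conc hcM (by omega) d).1 h1)
      · exact Or.inr ((dvan_succ EN mS s d).1 h1)
    · rcases (key r d).1 (h _ (by omega) d) (r + 1) 0 (by omega) with h1 | h1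
      · exact Or.inl ((dvan_succ EM mR r d).1 h1)
      · exact Or.inr ((dvan_zero_of_conc hcN (by omega) d).1 h1)
  · intro h q hq d
    rcases q with _ | _ | n
    · exact Hcomp_segre_zero hT hP EM EN EP hmR hmS hmT hposR hposS hM0 hN0 d
    · exact (Hcomp_segre_one_iff hT hP EM EN EP hmR hmS hmT hposR hposS hM0 hN0 d).2
        (Or.inr (Or.inr ⟨hcM.vanish 1 (by omega) d, hcN.vanish 1 (by omega) d⟩))
    · refine (key n d).2 fun a b hab => ?_
      by_cases ha : a = 0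
      · subst ha
        by_cases hb : b + 1 = s + 2
        · rcases (h d).1 with h1 | h1
          · exact Or.inl ((dvan_zero_of_conc hcM (by omega) d).2 h1)
          · obtain rfl : b = s + 1 := by omega
            exact Or.inr ((dvan_succ EN mS s d).2 h1)
        · exact Or.inr (dvan_of_conc hcN (by omega) hb d)
      by_cases ha' : a + 1 = r + 2
      · by_cases hb0 : b = 0
        · subst hb0
          rcases (h d).2 with h1 | h1
          · obtain rfl : a = r + 1 := by omega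
            exact Or.inl ((dvan_succ EM mR r d).2 h1)
          · exact Or.inr ((dvan_zero_of_conc hcN (by omega) d).2 h1)
        · exact Or.inr (dvan_of_conc hcN (by omega) (by omega) d)
      · exact Or.inl (dvan_of_conc hcM (by omega) ha' d)

/-- Below the top spot, first dimension one. -/
theorem below_iff_of_one (h1r : r = 1) (h2s : 2 ≤ s) : (∀ q, q < r + s - 1 → ∀ d, EP.Hcomp mT q d = ⊥) ↔
    ∀ d, EM.Hcomp mR 1 d = ⊥ ∨ ∀ y ∈ 𝒩 d, y = 0 := by
  have : IsNoetherianRing R := Algebra.FiniteType.isNoetherianRing k R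
  have : IsNoetherianRing S := Algebra.FiniteType.isNoetherianRing k S
  have : IsNoetherianRing T := Groth.Agent.S18646.result k R 𝒜 hposR h0R S ℬ hposS h0S T 𝒯 ψ hT.1 hT.2
  have hM0 : ∀ g, EM.Hcomp mR 0 g = ⊥ := hcM.vanish 0 (by omega)
  have hN0 : ∀ g, EN.Hcomp mS 0 g = ⊥ := hcN.vanish 0 (by omega)
  subst h1r
  constructor
  · intro h d
    rcases (Hcomp_segre_one_iff hT hP EM EN EP hmR hmS hmT hposR hposS hM0 hN0 d).1 (h 1 (by omega) d)
      with h1 | h1 | h1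
    · exact Or.inl ((dvan_zero EM mR d).1 h1).2
    · exact Or.inr ((dvan_zero_of_conc hcN (by omega) d).1 h1)
    · exact Or.inl h1.1
  · intro h q hq d
    rcases q with _ | _ | n
    · exact Hcomp_segre_zero hT hP EM EN EP hmR hmS hmT hposR hposS hM0 hN0 d
    · refine (Hcomp_segre_one_iff hT hP EM EN EP hmR hmS hmT hposR hposS hM0 hN0 d).2 ?_
      rcases h d with h1 | h1
      · exact Or.inr (Or.inr ⟨h1, hcN.vanish 1 (by omega) d⟩)
      · exact Or.inr (Or.inl ((dvan_zero_of_conc hcN (by omega) d).2 h1))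
    · refine (Hcomp_segre_succ_iff hT hP EM EN EP hmR hmS hmT hposR hposS hM0 hN0 n d).2 fun a b hab => ?_
      by_cases ha : a = 0
      · exact Or.inr (dvan_of_conc hcN (by omega) (by omega) d)
      · exact Or.inl (dvan_of_conc hcM (by omega) (by omega) d)

/-- Both dimensions one. -/
theorem below_of_one_one (h1r : r = 1) (h1s : s = 1) : ∀ q, q < r + s - 1 → ∀ d, EP.Hcomp mT q d = ⊥ := by
  have : IsNoetherianRing R := Algebra.FiniteType.isNoetherianRing k R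
  have : IsNoetherianRing S := Algebra.FiniteType.isNoetherianRing k S
  have : IsNoetherianRing T := Groth.Agent.S18646.result k R 𝒜 hposR h0R S ℬ hposS h0S T 𝒯 ψ hT.1 hT.2
  intro q hq d
  obtain rfl : q = 0 := by omega
  exact Hcomp_segre_zero hT hP EM EN EP hmR hmS hmT hposR hposS (hcM.vanish 0 (by omega))
    (hcN.vanish 0 (by omega)) d

end GrothLib.Segre
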