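import Groth.Agent.Lib.Segre.SegCM
import Groth.Agent.Lib.Depth.Basic

/-!
# Depth of Segre products
-/

universe u

open DirectSum
open scoped TensorProduct

namespace GrothLib.Segre

open GrothLib.GrLC
open _root_.GrLC (GMod StarInjRes)

section Gen

variable {R : Type u} [CommRing R] [IsNoetherianRing R] {σ : Type u} [SetLike σ R] [AddSubgroupClass σ R] {𝒜 : ℤ → σ}
  [GradedRing 𝒜] {M : Type u} [AddCommGroup M] [Module R M] {ℳ : ℤ → AddSubgroup M} [Decomposition ℳ]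
  [SetLike.GradedSMul 𝒜 ℳ] [Module.Finite R M]

theorem idealDepth_eq_of_Hcomp (E : StarInjRes 𝒜 ℳ) (a : HomogeneousIdeal 𝒜) {q : ℕ}
    (h : ∀ i, i < q → ∀ g, E.Hcomp a i g = ⊥) (hq : ∃ g, E.Hcomp a q g ≠ ⊥) :
    LocCoh.idealDepth a.toIdeal M = (q : ℕ∞) := by
  obtain ⟨l, hl⟩ := exists_hspan (𝒜 := 𝒜) (a := a)
  refine (GrothLib.Depth.idealDepth_ne_top_iff_aux (fun i => Subsingleton (LocCoh.H a.toIdeal i M))
    (fun n => GrothLib.Depth.le_idealDepth_iff_H _ n) q).2 ⟨fun i hi => ?_, fun hs => ?_⟩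
  · have := subsingleton_EH_of_van E hl i fun g => (Hcomp_eq_bot_iff_van E hl i g).1 (h i hi g)
    obtain ⟨e⟩ := nonempty_EH_equiv E a i
    exact e.symm.toEquiv.subsingleton
  · obtain ⟨g, hg⟩ := hq
    obtain ⟨e⟩ := nonempty_EH_equiv E a q
    have := e.toEquiv.subsingleton
    exact hg ((Submodule.eq_bot_iff _).2 fun x _ => Subsingleton.elim _ _)

end Gen

variable {k : Type u} [Field k] {R : Type u} [CommRing R] [Algebra k R] {S : Type u} [CommRing S] [Algebra k S]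
  {T : Type u} [CommRing T] [Algebra k T] {𝒜 : ℤ → Submodule k R} [GradedAlgebra 𝒜] {ℬ : ℤ → Submodule k S}
  [GradedAlgebra ℬ] {𝒯 : ℤ → Submodule k T} [GradedAlgebra 𝒯] {ψ : T →ₐ[k] R ⊗[k] S}
  (hT : GrSeg.IsSegreRing 𝒜 ℬ 𝒯 ψ)
  {M : Type u} [AddCommGroup M] [Module R M] [Module k M] [IsScalarTower k R M] {ℳ : ℤ → AddSubgroup M}
  [Decomposition ℳ] [SetLike.GradedSMul 𝒜 ℳ]
  {N : Type u} [AddCommGroup N] [Module S N] [Module k N] [IsScalarTower k S N] {𝒩 : ℤ → AddSubgroup N}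
  [Decomposition 𝒩] [SetLike.GradedSMul ℬ 𝒩]
  {P : Type u} [AddCommGroup P] [Module T P] [Module k P] [IsScalarTower k T P] {𝒬 : ℤ → AddSubgroup P}
  [Decomposition 𝒬] {φ : P →ₗ[k] M ⊗[k] N} (hP : GrSeg.IsSegreMod ψ ℳ 𝒩 𝒬 φ)
  [SetLike.GradedSMul 𝒯 𝒬]
  [Algebra.FiniteType k R] [Algebra.FiniteType k S] [Module.Finite R M] [Module.Finite S N]
  (hposR : ∀ n : ℤ, n < 0 → 𝒜 n = ⊥) (h0R : 𝒜 0 = Submodule.span k {(1 : R)})
  (hposS : ∀ n : ℤ, n < 0 → ℬ n = ⊥) (h0S : ℬ 0 = Submodule.span k {(1 : S)})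
  {mR : HomogeneousIdeal 𝒜} (hmR : mR.toIdeal = Ideal.span (⋃ n ∈ Set.Ioi (0 : ℤ), (𝒜 n : Set R)))
  {mS : HomogeneousIdeal ℬ} (hmS : mS.toIdeal = Ideal.span (⋃ n ∈ Set.Ioi (0 : ℤ), (ℬ n : Set S)))
  {mT : HomogeneousIdeal 𝒯} (hmT : mT.toIdeal = Ideal.span (⋃ n ∈ Set.Ioi (0 : ℤ), (𝒯 n : Set T)))
  {EM : StarInjRes 𝒜 ℳ} {EN : StarInjRes ℬ 𝒩} (EP : StarInjRes 𝒯 𝒬) {r s : ℕ}
  (hcM : Conc EM mR r) (hcN : Conc EN mS s) (hr : 1 ≤ r) (hs : 1 ≤ s)

include hT hP hposR h0R hposS h0S hmR hmS hmT hcM hcN hr hs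

/-- the spots below the top one can only be `r` and `s` -/
theorem Hcomp_segre_low {q : ℕ} (hq : q < r + s - 1) (d : ℤ)
    (h1 : q = s → (∀ x ∈ ℳ d, x = 0) ∨ EN.Hcomp mS s d = ⊥)
    (h2 : q = r → EM.Hcomp mR r d = ⊥ ∨ ∀ y ∈ 𝒩 d, y = 0) : EP.Hcomp mT q d = ⊥ := by
  have : IsNoetherianRing R := Algebra.FiniteType.isNoetherianRing k R
  have : IsNoetherianRing S := Algebra.FiniteType.isNoetherianRing k S
  have : IsNoetherianRing T := Groth.Agent.S18646.result k R 𝒜 hposR h0R S ℬ hposS h0S T 𝒯 ψ hT.1 hT.2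
  have hM0 : ∀ g, EM.Hcomp mR 0 g = ⊥ := hcM.vanish 0 (by omega)
  have hN0 : ∀ g, EN.Hcomp mS 0 g = ⊥ := hcN.vanish 0 (by omega)
  rcases q with _ | _ | n
  · exact Hcomp_segre_zero hT hP EM EN EP hmR hmS hmT hposR hposS hM0 hN0 d
  · refine (Hcomp_segre_one_iff hT hP EM EN EP hmR hmS hmT hposR hposS hM0 hN0 d).2 ?_
    by_cases h1s : s = 1
    · subst h1s
      rcases h1 rfl with h | h
      · exact Or.inl ((dvan_zero_of_conc hcM (by omega) d).2 h)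
      · exact Or.inr (Or.inr ⟨hcM.vanish 1 (by omega) d, h⟩)
    by_cases h1r : r = 1
    · subst h1r
      rcases h2 rfl with h | h
      · exact Or.inr (Or.inr ⟨h, hcN.vanish 1 (by omega) d⟩)
      · exact Or.inr (Or.inl ((dvan_zero_of_conc hcN (by omega) d).2 h))
    · exact Or.inr (Or.inr ⟨hcM.vanish 1 (Ne.symm h1r) d, hcN.vanish 1 (Ne.symm h1s) d⟩)
  · refine (Hcomp_segre_succ_iff hT hP EM EN EP hmR hmS hmT hposR hposS hM0 hN0 n d).2 fun a b hab => ?_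
    rcases Nat.eq_zero_or_pos a with ha | ha
    · subst ha
      by_cases hb : b + 1 = s
      · rcases h1 (by omega) with h | h
        · by_cases h1r : r = 1
          · omega
          · exact Or.inl ((dvan_zero_of_conc hcM h1r d).2 h)
        · obtain ⟨b, rfl⟩ := Nat.exists_eq_add_of_le' (show 1 ≤ b by omega)
          exact Or.inr ((dvan_succ EN mS b d).2 (by rwa [show b + 2 = s by omega]))
      · exact Or.inr (dvan_of_conc hcN (by omega) hb d)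
    by_cases ha' : a + 1 = r
    · rcases Nat.eq_zero_or_pos b with hb | hb
      · subst hb
        rcases h2 (by omega) with h | h
        · obtain ⟨a, rfl⟩ := Nat.exists_eq_add_of_le' ha
          exact Or.inl ((dvan_succ EM mR a d).2 (by rwa [show a + 2 = r by omega]))
        · by_cases h1s : s = 1
          · omega
          · exact Or.inr ((dvan_zero_of_conc hcN h1s d).2 h)
      · exact Or.inr (dvan_of_conc hcN hb (by omega) d)
    · exact Or.inl (dvan_of_conc hcM ha ha' d)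

theorem Hcomp_segre_ne_right {d : ℤ} (hM : ∃ x ∈ ℳ d, x ≠ 0) (hN : EN.Hcomp mS s d ≠ ⊥) :
    EP.Hcomp mT s d ≠ ⊥ := by
  have : IsNoetherianRing R := Algebra.FiniteType.isNoetherianRing k R
  have : IsNoetherianRing S := Algebra.FiniteType.isNoetherianRing k S
  have : IsNoetherianRing T := Groth.Agent.S18646.result k R 𝒜 hposR h0R S ℬ hposS h0S T 𝒯 ψ hT.1 hT.2
  have hM0 : ∀ g, EM.Hcomp mR 0 g = ⊥ := hcM.vanish 0 (by omega)
  have hN0 : ∀ g, EN.Hcomp mS 0 g = ⊥ := hcN.vanish 0 (by omega)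
  obtain ⟨x, hx, hx0⟩ := hM
  obtain ⟨b, rfl⟩ := Nat.exists_eq_add_of_le' hs
  have hnM : ¬ DVan EM mR 0 d := fun h => hx0 (((dvan_zero EM mR d).1 h).1 x hx)
  intro h
  rcases b with _ | b
  · rcases (Hcomp_segre_one_iff hT hP EM EN EP hmR hmS hmT hposR hposS hM0 hN0 d).1 h with h1 | h1 | h1
    · exact hnM h1
    · exact not_dvan_top hN h1
    · exact hN h1.2
  · rcases (Hcomp_segre_succ_iff hT hP EM EN EP hmR hmS hmT hposR hposS hM0 hN0 b d).1 h 0 (b + 1) (by omega)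
      with h1 | h1
    · exact hnM h1
    · exact not_dvan_top hN h1

theorem Hcomp_segre_ne_left {d : ℤ} (hM : EM.Hcomp mR r d ≠ ⊥) (hN : ∃ y ∈ 𝒩 d, y ≠ 0) :
    EP.Hcomp mT r d ≠ ⊥ := by
  have : IsNoetherianRing R := Algebra.FiniteType.isNoetherianRing k R
  have : IsNoetherianRing S := Algebra.FiniteType.isNoetherianRing k S
  have : IsNoetherianRing T := Groth.Agent.S18646.result k R 𝒜 hposR h0R S ℬ hposS h0S T 𝒯 ψ hT.1 hT.2
  have hM0 : ∀ g, EM.Hcomp mR 0 g = ⊥ := hcM.vanish 0 (by omega)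
  have hN0 : ∀ g, EN.Hcomp mS 0 g = ⊥ := hcN.vanish 0 (by omega)
  obtain ⟨y, hy, hy0⟩ := hN
  obtain ⟨a, rfl⟩ := Nat.exists_eq_add_of_le' hr
  have hnN : ¬ DVan EN mS 0 d := fun h => hy0 (((dvan_zero EN mS d).1 h).1 y hy)
  intro h
  rcases a with _ | a
  · rcases (Hcomp_segre_one_iff hT hP EM EN EP hmR hmS hmT hposR hposS hM0 hN0 d).1 h with h1 | h1 | h1
    · exact not_dvan_top hM h1
    · exact hnN h1
    · exact hM h1.1
  · rcases (Hcomp_segre_succ_iff hT hP EM EN EP hmR hmS hmT hposR hposS hM0 hN0 a d).1 h (a + 1) 0 (by omega)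
      with h1 | h1
    · exact not_dvan_top hM h1
    · exact hnN h1

end GrothLib.Segre
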