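import Groth.Agent.Lib.Segre.Trunc

/-!
# The Segre total complex of two complexes
-/

universe u

open DirectSum
open scoped TensorProduct

namespace GrothLib.Segre

open GrothLib.GrLC
open _root_.GrLC (GMod IsGrHom)

noncomputable section

variable {k : Type u} [Field k] {R : Type u} [CommRing R] [Algebra k R] {S : Type u} [CommRing S] [Algebra k S]
  {T : Type u} [CommRing T] [Algebra k T] {𝒜 : ℤ → Submodule k R} [GradedAlgebra 𝒜] {ℬ : ℤ → Submodule k S}
  [GradedAlgebra ℬ] {𝒯 : ℤ → Submodule k T} [GradedAlgebra 𝒯] {ψ : T →ₐ[k] R ⊗[k] S}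
  (hT : GrSeg.IsSegreRing 𝒜 ℬ 𝒯 ψ) (C : GCx.{u} 𝒜) (C' : GCx.{u} ℬ) (L L' : ℕ)

/-- the ambient module of the total complex -/
abbrev totAmb : GMod.{u} 𝒯 := segMod (trunc C L) (trunc C' L') hT

/-- the differential of the ambient module -/
def totD : (totAmb hT C C' L L').carrier →ₗ[T] (totAmb hT C C' L L').carrier :=
  segMap hT (td C L) (isHom_td C L) (LinearMap.id : (trunc C' L').carrier →ₗ[S] _) IsHom.id +
    segMap hT (tσT C L) (isHom_tσT C L) (td C' L') (isHom_td C' L')

/-- the projection to a total spot -/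
def totP (n : ℕ) : (totAmb hT C C' L L').carrier →ₗ[T] (totAmb hT C C' L L').carrier :=
  ∑ p ∈ Finset.antidiagonal n, segMap hT (tπT C L p.1) (isHom_tπT C L p.1) (tπT C' L' p.2) (isHom_tπT C' L' p.2)

/-- the augmentation of the total complex -/
def totAug : (segMod (C.X 0) (C'.X 0) hT).carrier →ₗ[T] (totAmb hT C C' L L').carrier :=
  segMap hT (taug C L) (isHom_taug C L) (taug C' L') (isHom_taug C' L')

theorem isHom_totD : IsHom (X := totAmb hT C C' L L') (Y := totAmb hT C C' L L') (totD hT C C' L L') :=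
  (isHom_segMap hT (isHom_td C L) IsHom.id).add (isHom_segMap hT (isHom_tσT C L) (isHom_td C' L'))

theorem isHom_totP (n : ℕ) : IsHom (X := totAmb hT C C' L L') (Y := totAmb hT C C' L L') (totP hT C C' L L' n) :=
  IsHom.sum _ fun _ _ => isHom_segMap hT (isHom_tπT C L _) (isHom_tπT C' L' _)

theorem sval_totD (z : Seg (trunc C L) (trunc C' L') hT) :
    sval hT (totD hT C C' L L' z) = tD (truncGD C L) (truncGD C' L') (sval hT z) := by
  have hσ : (tσT C L).restrictScalars k = (truncGD C L).σ :=
    LinearMap.ext fun v => (truncGD_σ_apply C L v).symm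
  change sval hT (segMap hT _ _ _ _ z + segMap hT _ _ _ _ z) = _
  rw [map_add, sval_segMap, sval_segMap, tD, LinearMap.add_apply, tmap, tmap, hσ]
  rfl

theorem sval_totP (n : ℕ) (z : Seg (trunc C L) (trunc C' L') hT) :
    sval hT (totP hT C C' L L' n z) = tπ (truncGD C L) (truncGD C' L') n (sval hT z) := by
  change sval hT ((∑ p ∈ Finset.antidiagonal n, segMap hT _ _ _ _) z) = _
  rw [LinearMap.sum_apply, map_sum, tπ, LinearMap.sum_apply]
  exact Finset.sum_congr rfl fun p _ => rfl

theorem totP_totP (n : ℕ) (z : (totAmb hT C C' L L').carrier) :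
    totP hT C C' L L' n (totP hT C C' L L' n z) = totP hT C C' L L' n z :=
  sval_injective hT (by rw [sval_totP, sval_totP, ← Module.End.mul_apply, tπ_self])

theorem totD_totP (n : ℕ) (z : (totAmb hT C C' L L').carrier) :
    totD hT C C' L L' (totP hT C C' L L' n z) = totP hT C C' L L' (n + 1) (totD hT C C' L L' z) :=
  sval_injective hT (by rw [sval_totD, sval_totP, sval_totP, sval_totD, ← Module.End.mul_apply, tD_tπ]; rfl)

theorem tD_tD {V U : Type u} [AddCommGroup V] [Module k V] [AddCommGroup U] [Module k U] (G : GDiff k V)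
    (G' : GDiff k U) : tD G G' * tD G G' = 0 := by
  have h : tM (G.d * G.σ) G'.d + tM (G.σ * G.d) G'.d = 0 := by
    rw [← TensorProduct.map_add_left, G.σ_d, add_neg_cancel]
    exact TensorProduct.map_zero_left _
  rw [tD, add_mul, mul_add, mul_add, tM_mul, tM_mul, tM_mul, tM_mul, G.d_d, G'.d_d, one_mul, mul_one,
    tM_zero_left, tM_zero_right, zero_add, add_zero]
  exact h

theorem totD_totD (z : (totAmb hT C C' L L').carrier) : totD hT C C' L L' (totD hT C C' L L' z) = 0 :=
  sval_injective hT (by rw [sval_totD, sval_totD, ← Module.End.mul_apply, tD_tD, map_zero, LinearMap.zero_apply])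

theorem totP_totAug (z : (segMod (C.X 0) (C'.X 0) hT).carrier) :
    totP hT C C' L L' 0 (totAug hT C C' L L' z) = totAug hT C C' L L' z := by
  have h : tπT C L 0 ∘ₗ taug C L = taug C L := LinearMap.ext fun x => π_temb C L 0 _
  have h' : tπT C' L' 0 ∘ₗ taug C' L' = taug C' L' := LinearMap.ext fun x => π_temb C' L' 0 _
  rw [totP, Finset.Nat.antidiagonal_zero, Finset.sum_singleton, totAug, ← LinearMap.comp_apply, segMap_comp,
    segMap_congr hT _ (isHom_taug C L) _ (isHom_taug C' L') h h']

theorem totD_totAug (z : (segMod (C.X 0) (C'.X 0) hT).carrier) :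
    totD hT C C' L L' (totAug hT C C' L L' z) = 0 := by
  refine sval_injective hT ?_
  rw [sval_totD, totAug, sval_segMap, map_zero, tD, LinearMap.add_apply]
  change TensorProduct.map _ _ (TensorProduct.map _ _ _) + TensorProduct.map _ _ (TensorProduct.map _ _ _) = 0
  rw [TensorProduct.map_map, TensorProduct.map_map]
  have h1 : (truncGD C L).d ∘ₗ (taug C L).restrictScalars k = 0 := LinearMap.ext fun x => by
    change td C L (taug C L x) = 0
    rw [taug, LinearMap.comp_apply, td_temb, C.d_d, map_zero]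
  have h2 : (truncGD C' L').d ∘ₗ (taug C' L').restrictScalars k = 0 := LinearMap.ext fun x => by
    change td C' L' (taug C' L' x) = 0
    rw [taug, LinearMap.comp_apply, td_temb, C'.d_d, map_zero]
  rw [h1, h2, TensorProduct.map_zero_left, TensorProduct.map_zero_right, LinearMap.zero_apply, add_zero]

/-- the terms of the total complex -/
def totX : ℕ → GMod.{u} 𝒯
  | 0 => segMod (C.X 0) (C'.X 0) hT
  | n + 1 => GrLC.sub (totAmb hT C C' L L') (LinearMap.range (totP hT C C' L L' n))
      (isHomogeneous_range (isHom_totP hT C C' L L' n))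

/-- the differentials of the total complex -/
def totd : ∀ n, (totX hT C C' L L' n).carrier →ₗ[T] (totX hT C C' L L' (n + 1)).carrier
  | 0 => (totAug hT C C' L L').codRestrict (LinearMap.range (totP hT C C' L L' 0))
      fun z => ⟨_, totP_totAug hT C C' L L' z⟩
  | n + 1 => (totD hT C C' L L' ∘ₗ (LinearMap.range (totP hT C C' L L' n)).subtype).codRestrict
      (LinearMap.range (totP hT C C' L L' (n + 1))) (by
        rintro ⟨_, y, rfl⟩
        exact ⟨totD hT C C' L L' y, (totD_totP hT C C' L L' n y).symm⟩)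

/-- the Segre total complex -/
def tot : GCx.{u} 𝒯 where
  X := totX hT C C' L L'
  d := totd hT C C' L L'
  d_hom := fun
    | 0 => fun g z hz => isHom_segMap hT (isHom_taug C L) (isHom_taug C' L') g z hz
    | n + 1 => fun g z hz => isHom_totD hT C C' L L' g _ hz
  d_d := fun
    | 0, z => Subtype.ext (totD_totAug hT C C' L L' z)
    | n + 1, z => Subtype.ext (totD_totD hT C C' L L' _)

variable [IsNoetherianRing T] {l : List (HElt 𝒯)}

/-- The positive terms are acyclic. -/
theorem van_tot (hl : ∀ n : ℤ, 0 < n → ∀ t ∈ 𝒯 n, t ∈ (hspan l).toIdeal) (h : ∀ a, LocTerm (C.X (a + 1)))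
    (h' : ∀ a, LocTerm (C'.X (a + 1))) (n i : ℕ) (g : ℤ) : Van l ((tot hT C C' L L').X (n + 1)) i g := by
  have hrange : ∀ v, totP hT C C' L L' n v ∈ LinearMap.range (totP hT C C' L L' n) := fun v => ⟨v, rfl⟩
  refine van_retract (Y := totAmb hT C C' L L') (LinearMap.range (totP hT C C' L L' n)).subtype
    (isHom_subtype (totAmb hT C C' L L') _ (isHomogeneous_range (isHom_totP hT C C' L L' n)))
    ((totP hT C C' L L' n).codRestrict _ hrange) (fun g v hv => isHom_totP hT C C' L L' n g v hv) ?_
    (van_segMod hT hl (locTerm_trunc h) (locTerm_trunc h') i g)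
  exact LinearMap.ext fun ⟨_, y, rfl⟩ => Subtype.ext (totP_totP hT C C' L L' n y)

end

end GrothLib.Segre
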