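import Groth.Agent.Lib.Segre.TotCx
import Groth.Agent.Lib.Segre.Harm

/-!
# The Segre total complex degree by degree: the Künneth formula
-/

universe u

open DirectSum
open scoped TensorProduct

namespace GrothLib.Segre

open GrothLib.GrLC
open _root_.GrLC (GMod IsGrHom deg0 comp)
open GrothLib.GrDual (pieceK)

noncomputable section

variable {k : Type u} [Field k] {R : Type u} [CommRing R] [Algebra k R] {S : Type u} [CommRing S] [Algebra k S]
  {T : Type u} [CommRing T] [Algebra k T] {𝒜 : ℤ → Submodule k R} [GradedAlgebra 𝒜] {ℬ : ℤ → Submodule k S}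
  [GradedAlgebra ℬ] {𝒯 : ℤ → Submodule k T} [GradedAlgebra 𝒯] {ψ : T →ₐ[k] R ⊗[k] S}
  (hT : GrSeg.IsSegreRing 𝒜 ℬ 𝒯 ψ)

theorem piece_eq_range (X : GMod.{u} 𝒜) (Y : GMod.{u} ℬ) (d : ℤ) :
    GrSeg.segrePiece k X.gr Y.gr d =
      LinearMap.range (TensorProduct.mapIncl (pieceK 𝒜 X.gr d) (pieceK ℬ Y.gr d)) := by
  rw [TensorProduct.range_mapIncl, Submodule.map₂_eq_span_image2]
  refine congrArg (Submodule.span k) (Set.ext fun z => ⟨?_, ?_⟩)
  · rintro ⟨a, ha, b, hb, rfl⟩
    exact ⟨a, ha, b, hb, rfl⟩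
  · rintro ⟨a, ha, b, hb, rfl⟩
    exact ⟨a, ha, b, hb, rfl⟩

variable (C : GCx.{u} 𝒜) (C' : GCx.{u} ℬ) (L L' : ℕ) (d : ℤ)

/-- the degree `d` part of the tensor square -/
abbrev degW : Type u := degV C L d ⊗[k] degV C' L' d

/-- the inclusion of the degree `d` part -/
def degI : degW C C' L L' d →ₗ[k] (totAmb hT C C' L L').carrier :=
  LinearMap.codRestrict (segSub (trunc C L) (trunc C' L'))
    (TensorProduct.mapIncl (degV C L d) (degV C' L' d))
    fun w => piece_le_segSub d ((piece_eq_range (trunc C L) (trunc C' L') d).ge ⟨w, rfl⟩)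

theorem sval_degI (w : degW C C' L L' d) :
    sval hT (degI hT C C' L L' d w) = TensorProduct.mapIncl (degV C L d) (degV C' L' d) w := rfl

theorem degI_injective : Function.Injective (degI hT C C' L L' d) := fun _ _ h =>
  Module.Flat.tensorProduct_mapIncl_injective_of_right _ _ (congrArg (sval hT) h)

theorem degI_gr (w : degW C C' L L' d) : degI hT C C' L L' d w ∈ (totAmb hT C C' L L').gr d :=
  (piece_eq_range (trunc C L) (trunc C' L') d).ge ⟨w, rfl⟩

theorem exists_degI {z : (totAmb hT C C' L L').carrier} (hz : z ∈ (totAmb hT C C' L L').gr d) :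
    ∃ w, degI hT C C' L L' d w = z := by
  obtain ⟨w, hw⟩ := (piece_eq_range (trunc C L) (trunc C' L') d).le hz
  exact ⟨w, sval_injective hT hw⟩

theorem degI_tD (w : degW C C' L L' d) :
    totD hT C C' L L' (degI hT C C' L L' d w) =
      degI hT C C' L L' d (tD (degGD C L d) (degGD C' L' d) w) := by
  refine sval_injective hT ?_
  rw [sval_totD, sval_degI, sval_degI]
  induction w using TensorProduct.induction_on with
  | zero => simp
  | add a b ha hb => simp only [map_add, ha, hb]
  | tmul a b =>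
    simp only [tD, LinearMap.add_apply, map_add, TensorProduct.mapIncl, TensorProduct.map_tmul]
    congr 1
    change _ = ((degGD C L d).σ a : (trunc C L).carrier) ⊗ₜ[k] _
    rw [coe_degGD_σ, ← truncGD_σ_apply]
    rfl

theorem degI_tπ (n : ℕ) (w : degW C C' L L' d) :
    totP hT C C' L L' n (degI hT C C' L L' d w) =
      degI hT C C' L L' d (tπ (degGD C L d) (degGD C' L' d) n w) := by
  refine sval_injective hT ?_
  rw [sval_totP, sval_degI, sval_degI, tπ, tπ, LinearMap.sum_apply, LinearMap.sum_apply, map_sum]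
  refine Finset.sum_congr rfl fun p _ => ?_
  induction w using TensorProduct.induction_on with
  | zero => simp
  | add a b ha hb => simp only [map_add, ha, hb]
  | tmul a b => rfl

/-- a degree `d` element of a spot of the total complex -/
def degA (n : ℕ) : degW C C' L L' d →ₗ[k] ((tot hT C C' L L').X (n + 1)).carrier where
  toFun w := ⟨totP hT C C' L L' n (degI hT C C' L L' d w), _, rfl⟩
  map_add' u v := Subtype.ext (show totP hT C C' L L' n (degI hT C C' L L' d (u + v)) =
      totP hT C C' L L' n (degI hT C C' L L' d u) + totP hT C C' L L' n (degI hT C C' L L' d v) by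
    rw [map_add, map_add])
  map_smul' c u := Subtype.ext (by
    change totP hT C C' L L' n (degI hT C C' L L' d (c • u)) = algebraMap k T c • _
    rw [map_smul, ← algebraMap_smul T c (degI hT C C' L L' d u), map_smul])

theorem coe_degA (n : ℕ) (w : degW C C' L L' d) :
    (degA hT C C' L L' d n w).1 = totP hT C C' L L' n (degI hT C C' L L' d w) := rfl

theorem degA_gr (n : ℕ) (w : degW C C' L L' d) :
    degA hT C C' L L' d n w ∈ ((tot hT C C' L L').X (n + 1)).gr d :=
  isHom_totP hT C C' L L' n d _ (degI_gr hT C C' L L' d w)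

theorem degA_tπ (n : ℕ) (w : degW C C' L L' d) :
    degA hT C C' L L' d n (tπ (degGD C L d) (degGD C' L' d) n w) = degA hT C C' L L' d n w := by
  refine Subtype.ext ?_
  rw [coe_degA, coe_degA, degI_tπ, degI_tπ, ← Module.End.mul_apply, tπ_self]

theorem d_degA (n : ℕ) (w : degW C C' L L' d) :
    (tot hT C C' L L').d (n + 1) (degA hT C C' L L' d n w) =
      degA hT C C' L L' d (n + 1) (tD (degGD C L d) (degGD C' L' d) w) := by
  refine Subtype.ext ?_
  change totD hT C C' L L' (totP hT C C' L L' n (degI hT C C' L L' d w)) = _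
  rw [totD_totP, degI_tD]
  rfl

theorem degA_eq_zero_iff (n : ℕ) (w : degW C C' L L' d) :
    degA hT C C' L L' d n w = 0 ↔ tπ (degGD C L d) (degGD C' L' d) n w = 0 := by
  refine ⟨fun h => degI_injective hT C C' L L' d ?_, fun h => ?_⟩
  · rw [map_zero, ← degI_tπ]
    exact congrArg Subtype.val h
  · rw [← degA_tπ, h, map_zero]

theorem exists_degA {n : ℕ} {z : ((tot hT C C' L L').X (n + 1)).carrier}
    (hg : z ∈ ((tot hT C C' L L').X (n + 1)).gr d) :
    ∃ w, tπ (degGD C L d) (degGD C' L' d) n w = w ∧ degA hT C C' L L' d n w = z := by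
  obtain ⟨w₀, hw₀⟩ := exists_degI hT C C' L L' d (z := z.1) hg
  refine ⟨tπ (degGD C L d) (degGD C' L' d) n w₀, by rw [← Module.End.mul_apply, tπ_self], ?_⟩
  rw [degA_tπ]
  refine Subtype.ext ?_
  rw [coe_degA, hw₀]
  obtain ⟨y, hy⟩ := z.2
  rw [← hy, totP_totP]

theorem tD_eq_zero_of_cyc {n : ℕ} {w : degW C C' L L' d} (hw : tπ (degGD C L d) (degGD C' L' d) n w = w)
    (hc : degA hT C C' L L' d n w ∈ (tot hT C C' L L').cyc (n + 1)) :
    tD (degGD C L d) (degGD C' L' d) w = 0 := by
  have h : tπ (degGD C L d) (degGD C' L' d) (n + 1) (tD (degGD C L d) (degGD C' L' d) w) = 0 :=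
    (degA_eq_zero_iff hT C C' L L' d _ _).1 ((d_degA hT C C' L L' d n w).symm.trans hc)
  rwa [← Module.End.mul_apply, ← tD_tπ, Module.End.mul_apply, hw] at h

/-- harmonic vectors give cocycles -/
theorem degA_tE_cyc (n : ℕ) (w : degW C C' L L' d) :
    degA hT C C' L L' d n (tE (degGD C L d) (degGD C' L' d) w) ∈ (tot hT C C' L L').cyc (n + 1) := by
  change (tot hT C C' L L').d (n + 1) _ = 0
  rw [d_degA, ← Module.End.mul_apply, tD_tE, LinearMap.zero_apply, map_zero]

/-- A higher cocycle is harmonic up to a coboundary. -/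
theorem sub_harm_mem_bdy {n : ℕ} {w : degW C C' L L' d}
    (hw : tπ (degGD C L d) (degGD C' L' d) (n + 1) w = w) (hd : tD (degGD C L d) (degGD C' L' d) w = 0) :
    degA hT C C' L L' d (n + 1) w - degA hT C C' L L' d (n + 1) (tE (degGD C L d) (degGD C' L' d) w) ∈
      (tot hT C C' L L').bdy (n + 2) := by
  obtain ⟨u, -, hu⟩ := sub_tE_mem _ _ hd hw
  refine ⟨degA hT C C' L L' d n u, ?_⟩
  rw [d_degA, ← hu, map_sub]

/-- A harmonic coboundary is zero. -/
theorem harm_eq_zero_of_tot_bdy {n : ℕ} {w : degW C C' L L' d}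
    (hw : tπ (degGD C L d) (degGD C' L' d) (n + 1) w = w) (he : tE (degGD C L d) (degGD C' L' d) w = w)
    (h : degA hT C C' L L' d (n + 1) w ∈ (tot hT C C' L L').bdy (n + 2)) : w = 0 := by
  obtain ⟨u₀, hu₀⟩ := h
  have hg := degA_gr hT C C' L L' d (n + 1) w
  have hu : (tot hT C C' L L').d (n + 1) (cmp ((tot hT C C' L L').X (n + 1)).gr d u₀) =
      degA hT C C' L L' d (n + 1) w := by
    rw [((tot hT C C' L L').d_hom (n + 1)).cmp, hu₀, cmp_of_mem _ hg]
  obtain ⟨v, hv, hv'⟩ := exists_degA hT C C' L L' d (cmp_mem ((tot hT C C' L L').X (n + 1)).gr d u₀)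
  rw [← hv', d_degA] at hu
  have h2 : tπ (degGD C L d) (degGD C' L' d) (n + 1) (tD (degGD C L d) (degGD C' L' d) v - w) = 0 :=
    (degA_eq_zero_iff hT C C' L L' d _ _).1 (by rw [map_sub, hu, sub_self])
  rw [map_sub, ← Module.End.mul_apply, ← tD_tπ, Module.End.mul_apply, hv, hw, sub_eq_zero] at h2
  rw [← he, ← h2, ← Module.End.mul_apply, tE_tD, LinearMap.zero_apply]

theorem tπ_tE_apply (n : ℕ) (y : degW C C' L L' d) :
    tπ (degGD C L d) (degGD C' L' d) n ((tE (degGD C L d) (degGD C' L' d) * tπ (degGD C L d) (degGD C' L' d) n) y) =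
      (tE (degGD C L d) (degGD C' L' d) * tπ (degGD C L d) (degGD C' L' d) n) y := by
  rw [← Module.End.mul_apply, ← mul_assoc, ← tE_tπ, mul_assoc, tπ_self]

theorem tE_tE_apply (y : degW C C' L L' d) :
    tE (degGD C L d) (degGD C' L' d) (tE (degGD C L d) (degGD C' L' d) y) = tE (degGD C L d) (degGD C' L' d) y := by
  rw [← Module.End.mul_apply, tE, tM_mul, GDiff.e_e, GDiff.e_e]

/-- Vanishing in the higher spots of the total complex. -/
theorem vanish_tot_succ_iff (n : ℕ) :
    (tot hT C C' L L').Vanish (n + 2) d ↔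
      ∀ a b : ℕ, a + b = n + 1 → Subsingleton (harm C L d a) ∨ Subsingleton (harm C' L' d b) := by
  rw [← subsingleton_harmonic_iff]
  constructor
  · intro h
    refine subsingleton_of_forall_eq 0 fun ⟨w, y, hy⟩ => Subtype.ext ?_
    change w = 0
    subst hy
    have hw := tπ_tE_apply C C' L L' d (n + 1) y
    have he := tE_tE_apply C C' L L' d (tπ (degGD C L d) (degGD C' L' d) (n + 1) y)
    refine harm_eq_zero_of_tot_bdy hT C C' L L' d hw he (h _ ?_ (degA_gr hT C C' L L' d _ _))
    exact degA_tE_cyc hT C C' L L' d _ _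
  · intro h z hc hg
    obtain ⟨w, hw, rfl⟩ := exists_degA hT C C' L L' d hg
    have h1 := sub_harm_mem_bdy hT C C' L L' d hw (tD_eq_zero_of_cyc hT C C' L L' d hw hc)
    have h2 : (⟨_, w, rfl⟩ : LinearMap.range (tE (degGD C L d) (degGD C' L' d) *
        tπ (degGD C L d) (degGD C' L' d) (n + 1))) = 0 := Subsingleton.elim _ _
    have h3 : tE (degGD C L d) (degGD C' L' d) w = 0 := by
      conv_lhs => rw [← hw]
      exact congrArg Subtype.val h2
    rwa [h3, map_zero, sub_zero] at h1

/-- The Künneth formula in the higher spots. -/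
theorem finrank_tot_succ [Nontrivial T]
    (h0 : 𝒯 0 = Submodule.span k {(1 : T)}) (hV : ∀ a, Module.Finite k (harm C L d a))
    (hU : ∀ b, Module.Finite k (harm C' L' d b)) (n : ℕ) :
    Module.finrank (deg0 𝒯) (HP (tot hT C C' L L') (n + 2) d) = ∑ p ∈ Finset.antidiagonal (n + 1),
      Module.finrank k (harm C L d p.1) * Module.finrank k (harm C' L' d p.2) := by
  rw [← finrank_harmonic (degGD C L d) (degGD C' L' d) (n + 1) hV hU]
  let W := LinearMap.range (tE (degGD C L d) (degGD C' L' d) * tπ (degGD C L d) (degGD C' L' d) (n + 1))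
  have hcyc : ∀ w : W, degA hT C C' L L' d (n + 1) w.1 ∈ (tot hT C C' L L').cyc (n + 2) := by
    rintro ⟨_, y, rfl⟩
    exact degA_tE_cyc hT C C' L L' d (n + 1) _
  let f : W →+ HP (tot hT C C' L L') (n + 2) d :=
    AddMonoidHom.mk' (fun w => Submodule.Quotient.mk
      (⟨degA hT C C' L L' d (n + 1) w.1, degA_gr hT C C' L L' d _ _, hcyc w⟩ :
        ZP (tot hT C C' L L') (n + 2) d)) fun u v => by
      rw [← Submodule.Quotient.mk_add]
      exact congrArg _ (Subtype.ext (map_add (degA hT C C' L L' d (n + 1)) u.1 v.1))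
  refine finrank_eq_of_semilinear 𝒯 h0 f ⟨(injective_iff_map_eq_zero f).2 ?_, fun q => ?_⟩ fun c w => ?_
  · rintro ⟨_, y, rfl⟩ hw
    exact Subtype.ext (harm_eq_zero_of_tot_bdy hT C C' L L' d (tπ_tE_apply C C' L L' d (n + 1) y)
      (tE_tE_apply C C' L L' d _) ((HP_mk_eq_zero _ _).1 hw))
  · obtain ⟨⟨z, hg, hc⟩, rfl⟩ := Submodule.Quotient.mk_surjective _ q
    obtain ⟨w, hw, rfl⟩ := exists_degA hT C C' L L' d hg
    refine ⟨⟨_, w, rfl⟩, ?_⟩
    refine (Submodule.Quotient.eq _).2 ?_
    have h1 := neg_mem (sub_harm_mem_bdy hT C C' L L' d hw (tD_eq_zero_of_cyc hT C C' L L' d hw hc))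
    rw [neg_sub] at h1
    change degA hT C C' L L' d (n + 1) ((tE (degGD C L d) (degGD C' L' d) * tπ (degGD C L d) (degGD C' L' d) (n + 1)) w) - degA hT C C' L L' d (n + 1) w ∈
      (tot hT C C' L L').bdy (n + 2)
    rwa [Module.End.mul_apply, hw]
  · change Submodule.Quotient.mk _ = baseHom 𝒯 c • Submodule.Quotient.mk _
    rw [← Submodule.Quotient.mk_smul]
    refine congrArg _ (Subtype.ext ?_)
    exact ((degA hT C C' L L' d (n + 1)).map_smul c w.1).trans (algebraMap_smul T c _).symm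

end

end GrothLib.Segre
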