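import Groth.Agent.Lib.Segre.TotDeg
import Groth.Agent.Lib.GrLC.TorsAcyclic

/-!
# The first spots of the Segre total complex and the torsion of its cohomology
-/

universe u

open DirectSum
open scoped TensorProduct

namespace GrothLib.Segre

open GrothLib.GrLC
open _root_.GrLC (GMod IsGrHom deg0 comp)
open GrothLib.GrDual (pieceK)

noncomputable section

variable {k : Type u} [Field k] {R : Type u} [CommRing R] [Algebra k R] {S : Type u} [CommRing S] [Algebra k S]
  {T : Type u} [CommRing T] [Algebra k T] {𝒜 : ℤ → Submodule k R} [GradedAlgebra 𝒜] {ℬ : ℤ → Submodule k S}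
  [GradedAlgebra ℬ] {𝒯 : ℤ → Submodule k T} [GradedAlgebra 𝒯] {ψ : T →ₐ[k] R ⊗[k] S}
  (hT : GrSeg.IsSegreRing 𝒜 ℬ 𝒯 ψ) (C : GCx.{u} 𝒜) (C' : GCx.{u} ℬ) (L L' : ℕ)
  (hz : ∀ a, L ≤ a → ∀ z : (C.X (a + 1)).carrier, z = 0) (hz' : ∀ a, L' ≤ a → ∀ z : (C'.X (a + 1)).carrier, z = 0)

include hz hz'

theorem totAug_injective (hinj : Function.Injective (C.d 0)) (hinj' : Function.Injective (C'.d 0)) :
    Function.Injective (totAug hT C C' L L') := by
  refine segMap_injective hT _ _ ?_ ?_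
  · exact fun x y h => hinj (by rw [← tpr_temb hz (C.d 0 x), ← tpr_temb hz (C.d 0 y)]; exact congrArg _ h)
  · exact fun x y h => hinj' (by rw [← tpr_temb hz' (C'.d 0 x), ← tpr_temb hz' (C'.d 0 y)]; exact congrArg _ h)

theorem cyc_tot_zero (hinj : Function.Injective (C.d 0)) (hinj' : Function.Injective (C'.d 0))
    {z : ((tot hT C C' L L').X 0).carrier} (hc : z ∈ (tot hT C C' L L').cyc 0) : z = 0 :=
  totAug_injective hT C C' L L' hz hz' hinj hinj' ((congrArg Subtype.val hc).trans (map_zero _).symm)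

theorem vanish_tot_zero (hinj : Function.Injective (C.d 0)) (hinj' : Function.Injective (C'.d 0)) (d : ℤ) :
    (tot hT C C' L L').Vanish 0 d := fun z hc _ => by
  rw [cyc_tot_zero hT C C' L L' hz hz' hinj hinj' hc]
  exact zero_mem _

omit hz hz' in
/-- the augmentations in a degree -/
abbrev augV (d : ℤ) : pieceK 𝒜 (C.X 0).gr d →ₗ[k] degV C L d :=
  (harm C L d 0).subtype ∘ₗ augHarm C L d

omit hz hz' in
theorem coe_augV (d : ℤ) (x : pieceK 𝒜 (C.X 0).gr d) : (augV C L d x).1 = taug C L x.1 := rfl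

omit hz hz' in
theorem d_tot_zero_degA (d : ℤ) (v : pieceK 𝒜 (C.X 0).gr d ⊗[k] pieceK ℬ (C'.X 0).gr d) :
    (tot hT C C' L L').d 0 (smk hT (TensorProduct.mapIncl (pieceK 𝒜 (C.X 0).gr d) (pieceK ℬ (C'.X 0).gr d) v)
      (piece_le_segSub d ((piece_eq_range (C.X 0) (C'.X 0) d).ge ⟨v, rfl⟩))) =
    degA hT C C' L L' d 0 (TensorProduct.map (augV C L d) (augV C' L' d) v) := by
  refine Subtype.ext ?_
  change totAug hT C C' L L' _ = totP hT C C' L L' 0 _
  have e : degI hT C C' L L' d (TensorProduct.map (augV C L d) (augV C' L' d) v) =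
      totAug hT C C' L L' (smk hT (TensorProduct.mapIncl (pieceK 𝒜 (C.X 0).gr d) (pieceK ℬ (C'.X 0).gr d) v)
        (piece_le_segSub d ((piece_eq_range (C.X 0) (C'.X 0) d).ge ⟨v, rfl⟩))) := by
    refine sval_injective hT ?_
    rw [sval_degI, totAug, sval_segMap, sval_smk]
    induction v using TensorProduct.induction_on with
    | zero => simp
    | add a b ha hb => simp only [map_add, ha, hb]
    | tmul a b => rfl
  rw [e, totP_totAug]

omit hz hz' in
theorem tπ_zero_tmul {d : ℤ} {x : degV C L d} {y : degV C' L' d} (hx : (degGD C L d).π 0 x = x)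
    (hy : (degGD C' L' d).π 0 y = y) : tπ (degGD C L d) (degGD C' L' d) 0 (x ⊗ₜ[k] y) = x ⊗ₜ[k] y := by
  rw [tπ, Finset.Nat.antidiagonal_zero, Finset.sum_singleton, tM, TensorProduct.map_tmul, hx, hy]

omit hz hz' in
theorem tπ_zero_map_aug {d : ℤ} (v : pieceK 𝒜 (C.X 0).gr d ⊗[k] pieceK ℬ (C'.X 0).gr d) :
    tπ (degGD C L d) (degGD C' L' d) 0 (TensorProduct.map (augV C L d) (augV C' L' d) v) =
      TensorProduct.map (augV C L d) (augV C' L' d) v := by
  induction v using TensorProduct.induction_on with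
  | zero => simp
  | add a b ha hb => simp only [map_add, ha, hb]
  | tmul a b =>
    rw [TensorProduct.map_tmul]
    exact tπ_zero_tmul C C' L L' (π_of_harm (augHarm C L d a).2) (π_of_harm (augHarm C' L' d b).2)

omit hz hz' in
theorem vanish_tot_one_iff_tmul (d : ℤ) : (tot hT C C' L L').Vanish 1 d ↔
    ∀ x : harm C L d 0, ∀ y : harm C' L' d 0, x.1 ⊗ₜ[k] y.1 ∈
      LinearMap.range (TensorProduct.map (augV C L d) (augV C' L' d)) := by
  constructor
  · intro h x y
    have hw : tπ (degGD C L d) (degGD C' L' d) 0 (x.1 ⊗ₜ[k] y.1) = x.1 ⊗ₜ[k] y.1 :=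
      tπ_zero_tmul C C' L L' (π_of_harm x.2) (π_of_harm y.2)
    have he : tE (degGD C L d) (degGD C' L' d) (x.1 ⊗ₜ[k] y.1) = x.1 ⊗ₜ[k] y.1 := by
      rw [tE, tM, TensorProduct.map_tmul, e_of_harm x.2, e_of_harm y.2]
    have hc : degA hT C C' L L' d 0 (x.1 ⊗ₜ[k] y.1) ∈ (tot hT C C' L L').cyc 1 := by
      rw [← he]; exact degA_tE_cyc hT C C' L L' d 0 _
    obtain ⟨v₀, hv₀⟩ := h _ hc (degA_gr hT C C' L L' d 0 _)
    have hv : (tot hT C C' L L').d 0 (cmp ((tot hT C C' L L').X 0).gr d v₀) =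
        degA hT C C' L L' d 0 (x.1 ⊗ₜ[k] y.1) := by
      rw [((tot hT C C' L L').d_hom 0).cmp, hv₀, cmp_of_mem _ (degA_gr hT C C' L L' d 0 _)]
    obtain ⟨v, hv'⟩ := (piece_eq_range (C.X 0) (C'.X 0) d).le
      (cmp_mem ((tot hT C C' L L').X 0).gr d v₀ : _)
    refine ⟨v, ?_⟩
    have hsm : smk hT (TensorProduct.mapIncl (pieceK 𝒜 (C.X 0).gr d) (pieceK ℬ (C'.X 0).gr d) v)
        (piece_le_segSub d ((piece_eq_range (C.X 0) (C'.X 0) d).ge ⟨v, rfl⟩)) =
        cmp ((tot hT C C' L L').X 0).gr d v₀ := sval_injective hT hv'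
    rw [← hsm, d_tot_zero_degA] at hv
    have h2 := (degA_eq_zero_iff hT C C' L L' d 0
      (TensorProduct.map (augV C L d) (augV C' L' d) v - x.1 ⊗ₜ[k] y.1)).1 (by rw [map_sub, sub_eq_zero]; exact hv)
    rwa [map_sub, hw, tπ_zero_map_aug, sub_eq_zero] at h2
  · intro h z hc hg
    obtain ⟨w, hw, rfl⟩ := exists_degA hT C C' L L' d hg
    have he := eq_tE_of_zero _ _ (tD_eq_zero_of_cyc hT C C' L L' d hw hc) hw
    have hmem : w ∈ LinearMap.range (TensorProduct.map (augV C L d) (augV C' L' d)) := by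
      rw [← he, ← hw, tπ, Finset.Nat.antidiagonal_zero, Finset.sum_singleton, tE, tM, tM,
        TensorProduct.map_map]
      clear he hw hc hg
      induction w using TensorProduct.induction_on with
      | zero => simp
      | add a b ha hb =>
        rw [map_add]
        exact add_mem ha hb
      | tmul a b =>
        rw [TensorProduct.map_tmul]
        exact h ⟨_, a, rfl⟩ ⟨_, b, rfl⟩
    obtain ⟨v, rfl⟩ := hmem
    exact ⟨_, d_tot_zero_degA hT C C' L L' d v⟩

omit hz hz' in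
theorem tmul_notMem_map₂' {k V U : Type*} [Field k] [AddCommGroup V] [Module k V] [AddCommGroup U] [Module k U]
    (p : Submodule k V) {q : Submodule k U} {x : V} (hx : x ≠ 0) {y : U} (hy : y ∉ q) :
    x ⊗ₜ[k] y ∉ Submodule.map₂ (TensorProduct.mk k V U) p q := by
  intro h
  refine tmul_notMem_map₂ hy hx p ?_
  have hle : Submodule.map₂ (TensorProduct.mk k V U) p q ≤
      (Submodule.map₂ (TensorProduct.mk k U V) q p).comap (TensorProduct.comm k V U).toLinearMap :=
    Submodule.map₂_le.2 fun a ha b hb => Submodule.apply_mem_map₂ _ hb ha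
  exact hle h

/-- Vanishing in spot one of the total complex. -/
theorem vanish_tot_one_iff (d : ℤ) : (tot hT C C' L L').Vanish 1 d ↔
    Subsingleton (harm C L d 0) ∨ Subsingleton (harm C' L' d 0) ∨ (C.Vanish 1 d ∧ C'.Vanish 1 d) := by
  rw [vanish_tot_one_iff_tmul, ← augHarm_surjective_iff hz, ← augHarm_surjective_iff hz']
  constructor
  · intro h
    by_cases h1 : Subsingleton (harm C L d 0)
    · exact Or.inl h1
    by_cases h2 : Subsingleton (harm C' L' d 0)
    · exact Or.inr (Or.inl h2)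
    rw [not_subsingleton_iff_nontrivial] at h1 h2
    obtain ⟨x₁, hx₁⟩ := exists_ne (0 : harm C L d 0)
    obtain ⟨y₁, hy₁⟩ := exists_ne (0 : harm C' L' d 0)
    refine Or.inr (Or.inr ⟨fun x => ?_, fun y => ?_⟩)
    · by_contra hc
      refine tmul_notMem_map₂ (p := LinearMap.range (augV C L d)) (x := x.1) ?_ (y := y₁.1)
        (fun e => hy₁ (Subtype.ext e)) (LinearMap.range (augV C' L' d)) ?_
      · rintro ⟨a, ha⟩
        exact hc ⟨a, Subtype.ext ha⟩
      · rw [← TensorProduct.range_map]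
        exact h x y₁
    · by_contra hc
      refine tmul_notMem_map₂' (LinearMap.range (augV C L d)) (q := LinearMap.range (augV C' L' d)) (x := x₁.1)
        (fun e => hx₁ (Subtype.ext e)) (y := y.1) ?_ ?_
      · rintro ⟨a, ha⟩
        exact hc ⟨a, Subtype.ext ha⟩
      · rw [← TensorProduct.range_map]
        exact h x₁ y
  · rintro (h | h | ⟨h, h'⟩) x y
    · rw [show x = 0 from Subsingleton.elim _ _, ZeroMemClass.coe_zero, TensorProduct.zero_tmul]
      exact zero_mem _
    · rw [show y = 0 from Subsingleton.elim _ _, ZeroMemClass.coe_zero, TensorProduct.tmul_zero]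
      exact zero_mem _
    · obtain ⟨a, rfl⟩ := h x
      obtain ⟨b, rfl⟩ := h' y
      exact ⟨a ⊗ₜ b, rfl⟩

end

end GrothLib.Segre
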