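import Groth.Agent.Lib.Segre.TotLow

/-!
# The cohomology of the Segre total complex is torsion
-/

universe u

open DirectSum
open scoped TensorProduct

namespace GrothLib.Segre

open GrothLib.GrLC
open _root_.GrLC (GMod IsGrHom)
open GrothLib.GrDual (pieceK)

noncomputable section

section Colon

variable {T : Type u} [CommRing T] {σ : Type u} [SetLike σ T] [AddSubgroupClass σ T] {𝒯 : ℤ → σ} [GradedRing 𝒯]
  {X : GMod.{u} 𝒯} (B : Submodule T X.carrier)

/-- Every positive degree element kills the class up to a power. -/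
def TorsElt (z : X.carrier) : Prop := ∀ c : ℤ, 0 < c → ∀ t ∈ 𝒯 c, ∃ K : ℕ, t ^ K • z ∈ B

theorem torsElt_zero : TorsElt B 0 := fun _ _ t _ => ⟨0, by rw [smul_zero]; exact zero_mem B⟩

theorem torsElt_of_mem {z : X.carrier} (hz : z ∈ B) : TorsElt B z := fun _ _ t _ => ⟨0, B.smul_mem _ hz⟩

theorem TorsElt.add {z w : X.carrier} (hz : TorsElt B z) (hw : TorsElt B w) : TorsElt B (z + w) := fun c hc t ht => by
  obtain ⟨K, hK⟩ := hz c hc t ht
  obtain ⟨K', hK'⟩ := hw c hc t ht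
  refine ⟨K + K', ?_⟩
  rw [smul_add]
  refine add_mem ?_ ?_
  · rw [add_comm K, pow_add, mul_smul]; exact B.smul_mem _ hK
  · rw [pow_add, mul_smul]; exact B.smul_mem _ hK'

theorem TorsElt.sum {α : Type*} (s : Finset α) (z : α → X.carrier) (h : ∀ a ∈ s, TorsElt B (z a)) :
    TorsElt B (∑ a ∈ s, z a) :=
  Finset.sum_induction z (TorsElt B) (fun _ _ => TorsElt.add B) (torsElt_zero B) h

end Colon

variable {k : Type u} [Field k] {R : Type u} [CommRing R] [Algebra k R] {S : Type u} [CommRing S] [Algebra k S]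
  {T : Type u} [CommRing T] [Algebra k T] {𝒜 : ℤ → Submodule k R} [GradedAlgebra 𝒜] {ℬ : ℤ → Submodule k S}
  [GradedAlgebra ℬ] {𝒯 : ℤ → Submodule k T} [GradedAlgebra 𝒯] {ψ : T →ₐ[k] R ⊗[k] S}

theorem TorsElt.smulk {X : GMod.{u} 𝒯} {B : Submodule T X.carrier} {z : X.carrier} (c : k) (hz : TorsElt B z) :
    TorsElt B (c • z) := fun n hn t ht => by
  obtain ⟨K, hK⟩ := hz n hn t ht
  refine ⟨K, ?_⟩
  rw [smul_comm, ← algebraMap_smul T c]
  exact B.smul_mem _ hK

/-- It suffices to test preimages of pure tensors. -/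
theorem torsElt_of_tmul (hT : GrSeg.IsSegreRing 𝒜 ℬ 𝒯 ψ) {X : GMod.{u} 𝒯} {B : Submodule T X.carrier}
    {z : X.carrier}
    (h : ∀ c : ℤ, 0 < c → ∀ f ∈ 𝒜 c, ∀ g ∈ ℬ c, ∀ t, ψ t = f ⊗ₜ[k] g → ∃ K : ℕ, t ^ K • z ∈ B) :
    TorsElt B z := by
  intro c hc t ht
  let J : Ideal T := Submodule.comap (LinearMap.toSpanSingleton T X.carrier z) B
  suffices ∀ x ∈ GrSeg.segrePiece k 𝒜 ℬ c, ∀ t, ψ t = x → t ∈ J.radical from this _ (psi_mem hT ht) t rfl
  intro x hx
  induction hx using Submodule.span_induction with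
  | mem x hx =>
    obtain ⟨f, hf, g, hg, rfl⟩ := hx
    exact fun t ht => h c hc f hf g hg t ht
  | zero => exact fun t ht => by rw [hT.1 (ht.trans (map_zero ψ).symm)]; exact zero_mem _
  | add x y hx hy ihx ihy =>
    intro t ht
    obtain ⟨a, -, ha⟩ := exists_psi hT (x := x) (n := c) hx
    obtain ⟨b, -, hb⟩ := exists_psi hT (x := y) (n := c) hy
    rw [show t = a + b from hT.1 (by rw [ht, map_add, ha, hb])]
    exact add_mem (ihx a ha) (ihy b hb)
  | smul e x hx ihx =>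
    intro t ht
    obtain ⟨a, -, ha⟩ := exists_psi hT (x := x) (n := c) hx
    rw [show t = e • a from hT.1 (by rw [ht, map_smul, ha]), Algebra.smul_def]
    exact Ideal.mul_mem_left _ _ (ihx a ha)

/-- the cohomology of a complex is torsion for the positive part -/
def TorsCx {A : Type u} [CommRing A] {σ : Type u} [SetLike σ A] [AddSubgroupClass σ A] {𝒞 : ℤ → σ} [GradedRing 𝒞]
    (C : GCx.{u} 𝒞) : Prop :=
  ∀ a, ∀ z ∈ C.cyc (a + 1), TorsElt (C.bdy (a + 1)) z

theorem torsCx_cech {A : Type u} [CommRing A] [IsNoetherianRing A] {σ : Type u} [SetLike σ A]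
    [AddSubgroupClass σ A] {𝒞 : ℤ → σ} [GradedRing 𝒞] {l : List (HElt 𝒞)}
    (hl : ∀ n : ℤ, 0 < n → ∀ r ∈ 𝒞 n, r ∈ (hspan l).toIdeal) (X : GMod.{u} 𝒞) : TorsCx (cech X l) := by
  intro a z hz c hc f hf
  let J : Ideal A := Submodule.comap (LinearMap.toSpanSingleton A ((cech X l).X (a + 1)).carrier z)
    ((cech X l).bdy (a + 1))
  have hle : (hspan l).toIdeal ≤ J.radical := Ideal.span_le.2 fun r hr => by
    obtain ⟨y, hy, rfl⟩ := hr
    exact exists_pow_smul_mem_bdy hz hy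
  exact hle (hl c hc f hf)

variable (hT : GrSeg.IsSegreRing 𝒜 ℬ 𝒯 ψ) (C : GCx.{u} 𝒜) (C' : GCx.{u} ℬ) (L L' : ℕ)

theorem torsElt_cyc {A : Type u} [CommRing A] [Algebra k A] {𝒞 : ℤ → Submodule k A} [GradedAlgebra 𝒞]
    {D : GCx.{u} 𝒞} {L : ℕ} (hz : ∀ a, L ≤ a → ∀ z : (D.X (a + 1)).carrier, z = 0) (hD : TorsCx D) {a : ℕ} {d : ℤ}
    {x : degV D L d} (hx : x ∈ harm D L d a) {c : ℤ} (hc : 0 < c) {f : A} (hf : f ∈ 𝒞 c) :
    ∃ K : ℕ, f ^ K • tpr D L a x.1 ∈ D.bdy (a + 1) := hD a _ (tpr_cyc_of_harm hz hx) c hc f hf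

variable (hz : ∀ a, L ≤ a → ∀ z : (C.X (a + 1)).carrier, z = 0) (hz' : ∀ a, L' ≤ a → ∀ z : (C'.X (a + 1)).carrier, z = 0)

include hz hz'

/-- A harmonic tensor is killed up to powers. -/
theorem torsElt_harm (hC : TorsCx C) (hC' : TorsCx C') {d : ℤ} {n a b : ℕ} (hab : a + b = n)
    {x : degV C L d} (hx : x ∈ harm C L d a) {y : degV C' L' d} (hy : y ∈ harm C' L' d b) :
    TorsElt ((tot hT C C' L L').bdy (n + 1)) (degA hT C C' L L' d n (x ⊗ₜ[k] y)) := by
  refine torsElt_of_tmul hT fun c hc f hf g hg t ht => ?_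
  obtain ⟨K₁, hK₁⟩ := torsElt_cyc hz hC hx hc hf
  obtain ⟨K₂, hK₂⟩ := torsElt_cyc hz' hC' hy hc hg
  obtain ⟨K, hKdef⟩ : ∃ K, K = K₁ + K₂ := ⟨_, rfl⟩
  have hf₁ : f ^ K • tpr C L a x.1 ∈ C.bdy (a + 1) := by
    rw [hKdef, add_comm K₁, pow_add, mul_smul]; exact Submodule.smul_mem _ _ hK₁
  have hg₁ : g ^ K • tpr C' L' b y.1 ∈ C'.bdy (b + 1) := by
    rw [hKdef, pow_add, mul_smul]; exact Submodule.smul_mem _ _ hK₂
  refine ⟨K, ?_⟩
  obtain ⟨u₀, hu₀⟩ := hf₁
  obtain ⟨v₀, hv₀⟩ := hg₁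
  have hxg : f ^ K • x.1 ∈ (trunc C L).gr (K • c + d) :=
    smul_mem' (trunc C L).gr (SetLike.pow_mem_graded K hf) x.2
  have hyg : g ^ K • y.1 ∈ (trunc C' L').gr (K • c + d) :=
    smul_mem' (trunc C' L').gr (SetLike.pow_mem_graded K hg) y.2
  have hxπ : ∀ a', tπT C L a' (f ^ K • x.1) = f ^ K • tπT C L a' x.1 := fun a' => map_smul _ _ _
  have hx0 : tπT C L a x.1 = x.1 := congrArg Subtype.val (π_of_harm hx)
  have hxe : temb C L a (C.d a u₀) = f ^ K • x.1 := by rw [hu₀, map_smul, temb_tpr, hx0]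
  have hye : temb C' L' b (C'.d b v₀) = g ^ K • y.1 := by
    rw [hv₀, map_smul, temb_tpr]
    exact congrArg (g ^ K • ·) (congrArg Subtype.val (π_of_harm hy))
  set p := K • c + d with hp
  set u := cmp (C.X a).gr p u₀ with hu_def
  set v := cmp (C'.X b).gr p v₀ with hv_def
  have hu : temb C L a (C.d a u) = f ^ K • x.1 := by
    rw [hu_def, (C.d_hom a).cmp, (isHom_temb C L a).cmp, hxe, cmp_of_mem _ hxg]
  have hv : temb C' L' b (C'.d b v) = g ^ K • y.1 := by
    rw [hv_def, (C'.d_hom b).cmp, (isHom_temb C' L' b).cmp, hye, cmp_of_mem _ hyg]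
  have htz : sval hT (t ^ K • degI hT C C' L L' d (x ⊗ₜ[k] y)) = (f ^ K • x.1) ⊗ₜ[k] (g ^ K • y.1) := by
    rw [sval_smul, sval_degI, map_pow, ht, Algebra.TensorProduct.tmul_pow, TensorProduct.mapIncl,
      TensorProduct.map_tmul, GrSeg.act_tmul]
    rfl
  have htmem : ∀ {P : (trunc C L).carrier} {Q : (trunc C' L').carrier}, P ∈ (trunc C L).gr p →
      Q ∈ (trunc C' L').gr p → P ⊗ₜ[k] Q ∈ segSub (trunc C L) (trunc C' L') := fun hP hQ =>
    piece_le_segSub p (Submodule.subset_span ⟨_, hP, _, hQ, rfl⟩)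
  have hgoal : ∀ B : (totAmb hT C C' L L').carrier, sval hT B = (f ^ K • x.1) ⊗ₜ[k] (g ^ K • y.1) →
      (t ^ K • degA hT C C' L L' d n (x ⊗ₜ[k] y)).1 = totP hT C C' L L' n B := fun B hB => by
    change t ^ K • totP hT C C' L L' n _ = _
    rw [← map_smul]
    exact congrArg _ (sval_injective hT (htz.trans hB.symm))
  rcases a with _ | a
  · rcases b with _ | b
    · obtain rfl : n = 0 := hab.symm
      let B : ((tot hT C C' L L').X 0).carrier := smk hT (u ⊗ₜ[k] v)
        (piece_le_segSub p (Submodule.subset_span ⟨u, cmp_mem _ p u₀, v, cmp_mem _ p v₀, rfl⟩))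
      refine ⟨B, Subtype.ext ?_⟩
      rw [hgoal (totAug hT C C' L L' B) (by
        change sval hT (segMap hT _ _ _ _ B) = _
        rw [sval_segMap, ← hu, ← hv]
        rfl), totP_totAug]
      rfl
    · obtain rfl : n = b + 1 := by omega
      let w : (totAmb hT C C' L L').carrier := smk hT ((f ^ K • x.1) ⊗ₜ[k] temb C' L' b v)
        (htmem hxg (isHom_temb C' L' b p v (cmp_mem _ p v₀)))
      refine ⟨(⟨totP hT C C' L L' b w, w, rfl⟩ : LinearMap.range (totP hT C C' L L' b)), Subtype.ext ?_⟩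
      rw [hgoal (totD hT C C' L L' w) ?_]
      · exact totD_totP hT C C' L L' b w
      · rw [sval_totD, sval_smk, tD, LinearMap.add_apply, tM, tM, TensorProduct.map_tmul, TensorProduct.map_tmul]
        change (td C L (f ^ K • x.1)) ⊗ₜ[k] _ + ((truncGD C L).σ (f ^ K • x.1)) ⊗ₜ[k] td C' L' (temb C' L' b v) = _
        rw [map_smul (td C L), show td C L x.1 = 0 from congrArg Subtype.val (d_of_harm hx), smul_zero,
          TensorProduct.zero_tmul, zero_add, truncGD_σ_apply, td_temb, hv, map_smul]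
        congr 2
        refine trunc_ext C L fun i => ?_
        rw [tσT_apply]
        by_cases hi : i.down.1 = 0
        · rw [hi, pow_zero, one_smul]
        · have := congrFun hx0 i
          rw [tπT_apply, if_neg hi] at this
          rw [← this, smul_zero]
  · obtain ⟨m, rfl⟩ : ∃ m, n = m + 1 := ⟨a + b, by omega⟩
    let w : (totAmb hT C C' L L').carrier := smk hT (temb C L a u ⊗ₜ[k] (g ^ K • y.1))
      (htmem (isHom_temb C L a p u (cmp_mem _ p u₀)) hyg)
    refine ⟨(⟨totP hT C C' L L' m w, w, rfl⟩ : LinearMap.range (totP hT C C' L L' m)), Subtype.ext ?_⟩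
    rw [hgoal (totD hT C C' L L' w) ?_]
    · exact totD_totP hT C C' L L' m w
    · rw [sval_totD, sval_smk, tD, LinearMap.add_apply, tM, tM, TensorProduct.map_tmul, TensorProduct.map_tmul]
      change (td C L (temb C L a u)) ⊗ₜ[k] (g ^ K • y.1) +
        ((truncGD C L).σ (temb C L a u)) ⊗ₜ[k] td C' L' (g ^ K • y.1) = _
      rw [map_smul (td C' L'), show td C' L' y.1 = 0 from congrArg Subtype.val (d_of_harm hy), smul_zero,
        TensorProduct.tmul_zero, add_zero, td_temb, hu]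

/-- The cohomology of the total complex is torsion. -/
theorem torsion_tot (hC : TorsCx C) (hC' : TorsCx C') (hinj : Function.Injective (C.d 0))
    (hinj' : Function.Injective (C'.d 0)) (j : ℕ) (z : ((tot hT C C' L L').X j).carrier)
    (hc : z ∈ (tot hT C C' L L').cyc j) : TorsElt ((tot hT C C' L L').bdy j) z := by
  rcases j with _ | n
  · rw [cyc_tot_zero hT C C' L L' hz hz' hinj hinj' hc]
    exact torsElt_zero _
  obtain ⟨S', hS⟩ := exists_sum_cmp ((tot hT C C' L L').X (n + 1)).gr z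
  rw [hS]
  refine TorsElt.sum _ _ _ fun d _ => ?_
  obtain ⟨w, hw, hwz⟩ := exists_degA hT C C' L L' d (cmp_mem ((tot hT C C' L L').X (n + 1)).gr d z)
  rw [← hwz]
  have hcd : degA hT C C' L L' d n w ∈ (tot hT C C' L L').cyc (n + 1) := by
    rw [hwz]; exact (tot hT C C' L L').isHomogeneous_cyc (n + 1) d hc
  have hd := tD_eq_zero_of_cyc hT C C' L L' d hw hcd
  have hharm : ∀ w', TorsElt ((tot hT C C' L L').bdy (n + 1))
      (degA hT C C' L L' d n (tE (degGD C L d) (degGD C' L' d) (tπ (degGD C L d) (degGD C' L' d) n w'))) := by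
    intro w'
    induction w' using TensorProduct.induction_on with
    | zero => simp only [map_zero]; exact torsElt_zero _
    | add a b ha hb => simp only [map_add]; exact ha.add _ hb
    | tmul a b =>
      rw [tπ, LinearMap.sum_apply, map_sum, map_sum]
      refine TorsElt.sum _ _ _ fun p hp => ?_
      rw [tE, tM, tM, TensorProduct.map_tmul, TensorProduct.map_tmul]
      exact torsElt_harm hT C C' L L' hz hz' hC hC' (Finset.mem_antidiagonal.1 hp) ⟨a, rfl⟩ ⟨b, rfl⟩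
  have h := hharm w
  rw [hw] at h
  rcases n with _ | n
  · rwa [eq_tE_of_zero _ _ hd hw] at h
  · have := h.add _ (torsElt_of_mem _ (sub_harm_mem_bdy hT C C' L L' d hw hd))
    rwa [add_sub_cancel] at this

omit hz hz' in
/-- The total complex computes the local cohomology of the Segre product. -/
theorem iso_cech_tot [IsNoetherianRing T] {l : List (HElt 𝒯)}
    (hl : ∀ n : ℤ, 0 < n → ∀ t ∈ 𝒯 n, t ∈ (hspan l).toIdeal) (hlpos : ∀ y ∈ l, 0 < y.deg)
    (h : ∀ a, LocTerm (C.X (a + 1))) (h' : ∀ a, LocTerm (C'.X (a + 1)))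
    (hz : ∀ a, L ≤ a → ∀ z : (C.X (a + 1)).carrier, z = 0) (hz' : ∀ a, L' ≤ a → ∀ z : (C'.X (a + 1)).carrier, z = 0)
    (hC : TorsCx C) (hC' : TorsCx C') (hinj : Function.Injective (C.d 0)) (hinj' : Function.Injective (C'.d 0))
    (q : ℕ) : GrLC.Iso ((cech (segMod (C.X 0) (C'.X 0) hT) l).H q) ((tot hT C C' L L').H q) :=
  GCx.iso_cech_of_acyclic (A := tot hT C C' L L') (fun n i g => van_tot hT C C' L L' hl h h' n i g)
    (fun n z hzc y hy => torsion_tot hT C C' L L' hz hz' hC hC' hinj hinj' n z hzc y.deg (hlpos y hy) y.val y.mem) q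

end

end GrothLib.Segre
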