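import Groth.Agent.Lib.Segre.SegMod
import Groth.Agent.Lib.Segre.DiffSplit

/-!
# The truncated complex of a graded complex as one graded differential module
-/

universe u

open DirectSum
open scoped TensorProduct

namespace GrothLib.Segre

open GrothLib.GrLC
open _root_.GrLC (GMod IsGrHom)
open GrothLib.GrDual (pieceK)

noncomputable section

namespace GDiff

variable {k : Type*} [Field k] {V : Type*} [AddCommGroup V] [Module k V]

/-- restriction to an invariant subspace -/
def restrict (C : GDiff k V) (W : Submodule k V) (hd : ∀ x ∈ W, C.d x ∈ W) (hπ : ∀ a, ∀ x ∈ W, C.π a x ∈ W) :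
    GDiff k W where
  L := C.L
  d := C.d.restrict hd
  π a := (C.π a).restrict (hπ a)
  d_d := LinearMap.ext fun x => Subtype.ext (LinearMap.congr_fun C.d_d x.1)
  π_π a b := LinearMap.ext fun x => Subtype.ext (by
    have h := LinearMap.congr_fun (C.π_π a b) x.1
    split_ifs at h ⊢ with hab <;> exact h)
  sum_π := LinearMap.ext fun x => Subtype.ext (by
    have h := LinearMap.congr_fun C.sum_π x.1
    simp only [LinearMap.sum_apply] at h
    simp only [LinearMap.sum_apply, AddSubmonoidClass.coe_finsetSum]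
    exact h)
  d_π a := LinearMap.ext fun x => Subtype.ext (LinearMap.congr_fun (C.d_π a) x.1)
  π_zero_d := LinearMap.ext fun x => Subtype.ext (LinearMap.congr_fun C.π_zero_d x.1)

theorem restrict_σ (C : GDiff k V) (W : Submodule k V) (hd : ∀ x ∈ W, C.d x ∈ W)
    (hπ : ∀ a, ∀ x ∈ W, C.π a x ∈ W) (x : W) : ((C.restrict W hd hπ).σ x : V) = C.σ x.1 := by
  simp only [σ, LinearMap.sum_apply, AddSubmonoidClass.coe_finsetSum]
  rfl

end GDiff

variable {k : Type u} [Field k] {R : Type u} [CommRing R] [Algebra k R] {𝒜 : ℤ → Submodule k R} [GradedAlgebra 𝒜]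
  (C : GCx.{u} 𝒜) (L : ℕ)

/-- the positive spots of a complex put together -/
abbrev trunc : GMod.{u} 𝒜 := GrLC.pi fun a : ULift.{u} (Fin L) => C.X (a.down.1 + 1)

/-- coordinate of a spot -/
def tpr (a : ℕ) : (trunc C L).carrier →ₗ[R] (C.X (a + 1)).carrier :=
  if h : a < L then (LinearMap.proj (⟨⟨a, h⟩⟩ : ULift.{u} (Fin L)) :
    (∀ b : ULift.{u} (Fin L), (C.X (b.down.1 + 1)).carrier) →ₗ[R] _) else 0

/-- inclusion of a spot -/
def temb (a : ℕ) : (C.X (a + 1)).carrier →ₗ[R] (trunc C L).carrier :=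
  if h : a < L then
    LinearMap.single R (fun b : ULift.{u} (Fin L) => (C.X (b.down.1 + 1)).carrier) ⟨⟨a, h⟩⟩
  else 0

/-- differential of the truncation -/
def td : (trunc C L).carrier →ₗ[R] (trunc C L).carrier :=
  LinearMap.pi fun
    | ⟨⟨0, _⟩⟩ => 0
    | ⟨⟨b + 1, h⟩⟩ => C.d (b + 1) ∘ₗ
        (LinearMap.proj (⟨⟨b, by omega⟩⟩ : ULift.{u} (Fin L)) :
          (∀ c : ULift.{u} (Fin L), (C.X (c.down.1 + 1)).carrier) →ₗ[R] _)

/-- projection to a spot -/
def tπT (a : ℕ) : (trunc C L).carrier →ₗ[R] (trunc C L).carrier :=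
  LinearMap.pi fun b => if b.down.1 = a then LinearMap.proj b else 0

/-- the sign -/
def tσT : (trunc C L).carrier →ₗ[R] (trunc C L).carrier :=
  LinearMap.pi fun b => ((-1 : ℤ) ^ b.down.1) • LinearMap.proj b

/-- the augmentation -/
def taug : (C.X 0).carrier →ₗ[R] (trunc C L).carrier := temb C L 0 ∘ₗ C.d 0

theorem trunc_ext {v w : (trunc C L).carrier} (h : ∀ b : ULift.{u} (Fin L), v b = w b) : v = w := funext h

theorem tπT_apply (a : ℕ) (v : (trunc C L).carrier) (b : ULift.{u} (Fin L)) :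
    tπT C L a v b = if b.down.1 = a then v b else 0 := by
  change (if b.down.1 = a then LinearMap.proj b else (0 : _ →ₗ[R] (C.X (b.down.1 + 1)).carrier)) v = _
  split_ifs <;> rfl

theorem td_apply_zero (v : (trunc C L).carrier) (h : 0 < L) : td C L v ⟨⟨0, h⟩⟩ = 0 := rfl

theorem td_apply_succ (v : (trunc C L).carrier) (b : ℕ) (h : b + 1 < L) :
    td C L v ⟨⟨b + 1, h⟩⟩ = C.d (b + 1) (v ⟨⟨b, by omega⟩⟩) := rfl

theorem tσT_apply (v : (trunc C L).carrier) (b : ULift.{u} (Fin L)) : tσT C L v b = ((-1 : ℤ) ^ b.down.1) • v b := rfl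

theorem mem_trunc_gr {g : ℤ} {v : (trunc C L).carrier} :
    v ∈ (trunc C L).gr g ↔ ∀ b : ULift.{u} (Fin L), v b ∈ (C.X (b.down.1 + 1)).gr g :=
  ⟨fun h b => h b trivial, fun h b _ => h b⟩

theorem isHom_tπT (a : ℕ) : IsHom (X := trunc C L) (Y := trunc C L) (tπT C L a) := fun g v hv =>
  (mem_trunc_gr C L).2 fun b => by
    rw [tπT_apply]
    split_ifs
    · exact (mem_trunc_gr C L).1 hv b
    · exact zero_mem _

theorem isHom_td : IsHom (X := trunc C L) (Y := trunc C L) (td C L) := fun g v hv =>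
  (mem_trunc_gr C L).2 fun b => by
    obtain ⟨⟨b, hb⟩⟩ := b
    rcases b with _ | b
    · rw [td_apply_zero C L v hb]
      exact zero_mem _
    · exact C.d_hom (b + 1) g _ ((mem_trunc_gr C L).1 hv ⟨⟨b, by omega⟩⟩)

theorem isHom_tσT : IsHom (X := trunc C L) (Y := trunc C L) (tσT C L) := fun g v hv =>
  (mem_trunc_gr C L).2 fun b => by
    rw [tσT_apply]
    exact AddSubgroup.zsmul_mem _ ((mem_trunc_gr C L).1 hv b) _

theorem tpr_of_lt {a : ℕ} (h : a < L) (v : (trunc C L).carrier) : tpr C L a v = v ⟨⟨a, h⟩⟩ := by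
  rw [tpr, dif_pos h]; rfl

theorem temb_apply_self {a : ℕ} (z : (C.X (a + 1)).carrier) (h : a < L) :
    temb C L a z ⟨⟨a, h⟩⟩ = z := by
  rw [temb, dif_pos h]
  exact Pi.single_eq_same (M := fun b : ULift.{u} (Fin L) => (C.X (b.down.1 + 1)).carrier) _ _

theorem temb_apply_ne {a : ℕ} (z : (C.X (a + 1)).carrier) (b : ULift.{u} (Fin L)) (h : b.down.1 ≠ a) :
    temb C L a z b = 0 := by
  by_cases ha : a < L
  · rw [temb, dif_pos ha]
    exact Pi.single_eq_of_ne (M := fun b : ULift.{u} (Fin L) => (C.X (b.down.1 + 1)).carrier)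
      (fun e => h (by rw [e])) _
  · rw [temb, dif_neg ha]
    rfl

theorem isHom_temb (a : ℕ) : IsHom (X := C.X (a + 1)) (Y := trunc C L) (temb C L a) := fun g z hz =>
  (mem_trunc_gr C L).2 fun b => by
    obtain ⟨⟨b, hb⟩⟩ := b
    by_cases h : b = a
    · subst h
      rw [temb_apply_self]
      exact hz
    · rw [temb_apply_ne C L z ⟨⟨b, hb⟩⟩ h]
      exact zero_mem _

theorem isHom_tpr (a : ℕ) : IsHom (X := trunc C L) (Y := C.X (a + 1)) (tpr C L a) := fun g v hv => by
  by_cases ha : a < L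
  · rw [tpr_of_lt C L ha]; exact (mem_trunc_gr C L).1 hv ⟨⟨a, ha⟩⟩
  · rw [tpr, dif_neg ha]; exact zero_mem _

theorem isHom_taug : IsHom (X := C.X 0) (Y := trunc C L) (taug C L) :=
  IsHom.comp (isHom_temb C L 0) (C.d_hom 0)

/-- the truncation as a graded differential vector space -/
def truncGD : GDiff k (trunc C L).carrier where
  L := L
  d := (td C L).restrictScalars k
  π a := (tπT C L a).restrictScalars k
  d_d := LinearMap.ext fun v => trunc_ext C L fun b => by
    obtain ⟨⟨b, hb⟩⟩ := b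
    rcases b with _ | _ | b
    · rfl
    · change C.d 1 (td C L v ⟨⟨0, _⟩⟩) = 0
      rw [td_apply_zero, map_zero]
    · exact C.d_d (b + 1) _
  π_π a b := LinearMap.ext fun v => trunc_ext C L fun c => by
    change tπT C L a (tπT C L b v) c = _
    rw [tπT_apply, tπT_apply]
    by_cases hab : a = b
    · subst hab
      rw [if_pos rfl]
      change _ = tπT C L a v c
      rw [tπT_apply]
      by_cases h : c.down.1 = a <;> simp [h]
    · rw [if_neg hab]
      change _ = (0 : (C.X (c.down.1 + 1)).carrier)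
      split_ifs with h1 h2
      · exact absurd (h1.symm.trans h2) hab
      · rfl
      · rfl
  sum_π := LinearMap.ext fun v => trunc_ext C L fun b => by
    rw [LinearMap.sum_apply, Module.End.one_apply]
    refine (Finset.sum_apply b (Finset.range L)
      (fun a => ((tπT C L a).restrictScalars k v : ∀ b : ULift.{u} (Fin L), (C.X (b.down.1 + 1)).carrier))).trans ?_
    rw [Finset.sum_eq_single b.down.1]
    · change tπT C L _ v b = v b
      rw [tπT_apply, if_pos rfl]
    · intro a _ ha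
      change tπT C L _ v b = 0
      rw [tπT_apply, if_neg ha.symm]
    · exact fun h => absurd (Finset.mem_range.2 b.down.2) h
  d_π a := LinearMap.ext fun v => trunc_ext C L fun b => by
    obtain ⟨⟨b, hb⟩⟩ := b
    change td C L (tπT C L a v) _ = tπT C L (a + 1) (td C L v) _
    rw [tπT_apply]
    rcases b with _ | b
    · rw [td_apply_zero, td_apply_zero]; simp
    · rw [td_apply_succ, td_apply_succ, tπT_apply]
      by_cases h : b = a
      · subst h; simp
      · simp [h]
  π_zero_d := LinearMap.ext fun v => trunc_ext C L fun b => by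
    obtain ⟨⟨b, hb⟩⟩ := b
    change tπT C L 0 (td C L v) _ = 0
    rw [tπT_apply]
    rcases b with _ | b
    · rw [if_pos rfl, td_apply_zero]
    · rw [if_neg (Nat.succ_ne_zero b)]

theorem truncGD_σ_apply (v : (trunc C L).carrier) : (truncGD C L).σ v = tσT C L v := by
  refine trunc_ext C L fun b => ?_
  have h := LinearMap.congr_fun ((truncGD C L).π_σ b.down.1) v
  have h' := congrFun h b
  change tπT C L _ ((truncGD C L).σ v) b = ((-1 : k) ^ b.down.1 • (truncGD C L).π b.down.1) v b at h'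
  rw [tπT_apply, if_pos rfl] at h'
  rw [h', tσT_apply, LinearMap.smul_apply]
  change ((-1 : k) ^ b.down.1) • tπT C L _ v b = _
  rw [tπT_apply, if_pos rfl, ← Int.cast_smul_eq_zsmul k]
  norm_num

theorem π_temb (a : ℕ) (z : (C.X (a + 1)).carrier) : tπT C L a (temb C L a z) = temb C L a z := by
  refine trunc_ext C L fun b => ?_
  rw [tπT_apply]
  by_cases h : b.down.1 = a
  · rw [if_pos h]
  · rw [if_neg h, temb_apply_ne C L z b h]

theorem temb_tpr {a : ℕ} (v : (trunc C L).carrier) : temb C L a (tpr C L a v) = tπT C L a v := by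
  refine trunc_ext C L fun b => ?_
  obtain ⟨⟨b, hb⟩⟩ := b
  rw [tπT_apply]
  by_cases h : b = a
  · subst h
    rw [temb_apply_self, if_pos rfl, tpr_of_lt C L hb]
  · rw [temb_apply_ne C L _ ⟨⟨b, hb⟩⟩ h, if_neg h]

theorem tpr_td (a : ℕ) (ha : a + 1 < L) (v : (trunc C L).carrier) :
    tpr C L (a + 1) (td C L v) = C.d (a + 1) (tpr C L a v) := by
  rw [tpr_of_lt C L ha, tpr_of_lt C L (Nat.lt_of_succ_lt ha)]
  rfl

variable {C L}

theorem td_temb (a : ℕ) (z : (C.X (a + 1)).carrier) : td C L (temb C L a z) = temb C L (a + 1) (C.d (a + 1) z) := by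
  refine trunc_ext C L fun b => ?_
  obtain ⟨⟨b, hb⟩⟩ := b
  rcases b with _ | b
  · rw [td_apply_zero, temb_apply_ne C L _ ⟨⟨0, hb⟩⟩ (Nat.succ_ne_zero a).symm]
  · rw [td_apply_succ]
    by_cases h : b = a
    · subst h; rw [temb_apply_self, temb_apply_self]
    · rw [temb_apply_ne C L z ⟨⟨b, by omega⟩⟩ h, temb_apply_ne C L _ ⟨⟨b + 1, hb⟩⟩ (show b + 1 ≠ a + 1 by omega),
        map_zero]

theorem td_taug (x : (C.X 0).carrier) : td C L (taug C L x) = 0 := by
  rw [taug, LinearMap.comp_apply, td_temb, C.d_d, map_zero]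

theorem π_taug (x : (C.X 0).carrier) : tπT C L 0 (taug C L x) = taug C L x := π_temb C L 0 _

variable (hz : ∀ a, L ≤ a → ∀ z : (C.X (a + 1)).carrier, z = 0)

include hz

theorem tpr_temb {a : ℕ} (z : (C.X (a + 1)).carrier) : tpr C L a (temb C L a z) = z := by
  by_cases ha : a < L
  · rw [tpr_of_lt C L ha, temb_apply_self]
  · exact (hz a (not_lt.1 ha) _).trans (hz a (not_lt.1 ha) z).symm

omit hz in
theorem locTerm_trunc (h : ∀ a, LocTerm (C.X (a + 1))) : LocTerm (trunc C L) := LocTerm.pi _ fun a => h _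

end

end GrothLib.Segre
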